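import Mathlib.AlgebraicGeometry.Morphisms.UniversallyOpen
import Mathlib.AlgebraicGeometry.Morphisms.Proper
import Mathlib.AlgebraicGeometry.FunctionField
import Mathlib.RingTheory.DedekindDomain.Basic
import Mathlib.Topology.KrullDimension
import Mathlib.Topology.Sober

/-! # The underlying space of an integral surface flat over a Dedekind base

Chains of specialisations, the generic fibre, one-dimensional closed irreducible subsets. -/

set_option autoImplicit false
set_option linter.unusedSectionVars false

universe u

open CategoryTheory AlgebraicGeometry TopologicalSpace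

namespace Groth.Agent.ArSurfBase

section Topo

variable {Y : Type u} [TopologicalSpace Y] [T0Space Y] [QuasiSober Y]

/-- The closed irreducible set attached to a point. -/
def clo (y : Y) : IrreducibleCloseds Y :=
  ⟨closure {y}, isIrreducible_singleton.closure, isClosed_closure⟩

theorem clo_lt {a b : Y} (h : a ⤳ b) (hne : a ≠ b) : clo b < clo a := by
  refine lt_of_le_of_ne (specializes_iff_closure_subset.1 h) fun he => hne ?_
  exact ((inseparable_iff_closure_eq.2 (congrArg SetLike.coe he.symm)) : Inseparable a b).eq

theorem two_le_dim {a b c : Y} (hab : a ⤳ b) (hne : a ≠ b) (hbc : b ⤳ c) (hne' : b ≠ c) :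
    2 ≤ topologicalKrullDim Y := by
  let s : LTSeries (IrreducibleCloseds Y) :=
    ⟨2, ![clo c, clo b, clo a], fun i => by
      fin_cases i
      exacts [clo_lt hbc hne', clo_lt hab hne]⟩
  exact Order.LTSeries.length_le_krullDim s

theorem three_le_dim {a b c d : Y} (hab : a ⤳ b) (hne : a ≠ b) (hbc : b ⤳ c) (hne' : b ≠ c)
    (hcd : c ⤳ d) (hne'' : c ≠ d) : 3 ≤ topologicalKrullDim Y := by
  let s : LTSeries (IrreducibleCloseds Y) :=
    ⟨3, ![clo d, clo c, clo b, clo a], fun i => by
      fin_cases i
      exacts [clo_lt hcd hne'', clo_lt hbc hne', clo_lt hab hne]⟩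
  exact Order.LTSeries.length_le_krullDim s

theorem exists_specializes_ne_of_dim_pos (h : 0 < topologicalKrullDim Y) :
    ∃ a b : Y, a ⤳ b ∧ a ≠ b := by
  obtain ⟨S, T, hlt⟩ := Order.krullDim_pos_iff.1 h
  refine ⟨T.2.genericPoint, S.2.genericPoint, ?_, fun he => ?_⟩
  · rw [specializes_iff_mem_closure, T.2.isGenericPoint_genericPoint T.3]
    exact hlt.le (S.2.isGenericPoint_genericPoint S.3).mem
  · have h1 : (T : Set Y) = S := by
      exact (T.2.isGenericPoint_genericPoint T.3).symm.trans
        ((congrArg (fun x => closure {x}) he).trans (S.2.isGenericPoint_genericPoint S.3))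
    exact hlt.ne (IrreducibleCloseds.ext h1.symm)

theorem isClosed_singleton_of_forall {y : Y} (h : ∀ z, y ⤳ z → z = y) : IsClosed ({y} : Set Y) := by
  have : closure {y} = ({y} : Set Y) :=
    Set.Subset.antisymm (fun z hz => h z (specializes_iff_mem_closure.2 hz)) subset_closure
  rw [← this]
  exact isClosed_closure

/-- In a space of dimension at most two, a point strictly between a point and a specialisation of it
is sent to a closed point. -/
theorem isClosed_singleton_of_chain (hd : topologicalKrullDim Y ≤ 2) {a b c : Y} (hab : a ⤳ b)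
    (hne : a ≠ b) (hbc : b ⤳ c) (hne' : b ≠ c) : IsClosed ({c} : Set Y) := by
  refine isClosed_singleton_of_forall fun z hz => ?_
  by_contra h
  exact absurd ((three_le_dim hab hne hbc hne' hz (Ne.symm h)).trans hd) (by decide)

theorem middle_eq_of_chain (hd : topologicalKrullDim Y ≤ 2) {a b b' c : Y} (hab : a ⤳ b')
    (hne : a ≠ b') (hb'b : b' ⤳ b) (hbc : b ⤳ c) (hne' : b ≠ c) : b' = b := by
  by_contra h
  exact absurd ((three_le_dim hab hne hb'b h hbc hne').trans hd) (by decide)

end Topo

section Fibred

variable {R : Type u} [CommRing R] [IsDomain R] {X : Scheme.{u}} (f : X ⟶ Spec (CommRingCat.of R))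

theorem asIdeal_eq_bot_genericPoint [IsIntegral X] [Flat f] :
    (f.base (genericPoint X)).asIdeal = ⊥ := by
  let η : (Spec (CommRingCat.of R) : Scheme.{u}) := ⟨⊥, Ideal.isPrime_bot⟩
  obtain ⟨a, ha, hfa⟩ := Flat.generalizingMap f
    (show η ⤳ f.base (genericPoint X) from (PrimeSpectrum.le_iff_specializes η _).1 bot_le)
  have : a = genericPoint X :=
    ((genericPoint_spec X).specializes trivial).antisymm ha |>.eq.symm
  rw [this] at hfa
  rw [hfa]

theorem asIdeal_eq_bot_of_specializes {x z : X} (h : x ⤳ z) (hz : (f.base z).asIdeal = ⊥) :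
    (f.base x).asIdeal = ⊥ :=
  le_bot_iff.1 (hz ▸ (PrimeSpectrum.le_iff_specializes _ _).2 (h.map f.continuous))

theorem ne_genericPoint [IsIntegral X] [Flat f] {x : X} (hx : (f.base x).asIdeal ≠ ⊥) :
    genericPoint X ≠ x :=
  fun e => hx (e ▸ asIdeal_eq_bot_genericPoint f)

/-- A closed point of a proper scheme over a ring which is not a field avoids the generic fibre. -/
theorem asIdeal_ne_bot_of_isClosed [UniversallyClosed f] (hR : ¬ IsField R) {z : X}
    (hz : IsClosed ({z} : Set X)) : (f.base z).asIdeal ≠ ⊥ := by
  intro h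
  have h1 : IsClosed ({f.base z} : Set (Spec (CommRingCat.of R))) := by
    simpa using (f.isClosedMap _ hz)
  have h2 : (f.base z).asIdeal.IsMaximal := (PrimeSpectrum.isClosed_singleton_iff_isMaximal _).1 h1
  rw [h] at h2
  exact hR (Ring.isField_iff_maximal_bot.2 h2)

end Fibred

end Groth.Agent.ArSurfBase
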