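import Groth.Agent.ArSurfBase.IrredSpread
import Groth.Agent.ArSurfBase.Topo
import Groth.Agent.NagataLib.IntClosure
import Groth.Agent.CDiv6.Factorial
import Groth.Agent.S9821
import Groth.Prelude.Def_Coh

/-! # In almost every fibre of a normal fibred surface the components are disjoint -/

set_option autoImplicit false
set_option linter.style.haveILetI false
set_option linter.unusedSectionVars false
set_option backward.isDefEq.respectTransparency false
set_option backward.isDefEq.respectTransparency.types false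

universe u

open CategoryTheory AlgebraicGeometry IsLocalRing TopologicalSpace

namespace Groth.Agent.ArSurfBase

variable {R : Type u} [CommRing R] {X : Scheme.{u}} (f : X ⟶ Spec (CommRingCat.of R))

/-- The ring map from the base to a stalk. -/
noncomputable def rho (x : X) : R →+* X.presheaf.stalk x :=
  (X.presheaf.germ ⊤ x trivial).hom.comp (Coh.toGlobal f)

theorem rho_mem_maximalIdeal_iff (x : X) (r : R) :
    rho f x r ∈ maximalIdeal _ ↔ r ∈ (f.base x).asIdeal := by
  have h1 : IsUnit (rho f x r) ↔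
      x ∈ X.basicOpen (f.appTop ((Scheme.ΓSpecIso (CommRingCat.of R)).inv r)) :=
    (X.mem_basicOpen (U := ⊤) _ x trivial).symm
  rw [mem_maximalIdeal, mem_nonunits_iff, h1, ← Scheme.preimage_basicOpen_top]
  show ¬ f.base x ∈ (Spec (CommRingCat.of R)).basicOpen _ ↔ _
  rw [basicOpen_eq_of_affine]
  exact not_not

theorem stalkSpecializes_rho {x y : X} (h : y ⤳ x) (r : R) :
    X.presheaf.stalkSpecializes h (rho f x r) = rho f y r :=
  TopCat.Presheaf.germ_stalkSpecializes_apply _ _ _ _

theorem div_cancel_aux {F : Type*} [Field F] {A Y M Z B : F} (hY : Y ≠ 0) :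
    A * (Y * M) * (Z / Y * B) = A * Z * (M * B) := by
  field_simp

set_option maxHeartbeats 1600000 in
/-- In almost every fibre the curves are pairwise disjoint: outside the zero locus of some nonzero `r`,
two non-closed points of a closed fibre with a common proper specialisation are equal. -/
theorem exists_disjoint_components [IsDomain R] [IsNoetherianRing R] [Ring.DimensionLEOne R] [IsIntegral X]
    [IsLocallyNoetherian X] [CompactSpace X] [Flat f] [LocallyOfFiniteType f]
    (hnor : ∀ x : X, IsIntegrallyClosed (X.presheaf.stalk x)) (hdim : topologicalKrullDim X ≤ 2) :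
    ∃ r : R, r ≠ 0 ∧ ∀ ξ ξ' z : X, (f.base ξ).asIdeal ≠ ⊥ → (f.base ξ').asIdeal ≠ ⊥ → r ∉ (f.base ξ).asIdeal →
      ξ ⤳ z → ξ ≠ z → ξ' ⤳ z → ξ' ≠ z → ξ = ξ' := by
  classical
  let η := genericPoint X
  let L := X.functionField
  obtain ⟨U, hU, hηU, -⟩ := exists_isAffineOpen_mem_and_subset (X := X) (x := η) (U := ⊤) trivial
  haveI : Nonempty U := ⟨⟨η, hηU⟩⟩
  haveI : IsFractionRing Γ(X, U) L := functionField_isFractionRing_of_isAffineOpen X U hU
  haveI := (S9821.result X).1 (fun x => ⟨inferInstance, hnor x⟩) U hU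
  -- the algebra structures
  letI : Algebra R L := (rho f η).toAlgebra
  have hinjL : Function.Injective (algebraMap R L) := by
    refine (injective_iff_map_eq_zero _).2 fun r hr => ?_
    have h1 := (rho_mem_maximalIdeal_iff f η r).1 (by
      rw [show rho f η r = 0 from hr]; exact zero_mem _)
    rwa [asIdeal_eq_bot_genericPoint f, Ideal.mem_bot] at h1
  let K := FractionRing R
  haveI : FaithfulSMul R L := (faithfulSMul_iff_algebraMap_injective R L).2 hinjL
  letI : Algebra K L := FractionRing.liftAlgebra R L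
  haveI : IsScalarTower R K L := FractionRing.isScalarTower_liftAlgebra R L
  letI : Algebra R Γ(X, U) := ((X.presheaf.map (homOfLE (le_top : U ≤ ⊤)).op).hom.comp (Coh.toGlobal f)).toAlgebra
  haveI : IsScalarTower R Γ(X, U) L := IsScalarTower.of_algebraMap_eq fun r =>
    (TopCat.Presheaf.germ_res_apply X.presheaf (homOfLE (le_top : U ≤ ⊤)) η hηU (Coh.toGlobal f r)).symm
  haveI hft : Algebra.FiniteType R Γ(X, U) := by
    have h := LocallyOfFiniteType.finiteType_appLE f (isAffineOpen_top _) hU le_top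
    have h2 := h.comp (RingHom.FiniteType.of_surjective (Scheme.ΓSpecIso (CommRingCat.of R)).inv.hom
      (ConcreteCategory.bijective_of_isIso (Scheme.ΓSpecIso (CommRingCat.of R)).inv).2)
    exact h2
  haveI : Algebra.EssFiniteType R L := by
    haveI : Algebra.EssFiniteType Γ(X, U) L := Algebra.EssFiniteType.of_isLocalization L (nonZeroDivisors Γ(X, U))
    exact Algebra.EssFiniteType.comp R Γ(X, U) L
  haveI : Algebra.EssFiniteType K L := Algebra.EssFiniteType.of_comp R K L
  -- the separable constants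
  let Ks := separableClosure K L
  haveI : FiniteDimensional K Ks := NagataLib.finiteDimensional_of_isAlgebraic Ks
  let bs := Module.finBasis K Ks
  choose m hm using fun i => IsIntegral.exists_multiple_integral_of_isLocalization (nonZeroDivisors R)
    ((bs i : Ks) : L) (((mem_separableClosure_iff.1 (bs i).2).isIntegral) : IsIntegral K ((bs i : Ks) : L))
  let S : Set L := Set.range fun i => m i • ((bs i : Ks) : L)
  let R₁ : Subalgebra R L := Algebra.adjoin R S
  haveI hR₁fin : Module.Finite R R₁ := Module.Finite.iff_fg.2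
    (fg_adjoin_of_finite (Set.finite_range _) fun x hx => by obtain ⟨i, rfl⟩ := hx; exact hm i)
  haveI : Algebra.IsIntegral R R₁ := Algebra.IsIntegral.of_finite R R₁
  haveI : IsNoetherianRing R₁ := isNoetherianRing_of_fg (S := R₁) (Subalgebra.fg_def.2 ⟨_, Set.finite_range _, rfl⟩)
  have hR₁Ks : ∀ a : R₁, (a : L) ∈ Ks := fun ⟨a, ha⟩ => by
    show a ∈ Ks
    induction ha using Algebra.adjoin_induction with
    | mem x hx =>
      obtain ⟨i, rfl⟩ := hx
      show m i • ((bs i : Ks) : L) ∈ Ks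
      rw [Submonoid.smul_def, ← algebraMap_smul K (m i : R)]
      exact Ks.toSubalgebra.smul_mem (bs i).2 _
    | algebraMap r => rw [IsScalarTower.algebraMap_apply R K L]; exact Ks.algebraMap_mem _
    | add x y _ _ hx hy => exact Ks.add_mem hx hy
    | mul x y _ _ hx hy => exact Ks.mul_mem hx hy
  letI : Algebra R₁ Ks := ((algebraMap R₁ L).codRestrict Ks.toSubfield.toSubring hR₁Ks).toAlgebra
  haveI : IsScalarTower R₁ Ks L := IsScalarTower.of_algebraMap_eq fun _ => rfl
  haveI : FaithfulSMul R₁ Ks := (faithfulSMul_iff_algebraMap_injective _ _).2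
    fun a b h => Subtype.ext (congrArg (fun z : Ks => (z : L)) h)
  have hR₀ : ∀ r : R, algebraMap R L r ∈ R₁ := R₁.algebraMap_mem
  haveI : IsFractionRing R₁ Ks := IsFractionRing.of_field R₁ Ks fun z => by
    choose x y hy hxy using fun i => IsFractionRing.div_surjective R (bs.repr z i)
    let d : R := ∏ i, (y i * (m i : R))
    have hd : d ≠ 0 := Finset.prod_ne_zero_iff.2 fun i _ =>
      mul_ne_zero (nonZeroDivisors.ne_zero (hy i)) (nonZeroDivisors.ne_zero (m i).2)
    have hmem : algebraMap R L d * (z : L) ∈ R₁ := by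
      rw [← bs.sum_repr z, IntermediateField.coe_sum, Finset.mul_sum]
      refine R₁.sum_mem fun i _ => ?_
      have hy0 : algebraMap R L (y i) ≠ 0 := (map_ne_zero_iff _ hinjL).2 (nonZeroDivisors.ne_zero (hy i))
      have : algebraMap R L d * ((bs.repr z i • bs i : Ks) : L) =
          algebraMap R L (∏ j ∈ Finset.univ.erase i, y j * (m j : R)) * algebraMap R L (x i) * (m i • ((bs i : Ks) : L)) := by
        simp only [d]
        rw [← Finset.prod_erase_mul _ _ (Finset.mem_univ i), map_mul, map_mul, IntermediateField.coe_smul,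
          Algebra.smul_def, ← hxy i, map_div₀, ← IsScalarTower.algebraMap_apply, ← IsScalarTower.algebraMap_apply,
          Submonoid.smul_def, Algebra.smul_def]
        exact div_cancel_aux hy0
      rw [this]
      exact R₁.mul_mem (R₁.mul_mem (R₁.algebraMap_mem _) (R₁.algebraMap_mem _)) (Algebra.subset_adjoin ⟨i, rfl⟩)
    refine ⟨⟨_, hmem⟩, ⟨_, hR₀ d⟩, Subtype.ext ?_⟩
    show (z : L) = algebraMap R L d * (z : L) / algebraMap R L d
    rw [mul_div_cancel_left₀ _ ((map_ne_zero_iff _ hinjL).2 hd)]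
  have hintR : ∀ a : R₁, IsIntegral R (a : L) := fun a => (Algebra.IsIntegral.isIntegral a).map R₁.val
  -- `R₁` maps into every stalk
  have hst : ∀ (x : X) (a : R₁), ∃ b : X.presheaf.stalk x, algebraMap _ L b = (a : L) := by
    intro x a
    haveI := hnor x
    letI : Algebra R (X.presheaf.stalk x) := (rho f x).toAlgebra
    haveI : IsScalarTower R (X.presheaf.stalk x) L :=
      IsScalarTower.of_algebraMap_eq fun r => (stalkSpecializes_rho f (genericPoint_specializes x) r).symm
    exact IsIntegrallyClosed.isIntegral_iff.1 ((hintR a).tower_top)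
  choose τ hτ using hst
  have hinjst : ∀ x : X, Function.Injective (algebraMap (X.presheaf.stalk x) L) := fun x =>
    IsFractionRing.injective _ _
  let τh : ∀ x : X, R₁ →+* X.presheaf.stalk x := fun x =>
    { toFun := τ x
      map_one' := hinjst x (by rw [hτ, map_one]; rfl)
      map_mul' := fun a b => hinjst x (by rw [map_mul, hτ, hτ, hτ]; rfl)
      map_zero' := hinjst x (by rw [hτ, map_zero]; rfl)
      map_add' := fun a b => hinjst x (by rw [map_add, hτ, hτ, hτ]; rfl) }
  let t : X → Ideal R₁ := fun x => (maximalIdeal _).comap (τh x)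
  have htR : ∀ x, (t x).comap (algebraMap R R₁) = (f.base x).asIdeal := fun x => Ideal.ext fun r => by
    rw [← rho_mem_maximalIdeal_iff f x r]
    rw [Ideal.mem_comap]
    show τ x (algebraMap R R₁ r) ∈ maximalIdeal _ ↔ _
    rw [show τ x (algebraMap R R₁ r) = rho f x r from hinjst x
      ((hτ x _).trans (stalkSpecializes_rho f (genericPoint_specializes x) r).symm)]
  have hspec : ∀ {x z : X}, x ⤳ z → t x ≤ t z := fun {x z} h a ha => by
    show τ z a ∈ maximalIdeal _
    by_contra hu
    rw [mem_maximalIdeal, mem_nonunits_iff, not_not] at hu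
    have h1 : X.presheaf.stalkSpecializes h (τ z a) = τ x a := hinjst x (by
      refine Eq.trans ?_ (hτ x a).symm
      rw [← hτ z a]
      show X.presheaf.stalkSpecializes _ (X.presheaf.stalkSpecializes h (τ z a)) = X.presheaf.stalkSpecializes _ (τ z a)
      rw [← ConcreteCategory.comp_apply, TopCat.Presheaf.stalkSpecializes_comp])
    exact ((mem_nonunits_iff.1 ((mem_maximalIdeal _).1 ha)) (show IsUnit (τ x a) from
      h1 ▸ hu.map (X.presheaf.stalkSpecializes h).hom))
  -- the algebra `B` over `R₁`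
  have hB : ∀ a : R₁, ∃ b : Γ(X, U), algebraMap _ L b = (a : L) := fun a =>
    IsIntegrallyClosed.isIntegral_iff.1 ((hintR a).tower_top)
  choose ψ hψ using hB
  have hBinj : Function.Injective (algebraMap Γ(X, U) L) := IsFractionRing.injective _ _
  let ψh : R₁ →+* Γ(X, U) :=
    { toFun := ψ
      map_one' := hBinj (by rw [hψ, map_one]; rfl)
      map_mul' := fun a b => hBinj (by rw [map_mul, hψ, hψ, hψ]; rfl)
      map_zero' := hBinj (by rw [hψ, map_zero]; rfl)
      map_add' := fun a b => hBinj (by rw [map_add, hψ, hψ, hψ]; rfl) }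
  letI : Algebra R₁ Γ(X, U) := ψh.toAlgebra
  haveI : IsScalarTower R₁ Γ(X, U) L := IsScalarTower.of_algebraMap_eq fun a => (hψ a).symm
  haveI : IsScalarTower R R₁ Γ(X, U) := IsScalarTower.of_algebraMap_eq fun r => hBinj (by
    rw [← IsScalarTower.algebraMap_apply]; exact (hψ (algebraMap R R₁ r)).symm)
  haveI : Algebra.FiniteType R₁ Γ(X, U) := Algebra.FiniteType.of_restrictScalars_finiteType R R₁ _
  have hsep : ∀ a : L, IsSeparable Ks a → a ∈ Set.range (algebraMap Ks L) := fun a ha =>
    ⟨⟨a, mem_separableClosure_iff.2 (IsSeparable.of_algebra_isSeparable_of_isSeparable K ha)⟩, rfl⟩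
  obtain ⟨f₁, hf₁, hirr⟩ := IrredSpread.exists_irreducible_fibres (R₁ := R₁) (B := Γ(X, U))
    (fun a b h => Subtype.ext (by rw [← hψ a, ← hψ b]; exact congrArg _ h)) Ks L hsep
  obtain ⟨r₁, hr₁, hr₁0⟩ : ∃ r₁ : R, r₁ ∈ (Ideal.span {f₁}).comap (algebraMap R R₁) ∧ r₁ ≠ 0 :=
    Submodule.exists_mem_ne_zero_of_ne_bot
      (Ideal.comap_ne_bot_of_integral_mem hf₁ (Ideal.mem_span_singleton_self f₁) (Algebra.IsIntegral.isIntegral f₁))
  -- the components of the complement of `U`
  haveI : AlgebraicGeometry.IsNoetherian X := { __ := ‹IsLocallyNoetherian X›, __ := ‹CompactSpace X› }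
  obtain ⟨C, hCf, hCc, hCi, hCU⟩ :=
    NoetherianSpace.exists_finite_set_isClosed_irreducible (α := X) (s := (U : Set X)ᶜ) U.2.isClosed_compl
  have hc : ∀ Z : C, ∃ r : R, r ≠ 0 ∧
      ((f.base (hCi _ Z.2).genericPoint).asIdeal ≠ ⊥ → r ∈ (f.base (hCi _ Z.2).genericPoint).asIdeal) := by
    intro Z
    by_cases h : (f.base (hCi _ Z.2).genericPoint).asIdeal = ⊥
    · exact ⟨1, one_ne_zero, fun h' => absurd h h'⟩
    · obtain ⟨r, hr, hr0⟩ := Submodule.exists_mem_ne_zero_of_ne_bot h
      exact ⟨r, hr0, fun _ => hr⟩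
  choose rc hrc0 hrc using hc
  haveI : Fintype C := hCf.fintype
  refine ⟨r₁ * ∏ Z, rc Z, mul_ne_zero hr₁0 (Finset.prod_ne_zero_iff.2 fun Z _ => hrc0 Z),
    fun ξ ξ' z hξ hξ' hr hz hne hz' hne' => ?_⟩
  have hbase : ∀ {x w : X}, x ⤳ w → (f.base x).asIdeal ≠ ⊥ → (f.base x).asIdeal = (f.base w).asIdeal := by
    intro x w h hx
    haveI : (f.base x).asIdeal.IsMaximal := (f.base x).isPrime.isMaximal hx
    exact ‹(f.base x).asIdeal.IsMaximal›.eq_of_le (f.base w).isPrime.ne_top
      ((PrimeSpectrum.le_iff_specializes _ _).2 (h.map f.continuous))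
  have hs : (f.base ξ').asIdeal = (f.base ξ).asIdeal := (hbase hz' hξ').trans (hbase hz hξ).symm
  have hmemU : ∀ x : X, (f.base x).asIdeal ≠ ⊥ → r₁ * ∏ Z, rc Z ∉ (f.base x).asIdeal → x ⤳ z → x ≠ z → x ∈ U := by
    intro x hx hrx hxz hxne
    by_contra hxU
    obtain ⟨Z, hZ, hxZ⟩ : ∃ Z ∈ C, x ∈ Z := Set.mem_sUnion.1 (hCU.subset hxU)
    have hw := (hCi Z hZ).isGenericPoint_genericPoint_closure
    rw [(hCc Z hZ).closure_eq] at hw
    have hwU : (hCi Z hZ).genericPoint ∉ U := hCU.ge (Set.mem_sUnion.2 ⟨Z, hZ, hw.mem⟩)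
    have hwx := middle_eq_of_chain hdim (genericPoint_specializes (hCi Z hZ).genericPoint)
      (fun e => hwU (e ▸ hηU)) (hw.specializes hxZ) hxz hxne
    refine hrx (Ideal.mul_mem_left _ _ ?_)
    refine Ideal.mem_of_dvd _ (Finset.dvd_prod_of_mem rc (Finset.mem_univ ⟨Z, hZ⟩)) ?_
    have := hrc ⟨Z, hZ⟩
    simp only [hwx] at this
    exact this hx
  have hξU := hmemU ξ hξ hr hz hne
  have hξ'U := hmemU ξ' hξ' (hs ▸ hr) hz' hne'
  have hmax : ∀ {x : X}, (f.base x).asIdeal ≠ ⊥ → (t x).IsMaximal := fun {x} hx => by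
    haveI : (t x).IsPrime := Ideal.IsPrime.comap _
    haveI : ((t x).comap (algebraMap R R₁)).IsMaximal := by rw [htR]; exact (f.base x).isPrime.isMaximal hx
    exact Ideal.isMaximal_of_isIntegral_of_isMaximal_comap (R := R) _ inferInstance
  have htz : t ξ = t z := (hmax hξ).eq_of_le (Ideal.IsPrime.comap _ : (t z).IsPrime).ne_top (hspec hz)
  have htz' : t ξ' = t z := (hmax hξ').eq_of_le (Ideal.IsPrime.comap _ : (t z).IsPrime).ne_top (hspec hz')
  have htU : ∀ {x : X} (hx : x ∈ U), (hU.primeIdealOf ⟨x, hx⟩).asIdeal.comap (algebraMap R₁ Γ(X, U)) = t x := by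
    intro x hx
    refine Ideal.ext fun a => ?_
    letI := X.presheaf.algebra_section_stalk (U := U) ⟨x, hx⟩
    haveI := hU.isLocalization_stalk ⟨x, hx⟩
    show ψ a ∈ (hU.primeIdealOf ⟨x, hx⟩).asIdeal ↔ τ x a ∈ maximalIdeal _
    rw [← IsLocalization.AtPrime.to_map_mem_maximal_iff (X.presheaf.stalk x) (hU.primeIdealOf ⟨x, hx⟩).asIdeal (ψ a),
      show algebraMap Γ(X, U) (X.presheaf.stalk x) (ψ a) = τ x a from hinjst x ((Eq.trans
        (TopCat.Presheaf.germ_stalkSpecializes_apply X.presheaf hx _ _) (hψ a)).trans (hτ x a).symm)]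
  obtain ⟨P₀, hP₀, hP₀t, hle, hle'⟩ := hirr (hU.primeIdealOf ⟨ξ, hξU⟩).asIdeal (hU.primeIdealOf ⟨ξ', hξ'U⟩).asIdeal
    (by rw [htU, htU, htz, htz']) (by
      rw [htU]
      intro h
      refine hr (Ideal.mul_mem_right _ _ ?_)
      rw [← htR ξ]
      exact (Ideal.span_singleton_le_iff_mem _).2 h hr₁)
  let ξ₀ : X := hU.fromSpec ⟨P₀, hP₀⟩
  have hξ₀U : ξ₀ ∈ U := hU.range_fromSpec.subset ⟨_, rfl⟩
  have hP : hU.primeIdealOf ⟨ξ₀, hξ₀U⟩ = ⟨P₀, hP₀⟩ :=
    hU.fromSpec.isOpenEmbedding.injective (hU.fromSpec_primeIdealOf _)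
  have hsp : ∀ {x : X} (hx : x ∈ U), P₀ ≤ (hU.primeIdealOf ⟨x, hx⟩).asIdeal → ξ₀ ⤳ x := fun {x} hx h => by
    have h1 := ((PrimeSpectrum.le_iff_specializes (⟨P₀, hP₀⟩ : PrimeSpectrum Γ(X, U)) (hU.primeIdealOf ⟨x, hx⟩)).1 h).map
      hU.fromSpec.continuous
    rwa [show hU.fromSpec (hU.primeIdealOf ⟨x, hx⟩) = x from hU.fromSpec_primeIdealOf _] at h1
  have hne₀ : genericPoint X ≠ ξ₀ := fun e => hξ (by
    have h1 : (t ξ₀).comap (algebraMap R R₁) = (t ξ).comap (algebraMap R R₁) := by
      rw [← htU hξ₀U, hP, hP₀t, htU]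
    rw [htR, htR, ← e, asIdeal_eq_bot_genericPoint f] at h1
    exact h1.symm)
  exact (middle_eq_of_chain hdim (genericPoint_specializes ξ₀) hne₀ (hsp hξU hle) hz hne).symm.trans
    (middle_eq_of_chain hdim (genericPoint_specializes ξ₀) hne₀ (hsp hξ'U hle') hz' hne')

end Groth.Agent.ArSurfBase
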