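import Groth.Agent.VarBase.Section
import Groth.Agent.S0002
import Mathlib.RingTheory.FiniteType

/-!
# Sections of high powers of an effective invertible module at points of its divisor, over a Noetherian base
-/

set_option linter.style.haveILetI false
set_option linter.unusedSectionVars false
set_option backward.isDefEq.respectTransparency false
set_option backward.isDefEq.respectTransparency.types false

universe u

open CategoryTheory CategoryTheory.Limits AlgebraicGeometry TopologicalSpace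
open CategoryTheory.Abelian
open Groth.Agent.PnCoh.Finite (mapLin deltaLin)
open Groth.Agent.H23.TrivBasic (locus mem_locus_iff locus_eq_basicOpen)
open Groth.Agent.VarBase (TwistVanOn isoOn_genLocus mem_locus_map_iso germ_eq_smul_of_notMem_locus stalkMap_germ twOneSucc powSuccIso isNoetherian_of_proper')

noncomputable section

namespace Groth.Agent.ArSurfBase.BaseSection

variable (A : Type u) [CommRing A] {X : Scheme.{u}} [X.Over (Spec (CommRingCat.of A))]

section
variable {S : ShortComplex X.Modules}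

theorem range_mapLin_f (hS : S.ShortExact) (n : ℕ) :
    LinearMap.range (mapLin A S.f n) = LinearMap.ker (mapLin A S.g n) := by
  have hT := QCoh.toAb_shortExact hS
  refine le_antisymm ?_ (fun x hx => Ext.covariant_sequence_exact₂ _ hT x hx)
  rintro _ ⟨y, rfl⟩
  refine LinearMap.mem_ker.2 ?_
  show Sheaf.H.map _ n (Sheaf.H.map _ n y) = 0
  refine (Groth.Agent.PnCoh.Finite.map_map (Y := X.toPresheafedSpace.carrier)
    (((QCoh.toAbFunctor X).map_comp S.f S.g).symm.trans
      (by rw [S.zero, Functor.map_zero])) n y).trans ?_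
  show ((Sheaf.functorH _ n).map 0).hom y = 0
  rw [Functor.map_zero]
  rfl

theorem range_mapLin_g (hS : S.ShortExact) (n : ℕ) :
    LinearMap.range (mapLin A S.g n) = LinearMap.ker (deltaLin A hS n) := by
  refine le_antisymm ?_ fun x hx =>
    Groth.Agent.PnCoh.Finite.exists_of_deltaLin_eq_zero A hS n (LinearMap.mem_ker.1 hx)
  rintro _ ⟨y, rfl⟩
  exact LinearMap.mem_ker.2 ((QCoh.Ab.connecting_eq_zero_iff
    (X := X.toPresheafedSpace.carrier) (QCoh.toAb_shortExact hS) n _).2 ⟨y, rfl⟩)

theorem range_deltaLin (hS : S.ShortExact) (n : ℕ) :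
    LinearMap.range (deltaLin A hS n) = LinearMap.ker (mapLin A S.f (n + 1)) := by
  have hT := QCoh.toAb_shortExact hS
  refine le_antisymm ?_ fun x hx => ?_
  · rintro _ ⟨y, rfl⟩
    refine LinearMap.mem_ker.2 ?_
    show ((y.comp hT.extClass rfl).comp (Ext.mk₀ ((QCoh.toAbFunctor X).map S.f)) (add_zero _)) = 0
    rw [Ext.comp_assoc_of_third_deg_zero]
    exact (congrArg (fun z => Ext.comp y z _) hT.extClass_comp).trans (Ext.comp_zero _ _ _ _ _)
  · exact Ext.covariant_sequence_exact₁ _ hT x hx rfl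

end

/-- Linear equivalences on cohomology from isomorphisms. -/
noncomputable def hhEquiv {A : Type u} [CommRing A] [X.Over (Spec (CommRingCat.of A))] {M N : X.Modules} (e : M ≅ N) (n : ℕ) : Coh.HH X M n ≃ₗ[A] Coh.HH X N n :=
  LinearEquiv.ofLinearMap (mapLin A e.hom n) (mapLin A e.inv n)
    (LinearMap.ext fun x => (PnCoh.Finite.map_map (Y := X.toPresheafedSpace.carrier)
      (((QCoh.toAbFunctor X).map_comp e.inv e.hom).symm.trans
        (by rw [e.inv_hom_id, CategoryTheory.Functor.map_id]; rfl)) n x).trans (Sheaf.H.map_id_apply x))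
    (LinearMap.ext fun x => (PnCoh.Finite.map_map (Y := X.toPresheafedSpace.carrier)
      (((QCoh.toAbFunctor X).map_comp e.hom e.inv).symm.trans
        (by rw [e.hom_inv_id, CategoryTheory.Functor.map_id]; rfl)) n x).trans (Sheaf.H.map_id_apply x))

theorem surjective_mapLin_of_epi {S : ShortComplex X.Modules} (hS : S.ShortExact) {q : ℕ}
    (h : Subsingleton (Coh.HH X S.X₁ (q + 1))) : Function.Surjective (mapLin A S.g q) := fun x => by
  have hx : x ∈ LinearMap.ker (deltaLin A hS q) := LinearMap.mem_ker.2 (h.elim _ _)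
  rw [← range_mapLin_g A hS q] at hx
  exact hx

theorem injective_mapLin_g {S : ShortComplex X.Modules} (hS : S.ShortExact) {q : ℕ}
    (h : Subsingleton (Coh.HH X S.X₁ q)) : Function.Injective (mapLin A S.g q) := by
  rw [← LinearMap.ker_eq_bot, ← range_mapLin_f A hS q, eq_bot_iff]
  rintro _ ⟨y, rfl⟩
  rw [h.elim y 0, map_zero]
  exact Submodule.zero_mem _

theorem surjective_mapLin_f {S : ShortComplex X.Modules} (hS : S.ShortExact) {q : ℕ}
    (h : Subsingleton (Coh.HH X S.X₃ q)) : Function.Surjective (mapLin A S.f q) := fun x => by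
  have hx : x ∈ LinearMap.ker (mapLin A S.g q) := LinearMap.mem_ker.2 (h.elim _ _)
  rw [← range_mapLin_f A hS q] at hx
  exact hx

theorem injective_mapLin_f {S : ShortComplex X.Modules} (hS : S.ShortExact) {q : ℕ}
    (h : Subsingleton (Coh.HH X S.X₃ q)) : Function.Injective (mapLin A S.f (q + 1)) := by
  rw [← LinearMap.ker_eq_bot, ← range_deltaLin A hS q, eq_bot_iff]
  rintro _ ⟨y, rfl⟩
  rw [h.elim y 0, map_zero]
  exact Submodule.zero_mem _

/-- A map with acyclic kernel and cokernel: surjective on `H^q`, `q ≥ 1`, bijective for `q ≥ 2`. -/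
theorem mapLin_twist {M₁ M₂ : X.Modules} (φ : M₁ ⟶ M₂) (F : X.Modules ⥤ X.Modules) [F.Additive]
    [PreservesFiniteLimits F] [PreservesFiniteColimits F]
    (hK : ∀ q, Subsingleton (Coh.HH X (F.obj (kernel φ)) (q + 1)))
    (hC : ∀ q, Subsingleton (Coh.HH X (F.obj (cokernel φ)) (q + 1))) (q : ℕ) :
    Function.Surjective (mapLin A (F.map φ) (q + 1)) ∧ Function.Bijective (mapLin A (F.map φ) (q + 2)) := by
  have h₁ : (ShortComplex.mk (kernel.ι φ) (Abelian.factorThruImage φ)
      ((cancel_mono (Abelian.image.ι φ)).1 (by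
        rw [Category.assoc, Abelian.image.fac, kernel.condition, zero_comp]))).ShortExact :=
    { exact := ShortComplex.exact_of_f_is_kernel _ (KernelFork.IsLimit.ofι' _ _ fun {T} t ht =>
        ⟨kernel.lift φ t (by rw [← Abelian.image.fac φ, reassoc_of% ht, zero_comp]), kernel.lift_ι _ _ _⟩)
      mono_f := inferInstance
      epi_g := inferInstance }
  have h₂ : (ShortComplex.mk (Abelian.image.ι φ) (cokernel.π φ) (kernel.condition _)).ShortExact :=
    { exact := ShortComplex.exact_of_f_is_kernel _ (kernelIsKernel (cokernel.π φ))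
      mono_f := inferInstance
      epi_g := inferInstance }
  have hφ : F.map φ = F.map (Abelian.factorThruImage φ) ≫ F.map (Abelian.image.ι φ) := by
    rw [← F.map_comp, Abelian.image.fac]
  have hfun : ∀ p, (mapLin A (F.map φ) p : _ → _) =
      mapLin A (F.map (Abelian.image.ι φ)) p ∘ mapLin A (F.map (Abelian.factorThruImage φ)) p := fun p =>
    funext fun x => by
      rw [Function.comp_apply, FFun.mapLin_comp]
      exact FFun.mapLin_congr (A := A) hφ p x
  refine ⟨?_, ?_⟩
  · rw [hfun]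
    exact (surjective_mapLin_f A (h₂.map_of_exact F) (hC q)).comp
      (surjective_mapLin_of_epi A (h₁.map_of_exact F) (hK (q + 1)))
  · rw [hfun]
    exact Function.Bijective.comp
      ⟨injective_mapLin_f A (h₂.map_of_exact F) (q := q + 1) (hC q),
        surjective_mapLin_f A (h₂.map_of_exact F) (hC (q + 1))⟩
      ⟨injective_mapLin_g A (h₁.map_of_exact F) (hK (q + 1)),
        surjective_mapLin_of_epi A (h₁.map_of_exact F) (hK (q + 2))⟩

/-- A map of modules twisted by a high power: isomorphism on high cohomology if it is one off `T`. -/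
theorem exists_mapLin_bijective [IsNoetherianRing A] [IsProper (X ↘ Spec (CommRingCat.of A))] {L : X.Modules}
    (hL : PicF.IsInvertible L) {T : Set X} (hT : TwistVanOn L T)
    {U : X.Opens} (hU : (U : Set X)ᶜ ⊆ T) {M₁ M₂ : X.Modules} (hA : Coh.IsCoh M₁) (hB : Coh.IsCoh M₂)
    (φ : M₁ ⟶ M₂) (hφ : Snapper.IsoOn U φ) :
    ∃ N, ∀ n, N ≤ n → ∀ q, Function.Surjective (mapLin A ((AmpleVan.tw (CohB1.tensorPow L n)).map φ) (q + 1)) ∧
      Function.Bijective (mapLin A ((AmpleVan.tw (CohB1.tensorPow L n)).map φ) (q + 2)) := by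
  haveI := isNoetherian_of_proper' A (X := X)
  obtain ⟨hk, hc⟩ := Snapper.support_subset_compl hφ
  obtain ⟨N₁, e₁⟩ := hT _ (QCoh.isCoh_kernel hA hB φ) (hk.trans hU)
  obtain ⟨N₂, e₂⟩ := hT _ (QCoh.isCoh_cokernel hA.1 hB φ) (hc.trans hU)
  refine ⟨max N₁ N₂, fun n hn q => ?_⟩
  haveI := AmpleVan.isEquivalence_tw (InvX.isInvertible_tensorPow hL n)
  haveI : (AmpleVan.tw (CohB1.tensorPow L n)).Additive := Functor.additive_of_preserves_binary_products _
  exact mapLin_twist A φ (AmpleVan.tw (CohB1.tensorPow L n))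
    (e₁ n (le_trans (le_max_left _ _) hn)) (e₂ n (le_trans (le_max_right _ _) hn)) q

/-- If `H¹` of the sub injects, global sections surject onto the quotient. -/
theorem app_top_surjective_of_injective {S : ShortComplex X.Modules} (hS : S.ShortExact)
    (h : Function.Injective (mapLin A S.f 1)) : Function.Surjective (S.g.app ⊤) := fun q => by
  let qH : Coh.HH X S.X₃ 0 := (Sheaf.H.equiv₀ (Coh.toAb S.X₃) isTerminalTop).symm q
  have h0 : mapLin A S.f 1 (deltaLin A hS 0 qH) = 0 :=
    LinearMap.mem_ker.1 ((range_deltaLin A hS 0).le ⟨qH, rfl⟩)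
  have hd : qH ∈ LinearMap.ker (deltaLin A hS 0) :=
    LinearMap.mem_ker.2 (h (h0.trans (map_zero _).symm))
  obtain ⟨y, hy⟩ := (range_mapLin_g A hS 0).ge hd
  refine ⟨Sheaf.H.equiv₀ (Coh.toAb S.X₂) isTerminalTop y, ?_⟩
  refine (Sheaf.H.equiv₀_naturality isTerminalTop ((QCoh.toAbFunctor X).map S.g) y).trans ?_
  refine (congrArg (Sheaf.H.equiv₀ (Coh.toAb S.X₃) isTerminalTop) hy).trans ?_
  exact AddEquiv.apply_symm_apply _ _

variable [IsNoetherianRing A] [IsProper (X ↘ Spec (CommRingCat.of A))] {L : X.Modules}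

/-- The first cohomology groups of the powers stabilise. -/
theorem exists_h1_stable (hL : PicF.IsInvertible L) (s : Coh.structureModule X ⟶ L)
    (hT : TwistVanOn L ((CohB1.genLocus L s : Set X)ᶜ)) :
    ∃ N, ∀ n, N ≤ n → Nonempty (Coh.HH X (CohB1.tensorPow L n) 1 ≃ₗ[A] Coh.HH X (CohB1.tensorPow L (n + 1)) 1) := by
  haveI := isNoetherian_of_proper' A (X := X)
  obtain ⟨N, hN⟩ := exists_mapLin_bijective A hL hT (le_refl ((CohB1.genLocus L s : Set X)ᶜ))
    QCoh.isCoh_structureModule' (AmpleVan.isCoh_invertible hL) s (isoOn_genLocus s)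
  let M : ℕ → Type u := fun m => Coh.HH X (CohB1.tensorPow L (N + m)) 1
  let c : ∀ m, M m →ₗ[A] M (m + 1) := fun m =>
    (hhEquiv (A := A) (powSuccIso L (N + m)) 1).toLinearMap ∘ₗ
      mapLin A ((AmpleVan.tw (CohB1.tensorPow L (N + m))).map s) 1 ∘ₗ
      (hhEquiv (A := A) (CurveTensor.structureTensorIso (CohB1.tensorPow L (N + m))).symm 1).toLinearMap
  have hc : ∀ m, Function.Surjective (c m) := fun m => by
    simp only [c, LinearMap.coe_comp]
    exact (LinearEquiv.surjective _).comp (((hN _ (Nat.le_add_right N m) 0).1).comp (LinearEquiv.surjective _))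
  haveI : Module.Finite A (M 0) := S0002.result A X _ (AmpleVan.isCoh_invertible (InvX.isInvertible_tensorPow hL _)) 1
  let φ : ∀ m, M 0 →ₗ[A] M m := fun m => Nat.rec LinearMap.id (fun m f => c m ∘ₗ f) m
  have hφ : ∀ m, Function.Surjective (φ m) := fun m => by
    induction m with
    | zero => exact Function.surjective_id
    | succ m ih => exact (hc m).comp ih
  let K : ℕ →o Submodule A (M 0) := ⟨fun m => LinearMap.ker (φ m), monotone_nat_of_le_succ fun m x hx => by
    show c m (φ m x) = 0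
    rw [LinearMap.mem_ker.1 hx, map_zero]⟩
  obtain ⟨m₀, hm₀⟩ := monotone_stabilizes_iff_noetherian.2 (inferInstance : IsNoetherian A (M 0)) K
  refine ⟨N + m₀, fun n hn => ?_⟩
  obtain ⟨m, rfl⟩ := Nat.exists_eq_add_of_le (le_trans (Nat.le_add_right N m₀) hn)
  refine ⟨LinearEquiv.ofBijective (c m) ⟨?_, hc m⟩⟩
  rw [← LinearMap.ker_eq_bot, eq_bot_iff]
  intro y hy
  obtain ⟨x, rfl⟩ := hφ m y
  have h1 : x ∈ K (m + 1) := hy
  have h2 : K m₀ = K m := hm₀ m (by omega)
  have h3 : K m₀ = K (m + 1) := hm₀ (m + 1) (by omega)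
  rw [← h3, h2] at h1
  exact LinearMap.mem_ker.1 h1

set_option maxHeartbeats 1000000 in
include A in
/-- At a closed point every large power has a generating section. -/
theorem exists_sections_eventually [IsIntegral X] (hL : PicF.IsInvertible L) (s : Coh.structureModule X ⟶ L) [Mono s]
    (hT : TwistVanOn L ((CohB1.genLocus L s : Set X)ᶜ)) {x : X} (hx : IsClosed ({x} : Set X)) :
    ∃ N, ∀ n, N ≤ n → ∃ t : Γ(CohB1.tensorPow L (n + 1), ⊤), x ∈ locus t := by
  haveI := isNoetherian_of_proper' A (X := X)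
  by_cases hxs : x ∈ CohB1.genLocus L s
  · refine ⟨0, fun n _ => ⟨InvX.one (InvX.powHom s (n + 1)), ?_⟩⟩
    show x ∈ CohB1.genLocus _ (InvX.ofSect (InvX.one (InvX.powHom s (n + 1))))
    rwa [AVAmple.ofSect_one, InvX.genLocus_powHom hL s n]
  let O := Coh.structureModule X
  let Q := ClSub.quotMod (CurvePoint.ptIdeal x hx)
  have hQ : Coh.IsCoh Q := ParShLib.isCoh_quotMod (CurvePoint.ptIdeal x hx)
  have hQs : CohB1.support Q ⊆ {x} := CurvePoint.support_quot_subset x hx
  let I := ClSub.idealMod (CurvePoint.ptIdeal x hx)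
  have hO : Coh.IsCoh O := QCoh.isCoh_structureModule'
  have hI : Coh.IsCoh I := QCoh.isCoh_kernel hO hQ _
  have hLc := AmpleVan.isCoh_invertible hL
  haveI := AmpleVan.isEquivalence_tw hL
  haveI : (AmpleVan.tw L).Additive := Functor.additive_of_preserves_binary_products _
  let S : ShortComplex X.Modules :=
    (ShortComplex.mk (ClSub.idealModι (CurvePoint.ptIdeal x hx))
      (ClSub.toSubscheme (CurvePoint.ptIdeal x hx)) (kernel.condition _)).map (AmpleVan.tw L)
  have hS : S.ShortExact := (CurvePoint.shortExact_pt x hx).map_of_exact _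
  have hX3s : CohB1.support S.X₃ ⊆ {x} := fun y hy => by
    have h := (QCoh.support_iso (CurveTensor.commIso Q L) (AmpleVan.isCoh_tensor hQ hLc).1).le hy
    exact hQs (CurveTensor.support_tensor_subset h)
  -- the section factors through the ideal of the point
  let σ : O ⟶ S.X₂ := s ≫ (CurveTensor.structureTensorIso L).inv
  have hσ0 : σ ≫ S.g = 0 := by
    refine AmpleX.eq_zero_of_one_eq_zero _ ?_
    refine TopCat.Presheaf.section_ext ⟨S.X₃.presheaf, S.X₃.isSheaf⟩ ⊤ _ _ fun y hy => ?_
    rw [map_zero]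
    by_cases hyx : y = x
    · subst hyx
      obtain ⟨a, ha, w, haw⟩ := germ_eq_smul_of_notMem_locus hL (t := InvX.one s) (x := y) (by
        show y ∉ CohB1.genLocus L (InvX.ofSect (InvX.one s))
        rwa [AVAmple.ofSect_one])
      show S.X₃.presheaf.germ ⊤ y hy (((CurveTensor.structureTensorIso L).inv ≫ S.g).app ⊤ (InvX.one s)) = 0
      rw [← stalkMap_germ ((CurveTensor.structureTensorIso L).inv ≫ S.g) hy, haw,
        map_smul ((DerSch.stalkFunctor X y).map _).hom]
      let e := ((DerSch.stalkFunctor X y).mapIso (CurveTensor.commIso Q L)).toLinearEquiv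
      refine e.injective ?_
      rw [map_zero]
      refine Eq.trans (map_smul e a _) ?_
      exact CurvePoint.smul_tensor_eq_zero y hx (G := L) ha _
    · haveI : Subsingleton (S.X₃.presheaf.stalk y) := not_not.1 fun h => hyx (hX3s h)
      exact Subsingleton.elim _ _
  haveI := hS.mono_f
  obtain ⟨u, hu⟩ : ∃ u : O ⟶ S.X₁, u ≫ S.f = σ := hS.exact.lift' σ hσ0
  have hu' : Snapper.IsoOn (CohB1.genLocus L s) u := fun y hy => by
    haveI := isoOn_genLocus s y hy
    let F := DerSch.stalkFunctor X y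
    haveI : IsIso (F.map u ≫ F.map S.f) := by
      rw [← F.map_comp, hu, F.map_comp]; infer_instance
    haveI : Mono (F.map S.f) := inferInstance
    haveI : Epi (F.map S.f) := epi_of_epi (F.map u) (F.map S.f)
    haveI : IsIso (F.map S.f) := isIso_of_mono_of_epi _
    exact IsIso.of_isIso_comp_right (F.map u) (F.map S.f)
  obtain ⟨N₁, hN₁⟩ := exists_h1_stable A hL s hT
  obtain ⟨N₂, hN₂⟩ := exists_mapLin_bijective A hL hT (le_refl ((CohB1.genLocus L s : Set X)ᶜ)) hO
    (AmpleVan.isCoh_tensor hI hLc) u hu'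
  obtain ⟨N₃, hN₃⟩ := hT S.X₃ (AmpleVan.isCoh_tensor hQ hLc) (hX3s.trans fun y hy => by
    rw [Set.mem_singleton_iff.1 hy]; exact hxs)
  refine ⟨max N₁ (max N₂ N₃), fun n hn => ?_⟩
  have hn₁ : N₁ ≤ n := le_trans (le_max_left _ _) hn
  have hn₂ : N₂ ≤ n := le_trans (le_trans (le_max_left _ _) (le_max_right N₁ _)) hn
  have hn₃ : N₃ ≤ n := le_trans (le_trans (le_max_right _ _) (le_max_right N₁ _)) hn
  have hP := InvX.isInvertible_tensorPow hL n
  let P := CohB1.tensorPow L n
  let F := AmpleVan.tw P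
  haveI := AmpleVan.isEquivalence_tw hP
  haveI : F.Additive := Functor.additive_of_preserves_binary_products _
  have hSn : (ShortComplex.mk (F.map S.f) (F.map S.g)
      (by rw [← F.map_comp, S.zero, F.map_zero])).ShortExact :=
    hS.map_of_exact F
  haveI := S0002.result A X _ (AmpleVan.isCoh_invertible hP) 1
  haveI := S0002.result A X _ (AmpleVan.isCoh_invertible (InvX.isInvertible_tensorPow hL (n + 1))) 1
  -- `H¹` of the ideal twist injects
  let i₁ : P ≅ F.obj O := (CurveTensor.structureTensorIso P).symm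
  let a : Coh.HH X P 1 →ₗ[A] Coh.HH X (F.obj S.X₁) 1 := mapLin A (F.map u) 1 ∘ₗ
    (hhEquiv (A := A) i₁ 1).toLinearMap
  let b : Coh.HH X (F.obj S.X₁) 1 →ₗ[A] Coh.HH X (CohB1.tensorPow L (n + 1)) 1 :=
    (hhEquiv (A := A) (twOneSucc L n) 1).toLinearMap ∘ₗ mapLin A (F.map S.f) 1
  have ha : Function.Surjective a :=
    (hN₂ n hn₂ 0).1.comp (LinearEquiv.surjective _)
  have hf : Function.Surjective (mapLin A (F.map S.f) 1) := surjective_mapLin_f A (q := 1) hSn (hN₃ n hn₃ 0)
  have hb : Function.Surjective b := by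
    rw [LinearMap.coe_comp]
    exact (LinearEquiv.surjective _).comp hf
  have hbij : Function.Injective (b ∘ₗ a) := by
    obtain ⟨eq⟩ := hN₁ n hn₁
    have h := OrzechProperty.injective_of_surjective_endomorphism (eq.symm.toLinearMap ∘ₗ (b ∘ₗ a))
      (eq.symm.surjective.comp (hb.comp ha))
    exact fun x y hxy => h (congrArg eq.symm hxy)
  have hinj : Function.Injective (mapLin A (F.map S.f) 1) := fun y y' h => by
    obtain ⟨z, rfl⟩ := ha y
    obtain ⟨z', rfl⟩ := ha y'
    exact congrArg a (hbij (congrArg (hhEquiv (A := A) (twOneSucc L n) 1) h))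
  -- so sections lift
  let Φ : F.obj S.X₃ ≅ (DCoh.tensorBi.obj ((AmpleVan.tw P).obj L)).obj Q :=
    (AmpleVan.twComp L P).app Q ≪≫ CurveTensor.commIso Q _
  have hX3 : Coh.IsCoh (F.obj S.X₃) :=
    AmpleVan.isCoh_tensor (AmpleVan.isCoh_tensor hQ hLc) (AmpleVan.isCoh_invertible hP)
  have hX3' : CohB1.support (F.obj S.X₃) ⊆ {x} := fun y hy =>
    hQs (CurveTensor.support_tensor_subset ((QCoh.support_iso Φ hX3.1).le hy))
  have hne : x ∈ CohB1.support (F.obj S.X₃) := by
    by_contra h
    have hz : IsZero (F.obj S.X₃) := QCoh.isZero_of_app_eq_zero hX3.1 fun W t =>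
      TopCat.Presheaf.section_ext ⟨(F.obj S.X₃).presheaf, (F.obj S.X₃).isSheaf⟩ W _ _ fun y hy => by
        haveI : Subsingleton ((F.obj S.X₃).presheaf.stalk y) :=
          not_not.1 fun hy' => h (Set.mem_singleton_iff.1 (hX3' hy') ▸ hy')
        exact Subsingleton.elim _ _
    have hz' : IsZero ((AmpleVan.tw L ⋙ F).obj Q) := hz
    haveI : (AmpleVan.tw L ⋙ F).IsEquivalence := inferInstance
    have hz2 : IsZero Q := (Functor.map_isZero (AmpleVan.tw L ⋙ F).inv hz').of_iso
      ((AmpleVan.tw L ⋙ F).asEquivalence.unitIso.app Q)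
    exact CurvePoint.not_subsingleton_stalk x hx
      (ModuleCat.subsingleton_of_isZero ((DerSch.stalkFunctor X x).map_isZero hz2))
  haveI := not_subsingleton_iff_nontrivial.1 hne
  obtain ⟨m, hm⟩ := exists_ne (0 : (F.obj S.X₃).presheaf.stalk x)
  obtain ⟨q, hq, -⟩ := CurveCohLib.exists_section_single hX3
    (fun y hy => by rw [Set.mem_singleton_iff.1 (hX3' hy)]; exact hx) hne m
  have hlift : ∃ t : Γ(F.obj S.X₂, ⊤), (F.map S.g).app ⊤ t = q :=
    app_top_surjective_of_injective A hSn hinj q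
  obtain ⟨t, ht⟩ := hlift
  refine ⟨(twOneSucc L n).hom.app ⊤ t, mem_locus_map_iso _ ?_⟩
  by_contra hxt
  have hinv : PicF.IsInvertible (F.obj S.X₂) :=
    InvX.isInvertible_tensorMod (InvX.isInvertible_tensorMod InvX.isInvertible_structureModule hL) hP
  obtain ⟨c, hc, w, hcw⟩ := germ_eq_smul_of_notMem_locus hinv hxt
  refine hm (hq.symm.trans ?_)
  rw [← ht, ← stalkMap_germ (F.map S.g) (show x ∈ (⊤ : X.Opens) from trivial) t, hcw,
    map_smul ((DerSch.stalkFunctor X x).map _).hom]
  let e := ((DerSch.stalkFunctor X x).mapIso Φ).toLinearEquiv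
  refine e.injective ?_
  rw [map_zero]
  refine Eq.trans (map_smul e c _) ?_
  exact CurvePoint.smul_tensor_eq_zero x hx (G := (AmpleVan.tw P).obj L) hc _

include A in
/-- At a closed point some power has a generating section. -/
theorem exists_section_mem [IsIntegral X] (hL : PicF.IsInvertible L) (s : Coh.structureModule X ⟶ L) [Mono s]
    (hT : TwistVanOn L ((CohB1.genLocus L s : Set X)ᶜ)) {x : X} (hx : IsClosed ({x} : Set X)) :
    ∃ n, 0 < n ∧ ∃ t : Γ(CohB1.tensorPow L n, ⊤), x ∈ locus t := by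
  obtain ⟨N, hN⟩ := exists_sections_eventually A hL s hT hx
  exact ⟨N + 1, N.succ_pos, hN N le_rfl⟩

end Groth.Agent.ArSurfBase.BaseSection
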