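import Groth.Agent.ArSurfBase.FibreDiv
import Groth.Agent.BirNormal.Basic
import Groth.Agent.S9821
import Groth.Agent.ProperNhd.ConnFibre
import Groth.Agent.HensCouple7.Gamma

/-! # Proper birational morphisms onto normal schemes: connected fibres -/

set_option autoImplicit false
set_option linter.style.haveILetI false
set_option linter.unusedSectionVars false
set_option backward.isDefEq.respectTransparency false
set_option backward.isDefEq.respectTransparency.types false

universe u

open CategoryTheory CategoryTheory.Limits AlgebraicGeometry IsLocalRing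

namespace Groth.Agent.ArSurfBase

theorem isIntegralElem_app {X Y : Scheme.{u}} (f : X ⟶ Y) [UniversallyClosed f] {U : Y.Opens} (hU : IsAffineOpen U)
    (b : Γ(X, f ⁻¹ᵁ U)) : (f.app U).hom.IsIntegralElem b := by
  haveI : IsAffine U.toScheme := hU
  haveI : UniversallyClosed (f ∣_ U) := MorphismProperty.of_isPullback (isPullback_morphismRestrict f U).flip inferInstance
  have h1 := isIntegral_appTop_of_universallyClosed (f ∣_ U)
  rw [← Scheme.Hom.resLE_eq_morphismRestrict, RingHom.isIntegral_respectsIso.arrow_mk_iso_iff (arrowResLEAppIso f _ _ le_rfl),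
    Scheme.Hom.appLE_eq_app] at h1
  exact h1 b

variable {X Y : Scheme.{u}}

/-- `f_* O_X = O_Y` for `f` universally closed and birational onto a normal integral scheme. -/
theorem isIso_app_of_birational [IsIntegral X] [IsIntegral Y] (f : X ⟶ Y) [UniversallyClosed f]
    (hN : ∀ y : Y, IsIntegrallyClosed (Y.presheaf.stalk y))
    (e : f (genericPoint X) = genericPoint Y)
    (hbir : Function.Bijective
      (Y.presheaf.stalkSpecializes (specializes_of_eq e) ≫ f.stalkMap (genericPoint X)).hom)
    (U : Y.Opens) (hU : IsAffineOpen U) : IsIso (f.app U) := by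
  by_cases hne : Nonempty U
  swap
  · have hbot : U = ⊥ := by
      ext x; simp only [TopologicalSpace.Opens.coe_bot, Set.mem_empty_iff_false, iff_false]
      exact fun hx => hne ⟨⟨x, hx⟩⟩
    subst hbot
    haveI : Subsingleton Γ(Y, ⊥) := CommRingCat.subsingleton_of_isTerminal Y.sheaf.isTerminalOfEmpty
    haveI : Subsingleton Γ(X, f ⁻¹ᵁ ⊥) := by
      rw [show f ⁻¹ᵁ (⊥ : Y.Opens) = ⊥ from rfl]
      exact CommRingCat.subsingleton_of_isTerminal X.sheaf.isTerminalOfEmpty
    exact (ConcreteCategory.isIso_iff_bijective _).2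
      ⟨fun a b _ => Subsingleton.elim a b, fun b => ⟨0, Subsingleton.elim _ _⟩⟩
  haveI := hne
  have hηU : genericPoint Y ∈ U :=
    (genericPoint_spec Y).mem_open_set_iff U.isOpen |>.mpr
      ⟨_, trivial, hne.some.2⟩
  have hηV : genericPoint X ∈ f ⁻¹ᵁ U := show f (genericPoint X) ∈ U from e ▸ hηU
  haveI : IsFractionRing Γ(Y, U) Y.functionField := functionField_isFractionRing_of_isAffineOpen Y U hU
  haveI := (S9821.result Y).1 (fun y => ⟨inferInstance, hN y⟩) U hU
  set ψ := (Y.presheaf.stalkSpecializes (specializes_of_eq e) ≫ f.stalkMap (genericPoint X)).hom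
  let ε : Y.functionField ≃+* X.functionField := RingEquiv.ofBijective ψ hbir
  have hsq : ∀ a : Γ(Y, U), ε (algebraMap Γ(Y, U) Y.functionField a) =
      X.presheaf.germ (f ⁻¹ᵁ U) (genericPoint X) hηV (f.app U a) := fun a => by
    show ψ (Y.presheaf.germ U (genericPoint Y) _ a) = _
    simp only [ψ, CommRingCat.hom_comp, RingHom.comp_apply]
    rw [TopCat.Presheaf.germ_stalkSpecializes_apply]
    exact f.germ_stalkMap_apply U (genericPoint X) hηV a
  have hgX := germ_injective_of_isIntegral (X := X) (genericPoint X) hηV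
  refine (ConcreteCategory.isIso_iff_bijective _).2 ⟨fun a b hab => ?_, fun b => ?_⟩
  · apply IsFractionRing.injective Γ(Y, U) Y.functionField
    apply ε.injective
    rw [hsq, hsq, hab]
  · have hint : (f.app U).hom.IsIntegralElem b := isIntegralElem_app f hU b
    set z := ε.symm (X.presheaf.germ (f ⁻¹ᵁ U) (genericPoint X) hηV b) with hz
    have hzint : IsIntegral Γ(Y, U) z := by
      obtain ⟨P, hP, hP0⟩ := hint
      refine ⟨P, hP, ε.injective ?_⟩
      show ε.toRingHom (P.eval₂ _ _) = ε 0
      rw [map_zero, Polynomial.hom_eval₂]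
      have h2 : ε.toRingHom.comp (algebraMap Γ(Y, U) Y.functionField) =
          (X.presheaf.germ (f ⁻¹ᵁ U) (genericPoint X) hηV).hom.comp (f.app U).hom := RingHom.ext hsq
      rw [h2, show ε.toRingHom z = X.presheaf.germ (f ⁻¹ᵁ U) (genericPoint X) hηV b from
        ε.apply_symm_apply _, ← Polynomial.hom_eval₂, hP0, map_zero]
    obtain ⟨a, ha⟩ := IsIntegrallyClosed.isIntegral_iff.1 hzint
    refine ⟨a, hgX ?_⟩
    rw [← hsq, ha, hz, RingEquiv.apply_symm_apply]

/-- A proper morphism with `f_* O_X = O_Y` has connected fibres. -/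
theorem isPreconnected_fibre_of_isIso_app [IsLocallyNoetherian Y] (f : X ⟶ Y) [IsProper f]
    (h : ∀ U : Y.Opens, IsAffineOpen U → IsIso (f.app U)) (y : Y) :
    _root_.IsPreconnected (f ⁻¹' {y}) := by
  obtain ⟨U, hU, hy, -⟩ := exists_isAffineOpen_mem_and_subset (X := Y) (x := y) (U := ⊤) trivial
  obtain ⟨B, _, _, ι, π, hBN, hBC, hflat, hπ, hcomp⟩ :=
    ProperNhd.exists_complete_extension (A := Y.presheaf.stalk y) _ (RingHom.id (ResidueField (Y.presheaf.stalk y)))
  haveI : IsLocalHom ι := ⟨fun a ha => by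
    have h1 : IsUnit (π (ι a)) := ha.map π
    rw [show π (ι a) = residue _ a from RingHom.congr_fun hcomp a] at h1
    exact (isUnit_map_iff _ a).1 h1⟩
  haveI := H23.RatExtend.flat_fromSpecStalk Y y
  haveI : Flat (Spec.map (CommRingCat.ofHom ι)) := Flat.SpecMap_iff.2 hflat
  let c : Spec (CommRingCat.of B) ⟶ Y := Spec.map (CommRingCat.ofHom ι) ≫ Y.fromSpecStalk y
  have hcl : c (closedPoint B) = y := by
    show Y.fromSpecStalk y (Spec.map (CommRingCat.ofHom ι) (closedPoint B)) = y
    rw [show Spec.map (CommRingCat.ofHom ι) (closedPoint B) = closedPoint _ from IsLocalRing.comap_closedPoint ι,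
      Scheme.fromSpecStalk_closedPoint]
  have hr : Set.range c ⊆ Set.range U.ι := by
    rw [U.range_ι]
    rintro _ ⟨p, rfl⟩
    exact (show c p ⤳ y from hcl ▸ (IsLocalRing.specializes_closedPoint p).map c.continuous).mem_open U.isOpen hy
  let cU := IsOpenImmersion.lift U.ι c hr
  have hcU : cU ≫ U.ι = c := IsOpenImmersion.lift_fac _ _ _
  haveI : Flat c := inferInstance
  haveI : Flat cU := MorphismProperty.of_postcomp (W := @Flat) (W' := @IsOpenImmersion) cU U.ι inferInstance
    (by rwa [hcU])
  haveI : IsAffine U.toScheme := hU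
  haveI : UniversallyClosed (f ∣_ U) := MorphismProperty.of_isPullback (isPullback_morphismRestrict f U).flip inferInstance
  haveI : IsProper (f ∣_ U) := MorphismProperty.of_isPullback (isPullback_morphismRestrict f U).flip inferInstance
  haveI : CompactSpace (f ⁻¹ᵁ U).toScheme := QuasiCompact.compactSpace_of_compactSpace (f ∣_ U)
  haveI : QuasiSeparatedSpace (f ⁻¹ᵁ U).toScheme := quasiSeparatedSpace_of_quasiSeparated (f ∣_ U)
  let g := pullback.snd (f ∣_ U) cU
  let m := pullback.fst (f ∣_ U) cU
  haveI : IsIso (f ∣_ U).appTop := by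
    haveI := h U hU
    have := (MorphismProperty.isomorphisms CommRingCat).arrow_mk_iso_iff (arrowResLEAppIso f U (f ⁻¹ᵁ U) le_rfl)
    rw [← Scheme.Hom.resLE_eq_morphismRestrict]
    refine this.2 ?_
    rw [Scheme.Hom.appLE_eq_app]
    exact ‹IsIso (f.app U)›
  haveI : IsIso g.appTop :=
    (HensCouple7.isPushout_appTop (IsPullback.of_hasPullback (f ∣_ U) cU)).isIso_inr_of_isIso
  let e : Γ(pullback (f ∣_ U) cU, ⊤) ≃+* B :=
    ((asIso g.appTop).symm ≪≫ Scheme.ΓSpecIso (CommRingCat.of B)).commRingCatIsoToRingEquiv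
  have hconn : _root_.IsPreconnected (Set.univ : Set ↥(pullback (f ∣_ U) cU)) := by
    haveI : PreconnectedSpace ↥(pullback (f ∣_ U) cU) := preconnectedSpace_iff_clopen.2 fun W hW => by
      obtain ⟨ε, hε, hεW⟩ := HensCouple7.exists_idempotent_of_isClopen hW
      rcases IsLocalRing.isUnit_or_isUnit_one_sub_self (e ε) with hu | hu
      · refine Or.inr (hεW ▸ ?_)
        rw [Scheme.basicOpen_of_isUnit _ ((isUnit_map_iff e ε).1 hu)]
        rfl
      · refine Or.inl (hεW ▸ ?_)
        have h0 : e ε = 0 := (hu.mul_left_eq_zero).1 (by rw [mul_sub, mul_one, ← map_mul, hε, sub_self])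
        rw [show ε = 0 from e.injective (h0.trans (map_zero e).symm), Scheme.basicOpen_zero]
        rfl
    exact isPreconnected_univ
  let i := pullback.fst g (Spec.map (CommRingCat.ofHom (Ideal.Quotient.mk (maximalIdeal B))))
  haveI : PreconnectedSpace ↥(pullback g (Spec.map (CommRingCat.ofHom (Ideal.Quotient.mk (maximalIdeal B))))) :=
    preconnectedSpace_iff_clopen.2 fun V hV => by
      obtain ⟨W, ⟨hW, hWV⟩, -⟩ := ProperComp7.exists_lift_clopen g V hV
      haveI : PreconnectedSpace ↥(pullback (f ∣_ U) cU) := ⟨hconn⟩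
      rcases isClopen_iff.1 hW with rfl | rfl
      · exact Or.inl (by rw [← hWV, Set.preimage_empty])
      · exact Or.inr (by rw [← hWV, Set.preimage_univ])
  have key : f ⁻¹' {y} = Set.range (i ≫ m ≫ (f ⁻¹ᵁ U).ι) := by
    have hw : ∀ z, f ((f ⁻¹ᵁ U).ι (m z)) = c (g z) := fun z => by
      rw [← hcU, Scheme.Hom.comp_apply, ← Scheme.Hom.comp_apply, ← morphismRestrict_ι, Scheme.Hom.comp_apply]
      exact congrArg U.ι (congr($(pullback.condition (f := f ∣_ U) (g := cU)) z))
    ext x
    constructor
    · intro hx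
      have hxU : x ∈ f ⁻¹ᵁ U := show f x ∈ U from (show f x = y from hx) ▸ hy
      obtain ⟨x', rfl⟩ : ∃ x', (f ⁻¹ᵁ U).ι x' = x := by
        rw [← Set.mem_range, Scheme.Opens.range_ι]; exact hxU
      obtain ⟨z, hz1, hz2⟩ := Scheme.Pullback.exists_preimage_pullback (f := f ∣_ U) (g := cU) x' (closedPoint B)
        (U.ι.isOpenEmbedding.injective (by
          rw [← Scheme.Hom.comp_apply, morphismRestrict_ι, Scheme.Hom.comp_apply, ← Scheme.Hom.comp_apply cU, hcU, hcl]
          exact hx))
      obtain ⟨w, rfl⟩ := (ProperNhd.range_closedFibre g).ge hz2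
      exact ⟨w, by rw [Scheme.Hom.comp_apply, Scheme.Hom.comp_apply]; exact congrArg _ hz1⟩
    · rintro ⟨w, rfl⟩
      show f _ = y
      rw [Scheme.Hom.comp_apply, Scheme.Hom.comp_apply, hw,
        show g (i w) = closedPoint B from (ProperNhd.range_closedFibre g).le ⟨w, rfl⟩, hcl]
  rw [key]
  exact isPreconnected_range (Scheme.Hom.continuous _)

/-- What it means that `f` restricts to an isomorphism over a nonempty open. -/
theorem birational_of_isIso_restrict [IsIntegral X] [IsIntegral Y] (f : X ⟶ Y)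
    (hbir : ∃ U : Y.Opens, (U : Set Y).Nonempty ∧ IsIso (f ∣_ U)) :
    ∃ e : f (genericPoint X) = genericPoint Y, Function.Bijective
      (Y.presheaf.stalkSpecializes (specializes_of_eq e) ≫ f.stalkMap (genericPoint X)).hom := by
  obtain ⟨U, ⟨y, hy⟩, hiso⟩ := hbir
  haveI : Nonempty U := ⟨⟨y, hy⟩⟩
  obtain ⟨x', hx'⟩ := (f ∣_ U).surjective (⟨y, hy⟩ : U.toScheme)
  haveI : Nonempty (f ⁻¹ᵁ U).toScheme := ⟨x'⟩
  have hηX : genericPoint X ∈ f ⁻¹ᵁ U :=
    ((genericPoint_spec X).mem_open_set_iff (f ⁻¹ᵁ U).isOpen).2 ⟨_, trivial, x'.2⟩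
  have e : f (genericPoint X) = genericPoint Y := by
    have h1 := genericPoint_eq_of_isOpenImmersion (f ∣_ U)
    have h2 := genericPoint_eq_of_isOpenImmersion U.ι
    have h3 := genericPoint_eq_of_isOpenImmersion (f ⁻¹ᵁ U).ι
    rw [← h2, ← h1, ← h3, ← Scheme.Hom.comp_apply, ← Scheme.Hom.comp_apply, morphismRestrict_ι]
  refine ⟨e, ?_⟩
  haveI : IsIso (Y.presheaf.stalkSpecializes (specializes_of_eq e)) := BirNormal.isIso_stalkSpecializes_of_eq e _
  haveI : IsIso (f.stalkMap (genericPoint X)) :=
    ((MorphismProperty.isomorphisms CommRingCat).arrow_mk_iso_iff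
      (morphismRestrictStalkMap f U ⟨genericPoint X, hηX⟩)).1
      (inferInstanceAs (IsIso ((f ∣_ U).stalkMap _)))
  exact ConcreteCategory.bijective_of_isIso _

/-- A local homomorphism out of a valuation ring that is birational is surjective. -/
theorem surjective_of_dominates {V A L K : Type*} [CommRing V] [IsDomain V] [ValuationRing V] [CommRing A]
    [Field L] [Field K] [Algebra V K] [IsFractionRing V K] (φ : V →+* A) [IsLocalHom φ] (α : A →+* L)
    (hα : Function.Injective α) (ψ : K →+* L) (hψ : Function.Surjective ψ)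
    (hcomp : ψ.comp (algebraMap V K) = α.comp φ) : Function.Surjective φ := by
  intro a
  obtain ⟨k, hk⟩ := hψ (α a)
  obtain ⟨v, w, hw, rfl⟩ := IsFractionRing.div_surjective (A := V) k
  have hw0 : α (φ w) ≠ 0 := by
    rw [← RingHom.comp_apply, ← hcomp, RingHom.comp_apply]
    exact (map_ne_zero ψ).2 (IsFractionRing.to_map_ne_zero_of_mem_nonZeroDivisors hw)
  have h : a * φ w = φ v := hα (by
    rw [map_mul, ← hk, map_div₀, show ψ (algebraMap V K w) = α (φ w) from RingHom.congr_fun hcomp w,
      show ψ (algebraMap V K v) = α (φ v) from RingHom.congr_fun hcomp v, div_mul_cancel₀ _ hw0])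
  haveI : Nontrivial A := α.domain_nontrivial
  rcases ValuationRing.dvd_total v w with ⟨c, rfl⟩ | ⟨c, rfl⟩
  · by_cases hv : φ v = 0
    · rw [map_mul, hv, zero_mul, map_zero] at hw0
      exact absurd rfl hw0
    · have h1 : a * φ c = 1 := hα (mul_left_cancel₀ (a := α (φ v))
        (fun e => hv (hα (e.trans (map_zero α).symm)))
        (by
          rw [map_mul φ] at h
          rw [← map_mul α, ← map_mul α]
          congr 1
          linear_combination h))
      obtain ⟨u, rfl⟩ := (isUnit_map_iff φ c).1 (IsUnit.of_mul_eq_one a (by rwa [mul_comm]))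
      refine ⟨↑u⁻¹, ?_⟩
      calc φ ↑u⁻¹ = a * φ ↑u * φ ↑u⁻¹ := by rw [h1, one_mul]
        _ = a := by rw [mul_assoc, ← map_mul, Units.mul_inv, map_one, mul_one]
  · refine ⟨c, hα (mul_left_cancel₀ hw0 ?_)⟩
    rw [← map_mul, ← map_mul, ← map_mul, ← h, mul_comm a]

/-- The local ring of a point over a point with valuation local ring is a quotient of it. -/
theorem surjective_stalkMap_of_valuationRing [IsIntegral X] [IsIntegral Y] (f : X ⟶ Y)
    (e : f (genericPoint X) = genericPoint Y)
    (hbir : Function.Bijective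
      (Y.presheaf.stalkSpecializes (specializes_of_eq e) ≫ f.stalkMap (genericPoint X)).hom)
    (x : X) [ValuationRing (Y.presheaf.stalk (f x))] : Function.Surjective (f.stalkMap x).hom := by
  refine surjective_of_dominates (f.stalkMap x).hom
    (X.presheaf.stalkSpecializes (genericPoint_specializes x)).hom ?_
    (K := Y.functionField) (L := X.functionField) _ hbir.2 ?_
  · exact IsFractionRing.injective (X.presheaf.stalk x) X.functionField
  · rw [RingHom.algebraMap_toAlgebra, ← CommRingCat.hom_comp, ← CommRingCat.hom_comp]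
    congr 1
    rw [← Category.assoc, TopCat.Presheaf.stalkSpecializes_comp]
    exact Scheme.Hom.stalkSpecializes_stalkMap f _ _ _

end Groth.Agent.ArSurfBase
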