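import Groth.Agent.ArSurfBase.Inter

/-! # Symmetry of the intersection of vertical prime divisors, and self intersection -/

set_option autoImplicit false
set_option linter.style.haveILetI false
set_option linter.unusedSectionVars false
set_option backward.isDefEq.respectTransparency false
set_option backward.isDefEq.respectTransparency.types false

universe u

open CategoryTheory CategoryTheory.Limits AlgebraicGeometry TopologicalSpace

namespace Groth.Agent.ArSurfBase

variable {R : Type u} [CommRing R] [IsDomain R] [IsDiscreteValuationRing R]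
  {X : Over (Spec (CommRingCat.of R))} [IsProper X.hom] [IsIntegral X.left] [Flat X.hom]
  (hdim : topologicalKrullDim X.left = 2)
  (hreg : ∀ x : X.left, IsRegularLocalRing (X.left.presheaf.stalk x))

theorem isLocallyNoetherian_left : IsLocallyNoetherian X.left :=
  LocallyOfFiniteType.isLocallyNoetherian X.hom

include hdim in
theorem genPtOf_notMem_support {Γ Δ : ArSurf.VertComp R X} (h : supp Γ ≠ supp Δ) :
    Models.genPtOf R X Γ ∉ Δ.ι.ker.support := by
  intro hm
  rw [← SetLike.mem_coe, support_ker] at hm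
  refine h ((supp_eq_iff_genPtOf_eq Γ).2 ?_)
  exact (eq_genPtOf_of_specializes Γ hdim (hom_base_eq_closedPoint Δ (genPtOf_mem Δ))
    ((isGenericPoint_genPtOf Δ).specializes hm)).symm

include hdim hreg in
theorem inter_eq_lengthH_of_ne {Γ Δ : ArSurf.VertComp R X} (h : supp Γ ≠ supp Δ) {L : X.left.Modules}
    (hL : ClSub.IsInverseOf L (ClSub.idealMod Δ.ι.ker)) :
    ArSurf.inter R X L Γ = (Models.lengthH R X (ClSub.quotMod (Δ.ι.ker ⊔ Γ.ι.ker)) 0 : ℤ) :=
  haveI := isLocallyNoetherian_left (X := X)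
  inter_eq_lengthH Γ (isEffCartier_ker Δ hdim hreg) (genPtOf_notMem_support hdim h) hL

include hdim hreg in
theorem inter_symm {Γ Δ : ArSurf.VertComp R X} (h : supp Γ ≠ supp Δ) {LΓ LΔ : X.left.Modules}
    (hΓ : ClSub.IsInverseOf LΓ (ClSub.idealMod Γ.ι.ker))
    (hΔ : ClSub.IsInverseOf LΔ (ClSub.idealMod Δ.ι.ker)) :
    ArSurf.inter R X LΔ Γ = ArSurf.inter R X LΓ Δ := by
  rw [inter_eq_lengthH_of_ne hdim hreg h hΔ, inter_eq_lengthH_of_ne hdim hreg (Ne.symm h) hΓ, sup_comm]

include hdim hreg in
theorem inter_offDiag_nonneg {Γ Δ : ArSurf.VertComp R X} (h : supp Γ ≠ supp Δ) {L : X.left.Modules}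
    (hL : ClSub.IsInverseOf L (ClSub.idealMod Δ.ι.ker)) :
    0 ≤ ArSurf.inter R X L Γ ∧ (ArSurf.inter R X L Γ = 0 ↔ Disjoint (supp Γ) (supp Δ)) := by
  haveI := isLocallyNoetherian_left (X := X)
  refine ⟨inter_nonneg Γ (isEffCartier_ker Δ hdim hreg) (genPtOf_notMem_support hdim h) hL, ?_⟩
  rw [← support_ker Δ]
  exact (inter_eq_finrank Γ (isEffCartier_ker Δ hdim hreg) (genPtOf_notMem_support hdim h) hL).2

include hdim hreg in
theorem self_inter (Γ : ArSurf.VertComp R X) {L : X.left.Modules}
    (hL : ClSub.IsInverseOf L (ClSub.idealMod Γ.ι.ker)) :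
    ArSurf.inter R X L Γ =
      - ArSurf.curveDeg (IsLocalRing.ResidueField R) Γ.curve.left (Omega.conormal Γ.ι) := by
  haveI := isLocallyNoetherian_left (X := X)
  haveI := isProper_curve Γ
  have hI := SurfInt.isInvertible_idealMod (isEffCartier_ker Γ hdim hreg)
  have hI' := PicClLib.isInvertible_pullback Γ.ι hI
  exact curveDeg_eq_neg_of_inverse (k := IsLocalRing.ResidueField R) Γ.dim_eq
    (SurfInt.isInvertible_of_inverseOf_right hI' (isInverseOf_pullback Γ hL)) hI' (isInverseOf_pullback Γ hL)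

end Groth.Agent.ArSurfBase
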