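import Groth.Agent.ArSurfBase.FibreDiv
import Groth.Agent.ArSurfBase.Symm

/-! # Intersection numbers with the closed fibre -/

set_option autoImplicit false
set_option linter.style.haveILetI false
set_option linter.unusedSectionVars false
set_option backward.isDefEq.respectTransparency false
set_option backward.isDefEq.respectTransparency.types false

universe u

open CategoryTheory CategoryTheory.Limits AlgebraicGeometry IsLocalRing

namespace Groth.Agent.ArSurfBase

open Groth.Agent.CDivEq (stk)

variable {R : Type u} [CommRing R] [IsDomain R] [IsDiscreteValuationRing R]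
  {X : Over (Spec (CommRingCat.of R))}

section Residual

variable [IsIntegral X.left] [Flat X.hom] [IsLocallyNoetherian X.left]
  (hdim : topologicalKrullDim X.left = 2)
  (hreg : ∀ x : X.left, IsRegularLocalRing (X.left.presheaf.stalk x))

include hdim hreg in
theorem isEffCartier_prod {ι : Type*} (s : Finset ι) (Γ : ι → ArSurf.VertComp R X) (m : ι → ℕ) :
    BlowUp.IsEffCartierIdeal (∏ i ∈ s, (Γ i).ι.ker ^ m i) :=
  Finset.prod_induction _ BlowUp.IsEffCartierIdeal (fun _ _ => ModPairLib.isEffCartier_mul)
    isEffCartier_one fun i _ => isEffCartier_pow (isEffCartier_ker (Γ i) hdim hreg) _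

include hdim hreg in
theorem stk_prod_genPtOf {ι : Type*} [Fintype ι] (Γ : ι → ArSurf.VertComp R X)
    (hinj : Function.Injective fun i => supp (Γ i)) (m : ι → ℕ) (i : ι) (W : X.left.affineOpens)
    (hW : Models.genPtOf R X (Γ i) ∈ W.1) :
    stk (∏ j, (Γ j).ι.ker ^ m j) W hW = maximalIdeal _ ^ m i := by
  rw [stk_prod, Finset.prod_eq_single i, stk_pow, stk_ker_genPtOf hdim hreg]
  · intro j _ hji
    rw [stk_pow, stk_eq_top_of_notMem _ _ _ (by
      rw [← SetLike.mem_coe, support_ker]
      exact genPtOf_notMem_supp hdim fun e => hji (hinj e.symm)), Ideal.top_pow, Ideal.one_eq_top]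
  · exact fun h => absurd (Finset.mem_univ i) h

include hdim hreg in
/-- The closed fibre is the sum of the given vertical prime divisors with multiplicity and a residual divisor. -/
theorem exists_residual {ι : Type*} [Fintype ι] (Γ : ι → ArSurf.VertComp R X)
    (hinj : Function.Injective fun i => supp (Γ i)) :
    ∃ E : X.left.IdealSheafData, BlowUp.IsEffCartierIdeal E ∧
      Models.specialFibreIdeal R X = (∏ i, (Γ i).ι.ker ^ Models.mult R X (Γ i)) * E ∧
      (∀ i, Models.genPtOf R X (Γ i) ∉ E.support) ∧
      (E.support : Set X.left) ⊆ Models.specialFibreSet R X := by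
  set J := ∏ i, (Γ i).ι.ker ^ Models.mult R X (Γ i) with hJdef
  have hJ : BlowUp.IsEffCartierIdeal J := isEffCartier_prod hdim hreg _ _ _
  have hle : Models.specialFibreIdeal R X ≤ J :=
    le_of_stk_codim_one hreg isEffCartier_specialFibreIdeal hJ fun y W hy hd => by
      by_cases h : ∃ i, y ∈ supp (Γ i)
      · obtain ⟨i, hi⟩ := h
        obtain rfl := eq_genPtOf_of_mem hdim hi hd
        rw [hJdef, stk_prod_genPtOf hdim hreg Γ hinj, stk_specialFibreIdeal,
          (map_maximalIdeal_genPtOf hdim hreg (Γ i)).1]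
      · push Not at h
        rw [hJdef, stk_prod, Finset.prod_eq_one fun i _ => by
          rw [stk_pow, stk_eq_top_of_notMem _ _ _ (by
            rw [← SetLike.mem_coe, support_ker]
            exact h i), Ideal.top_pow, Ideal.one_eq_top]]
        simp
  set E := ModPairLib.colon (Models.specialFibreIdeal R X) J (ModPairLib.isLocPrincipal_of_isEffCartier hJ)
  have hEJ : E * J = Models.specialFibreIdeal R X := ModPairLib.colon_mul hJ hle
  have hE : BlowUp.IsEffCartierIdeal E :=
    ModPairLib.isEffCartier_of_mul hJ (hEJ.symm ▸ isEffCartier_specialFibreIdeal)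
  refine ⟨E, hE, by rw [mul_comm, hEJ], fun i hi => ?_, fun x hx => ?_⟩
  · obtain ⟨W, hW⟩ := exists_affine (Models.genPtOf R X (Γ i))
    have h1 : stk (E * J) W hW = stk (Models.specialFibreIdeal R X) W hW := by rw [hEJ]
    rw [stk_mul, hJdef, stk_prod_genPtOf hdim hreg Γ hinj, stk_specialFibreIdeal,
      (map_maximalIdeal_genPtOf hdim hreg (Γ i)).1] at h1
    have hne : stk E W hW ≤ maximalIdeal _ :=
      le_maximalIdeal ((CDivEq.mem_support_iff _ W hW).1 hi)
    haveI := hreg (Models.genPtOf R X (Γ i))
    haveI := (RegUFD.ufd (X.left.presheaf.stalk (Models.genPtOf R X (Γ i)))).1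
    haveI := isDVR_stalk hreg (ringKrullDim_stalk_genPtOf (Γ i) hdim)
    refine pow_ne_zero (Models.mult R X (Γ i)) (IsDiscreteValuationRing.not_a_field _ :
      maximalIdeal (X.left.presheaf.stalk (Models.genPtOf R X (Γ i))) ≠ ⊥) ?_
    exact Submodule.eq_bot_of_le_smul_of_le_jacobson_bot (stk E W hW) _ (IsNoetherian.noetherian _)
      h1.ge (hne.trans (IsLocalRing.maximalIdeal_le_jacobson _))
  · obtain ⟨U, hU⟩ := exists_affine x
    refine mem_support_specialFibreIdeal_iff.1 ((CDivEq.mem_support_iff _ U hU).2 ?_)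
    rw [← hEJ, stk_mul]
    exact fun h => (CDivEq.mem_support_iff _ U hU).1 hx (eq_top_iff.2 (h ▸ Ideal.mul_le_left))

end Residual

section Inter

variable [IsProper X.hom] (Γ : ArSurf.VertComp R X)

local notation "κ" => IsLocalRing.ResidueField R

theorem inter_congr {L M : X.left.Modules} (e : L ≅ M) : ArSurf.inter R X L Γ = ArSurf.inter R X M Γ :=
  curveDeg_congr ((Scheme.Modules.pullback Γ.ι).mapIso e) (k := κ)

theorem inter_structureModule : ArSurf.inter R X (Coh.structureModule X.left) Γ = 0 :=
  haveI := isProper_curve Γ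
  curveDeg_eq_zero_of_iso (PicClLib.nonempty_pullback_structureModule Γ.ι).some

theorem inter_tensor {L M : X.left.Modules} (hL : PicF.IsInvertible L) (hM : PicF.IsInvertible M) :
    ArSurf.inter R X (CohB1.tensorMod L M) Γ = ArSurf.inter R X L Γ + ArSurf.inter R X M Γ := by
  haveI := isProper_curve Γ
  obtain ⟨e⟩ := H23.PicMul.pull Γ.ι L M
  exact (curveDeg_congr e (k := κ)).trans (curveDeg_tensor Γ.dim_eq
    (PicClLib.isInvertible_pullback Γ.ι hL) (PicClLib.isInvertible_pullback Γ.ι hM) (k := κ))

theorem inter_eq_neg {L M : X.left.Modules} (hM : PicF.IsInvertible M) (h : ClSub.IsInverseOf L M) :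
    ArSurf.inter R X L Γ = - ArSurf.inter R X M Γ := by
  have h1 := inter_tensor Γ (SurfInt.isInvertible_of_inverseOf_right hM h) hM
  rw [inter_congr Γ h.some, inter_structureModule] at h1
  linarith

theorem inter_idealMod_mul {I J : X.left.IdealSheafData} (hI : BlowUp.IsEffCartierIdeal I)
    (hJ : BlowUp.IsEffCartierIdeal J) :
    ArSurf.inter R X (ClSub.idealMod (I * J)) Γ =
      ArSurf.inter R X (ClSub.idealMod I) Γ + ArSurf.inter R X (ClSub.idealMod J) Γ := by
  rw [inter_congr Γ (SurfInt.nonempty_idealMod_mul hI hJ).some,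
    inter_tensor Γ (SurfInt.isInvertible_idealMod hI) (SurfInt.isInvertible_idealMod hJ)]

theorem inter_idealMod_pow {I : X.left.IdealSheafData} (hI : BlowUp.IsEffCartierIdeal I) (n : ℕ) :
    ArSurf.inter R X (ClSub.idealMod (I ^ n)) Γ = n * ArSurf.inter R X (ClSub.idealMod I) Γ := by
  induction n with
  | zero =>
    have h := inter_idealMod_mul Γ (I := (1 : X.left.IdealSheafData)) (J := 1) isEffCartier_one isEffCartier_one
    rw [one_mul] at h
    rw [pow_zero, Nat.cast_zero, zero_mul]
    linarith
  | succ n ih => rw [pow_succ, inter_idealMod_mul Γ (isEffCartier_pow hI n) hI, ih]; push_cast; ring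

theorem inter_idealMod_prod {ι : Type*} (s : Finset ι) (I : ι → X.left.IdealSheafData)
    (hI : ∀ i, BlowUp.IsEffCartierIdeal (I i)) (m : ι → ℕ) :
    ArSurf.inter R X (ClSub.idealMod (∏ i ∈ s, I i ^ m i)) Γ =
      ∑ i ∈ s, (m i : ℤ) * ArSurf.inter R X (ClSub.idealMod (I i)) Γ := by
  classical
  induction s using Finset.induction_on with
  | empty => simpa using inter_idealMod_pow Γ (I := (1 : X.left.IdealSheafData)) isEffCartier_one 0
  | insert a s ha ih =>
    rw [Finset.prod_insert ha, Finset.sum_insert ha, inter_idealMod_mul Γ (isEffCartier_pow (hI a) _)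
      (Finset.prod_induction _ BlowUp.IsEffCartierIdeal (fun _ _ => ModPairLib.isEffCartier_mul)
        isEffCartier_one fun i _ => isEffCartier_pow (hI i) _), inter_idealMod_pow Γ (hI a), ih]

/-- The closed fibre has degree zero on each vertical prime divisor. -/
theorem inter_specialFibreIdeal [IsIntegral X.left] [Flat X.hom] :
    ArSurf.inter R X (ClSub.idealMod (Models.specialFibreIdeal R X)) Γ = 0 := by
  haveI := isProper_curve Γ
  have hD : BlowUp.IsEffCartierIdeal (Curv2.idealSheaf R (maximalIdeal R)) := isEffCartier_idealSheaf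
  obtain ⟨e⟩ := nonempty_pullback_idealMod X.hom _ hD isEffCartier_specialFibreIdeal
  refine (inter_congr Γ e.symm).trans ?_
  obtain ⟨e'⟩ := pullback_trivial_of_range_subset (Γ.ι ≫ X.hom) (SurfInt.isInvertible_idealMod hD)
    (y := closedPoint R) (by
      rintro _ ⟨c, rfl⟩
      exact hom_base_eq_closedPoint Γ ⟨c, rfl⟩)
  exact curveDeg_eq_zero_of_iso (k := κ)
    (((Scheme.Modules.pullbackComp Γ.ι X.hom).app _) ≪≫ e')

end Inter

end Groth.Agent.ArSurfBase
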