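import Groth.Agent.ArSurfBase.Birat
import Groth.Agent.ArSurfBase.Decomp

/-! # Birational morphisms from a regular surface over a discrete valuation ring -/

set_option autoImplicit false
set_option linter.style.haveILetI false
set_option linter.unusedSectionVars false
set_option backward.isDefEq.respectTransparency false
set_option backward.isDefEq.respectTransparency.types false

universe u

open CategoryTheory CategoryTheory.Limits AlgebraicGeometry IsLocalRing

namespace Groth.Agent.ArSurfBase

variable {R : Type u} [CommRing R] [IsDomain R] [IsDiscreteValuationRing R]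
  {X Y : Over (Spec (CommRingCat.of R))} (f : X ⟶ Y)

theorem hom_base_map (x : X.left) : Y.hom.base (f.left x) = X.hom.base x := by
  rw [← Scheme.Hom.comp_apply, Over.w]

variable [IsIntegral X.left] [IsIntegral Y.left] [Flat X.hom] [IsLocallyNoetherian Y.left] [IsProper f.left]
  (hdim : topologicalKrullDim X.left = 2)
  (hnor : ∀ q : Y.left, IsIntegrallyClosed (Y.left.presheaf.stalk q))
  (hbir : ∃ U : Y.left.Opens, (U : Set Y.left).Nonempty ∧ IsIso (f.left ∣_ U))

include hdim hnor hbir in
/-- The image point of a contracted vertical prime divisor is not isolated in the closed fibre. -/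
theorem mem_closure_of_contracted {y : Y.left} {Γ : ArSurf.VertComp R X}
    (hΓ : ∀ x ∈ supp Γ, f.left x = y) :
    y ∈ closure {y' : Y.left | Y.hom.base y' = closedPoint R ∧ y' ≠ y} := by
  by_contra hc
  obtain ⟨W, hW, hyW, hWy⟩ : ∃ W : Set Y.left, IsOpen W ∧ y ∈ W ∧
      ∀ y' ∈ W, Y.hom.base y' = closedPoint R → y' = y :=
    ⟨_, isClosed_closure.isOpen_compl, hc, fun y' h h' => by_contra fun hne => h (subset_closure ⟨h', hne⟩)⟩
  obtain ⟨z, hz, hzs, hzne⟩ := exists_specializes_ne Γ
  have hys : Y.hom.base y = closedPoint R := by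
    rw [← hΓ z hz, hom_base_map, hom_base_eq_closedPoint Γ hz]
  obtain ⟨π, hπ⟩ := IsDiscreteValuationRing.exists_irreducible R
  let t := Models.stalkHom R Y y π
  have hmin : maximalIdeal (Y.left.presheaf.stalk y) ∈ (Ideal.span {t}).minimalPrimes := by
    refine ⟨⟨inferInstance, (Ideal.span_singleton_le_iff_mem _).2 ((stalkHom_mem_maximalIdeal_iff (X := Y) π).2 ?_)⟩,
      fun p hp _ => ?_⟩
    · rw [hys]; show π ∈ maximalIdeal R
      rw [hπ.maximalIdeal_eq]; exact Ideal.mem_span_singleton_self π
    obtain ⟨hp, hπp⟩ := hp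
    obtain ⟨y', hy', hpy⟩ := H23.StalkPrimes.exists_point p
    have hs : Models.stalkHom R Y y' π = (Y.left.presheaf.stalkSpecializes hy').hom t := by
      show Y.left.presheaf.germ ⊤ y' trivial _ = Y.left.presheaf.stalkSpecializes hy' (Y.left.presheaf.germ ⊤ y trivial _)
      rw [TopCat.Presheaf.germ_stalkSpecializes_apply]
    have h1 : π ∈ (Y.hom.base y').asIdeal := by
      rw [← stalkHom_mem_maximalIdeal_iff (X := Y), hs]
      refine fun hu => (CDiv6.mem_primeOf hy' t).1 ?_ hu
      rw [hpy]
      exact hπp (Ideal.mem_span_singleton_self t)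
    have h2 : Y.hom.base y' = closedPoint R := PrimeSpectrum.ext (le_antisymm
      (le_maximalIdeal (Y.hom.base y').isPrime.ne_top) (by
        show maximalIdeal R ≤ _
        rw [hπ.maximalIdeal_eq, Ideal.span_singleton_le_iff_mem]; exact h1))
    obtain rfl := hWy y' (hy'.mem_open hW hyW) h2
    rw [← hpy]
    intro a ha
    refine (CDiv6.mem_primeOf hy' a).2 ?_
    rw [TopCat.Presheaf.stalkSpecializes_refl]
    exact ha
  have ht : t ≠ 0 := by
    intro ht
    obtain ⟨e, -⟩ := birational_of_isIso_restrict f.left hbir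
    have h0 : Models.stalkHom R Y (genericPoint Y.left) π = 0 := by
      have h3 : Models.stalkHom R Y (genericPoint Y.left) π =
          (Y.left.presheaf.stalkSpecializes (genericPoint_specializes y)).hom t := by
        show Y.left.presheaf.germ ⊤ _ trivial _ =
          Y.left.presheaf.stalkSpecializes _ (Y.left.presheaf.germ ⊤ y trivial _)
        rw [TopCat.Presheaf.germ_stalkSpecializes_apply]
      rw [h3, ht, map_zero]
    have h1 : π ∈ (Y.hom.base (genericPoint Y.left)).asIdeal := by
      rw [← stalkHom_mem_maximalIdeal_iff (X := Y), h0]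
      exact zero_mem _
    rw [← e, hom_base_map, asIdeal_eq_bot_genericPoint X.hom] at h1
    exact hπ.ne_zero h1
  have hdim1 : ringKrullDim (Y.left.presheaf.stalk y) = 1 := by
    rw [← IsLocalRing.maximalIdeal_height_eq_ringKrullDim]
    have h1 := Ideal.height_le_one_of_isPrincipal_of_mem_minimalPrimes (Ideal.span {t}) _ hmin
    have h2 : (maximalIdeal (Y.left.presheaf.stalk y)).height ≠ 0 := by
      intro h0
      have hlt : (⊥ : Ideal (Y.left.presheaf.stalk y)) < maximalIdeal _ := bot_lt_iff_ne_bot.2 fun h => by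
        have := hmin.1.2 (Ideal.mem_span_singleton_self t)
        rw [h] at this
        exact ht (by simpa using this)
      haveI : (⊥ : Ideal (Y.left.presheaf.stalk y)).IsPrime := Ideal.isPrime_bot
      have h5 := Ideal.height_strict_mono_of_isPrime hlt
      rw [h0] at h5
      exact not_lt_bot h5
    rw [le_antisymm h1 (Order.one_le_iff_pos.2 (pos_iff_ne_zero.2 h2))]
    rfl
  haveI := hnor y
  haveI := CDiv6.isDVR_of_dim_eq_one _ hdim1
  haveI : ValuationRing (Y.left.presheaf.stalk (f.left z)) := by rw [hΓ z hz]; infer_instance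
  obtain ⟨e, hbir'⟩ := birational_of_isIso_restrict f.left hbir
  have h2 := ringKrullDim_le_of_surjective _ (surjective_stalkMap_of_valuationRing f.left e hbir' z)
  rw [show ringKrullDim (Y.left.presheaf.stalk (f.left z)) = 1 from (hΓ z hz).symm ▸ hdim1,
    ringKrullDim_stalk_eq_coheight] at h2
  have hlt : z < Models.genPtOf R X Γ :=
    lt_iff_le_not_ge.2 ⟨Scheme.le_iff_specializes.2 hzs,
      fun h => hzne ((hzs).antisymm (Scheme.le_iff_specializes.1 h)).eq⟩
  have h3 := Order.coheight_add_one_le hlt
  rw [coheight_genPtOf Γ hdim] at h3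
  have h4 : Order.coheight z ≤ 1 := by exact_mod_cast h2
  exact absurd (h3.trans h4) (by decide)

include hdim hnor hbir in
/-- A contracted closed part of the closed fibre meets the rest of the closed fibre. -/
theorem inter_nonempty_of_contracted {y : Y.left} {Γ : ArSurf.VertComp R X} {Z C : Set X.left}
    (hC : IsClosed C) (hZ : IsClosed Z) (hZy : ∀ x ∈ Z, f.left x = y) (hΓ : supp Γ ⊆ Z)
    (hCs : ∀ x ∈ C, X.hom.base x = closedPoint R)
    (hcov : ∀ x, X.hom.base x = closedPoint R → x ∈ Z ∪ C) : (Z ∩ C).Nonempty := by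
  obtain ⟨e, hbir'⟩ := birational_of_isIso_restrict f.left hbir
  have hys : Y.hom.base y = closedPoint R := by
    rw [← hZy _ (hΓ (genPtOf_mem Γ)), hom_base_map, hom_base_eq_closedPoint Γ (genPtOf_mem Γ)]
  have hsurj : Function.Surjective f.left := fun y' => by
    obtain ⟨x, -, hx⟩ : y' ∈ f.left '' Set.univ :=
      (genericPoint_specializes y').mem_closed (f.left.isClosedMap _ isClosed_univ) ⟨_, trivial, e⟩
    exact ⟨x, hx⟩
  have hyC : y ∈ f.left '' C := by
    refine closure_minimal ?_ (f.left.isClosedMap _ hC)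
      (mem_closure_of_contracted f hdim hnor hbir fun x hx => hZy x (hΓ hx))
    rintro y' ⟨hy's, hne⟩
    obtain ⟨x, rfl⟩ := hsurj y'
    rcases hcov x ((hom_base_map f x).symm.trans hy's) with h | h
    · exact absurd (hZy x h) hne
    · exact ⟨x, h, rfl⟩
  obtain ⟨c, hc, hcy⟩ := hyC
  obtain ⟨w, -, hw⟩ := isPreconnected_closed_iff.1
    (isPreconnected_fibre_of_isIso_app f.left (isIso_app_of_birational f.left hnor e hbir') y) Z C hZ hC
    (fun x hx => hcov x (by rw [← hom_base_map f, show f.left x = y from hx, hys]))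
    ⟨_, hZy _ (hΓ (genPtOf_mem Γ)), hΓ (genPtOf_mem Γ)⟩ ⟨c, hcy, hc⟩
  exact ⟨w, hw⟩

end Groth.Agent.ArSurfBase
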