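import Groth.Prelude.Def_ArSurf
import Groth.Agent.PnCoh.Chow.Proper
import Groth.Agent.ArSurfBase.Topo

/-! # Properness of projective schemes over a ring; fibred surfaces are proper -/

set_option autoImplicit false

universe u

open CategoryTheory Limits AlgebraicGeometry

namespace Groth.Agent.ArSurfBase

variable {R : Type u} [CommRing R] [IsDomain R]

theorem isProper_of_isProjectiveOver {X : Over (Spec (CommRingCat.of R))}
    (h : Neron.IsProjectiveOver R X) : IsProper X.hom := by
  obtain ⟨n, i, hi, hp⟩ := h
  haveI := hi
  haveI := PnCoh.Chow.isProper_toSpec n (ULift.{u} ℤ)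
  rw [← hp]
  exact MorphismProperty.comp_mem @IsProper i (CohB1.ProjSpaceOver.toBase n (Spec (CommRingCat.of R)))
    inferInstance (MorphismProperty.pullback_snd (P := @IsProper) _ _
      (PnCoh.Chow.isProper_toSpec n (ULift.{u} ℤ)))

theorem isProper_of_isArithSurface {X : Over (Spec (CommRingCat.of R))}
    (h : ArSurf.IsArithSurface R X) : IsProper X.hom :=
  isProper_of_isProjectiveOver h.2.2.2.2


end Groth.Agent.ArSurfBase
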