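import Groth.Agent.ArSurfBase.Birat
import Groth.Agent.ArSurfBase.Proper
import Groth.Agent.FlatMisc.SteinUC
import Groth.Agent.H23.Rigid

/-! # Uniqueness of contractions -/

set_option autoImplicit false
set_option linter.style.haveILetI false
set_option linter.unusedSectionVars false
set_option backward.isDefEq.respectTransparency false
set_option backward.isDefEq.respectTransparency.types false

universe u

open CategoryTheory CategoryTheory.Limits AlgebraicGeometry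

namespace Groth.Agent.ArSurfBase

theorem bijective_app_of_birational {X Y : Scheme.{u}} [IsIntegral X] [IsIntegral Y] (f : X ⟶ Y) [IsProper f]
    (hN : ∀ y : Y, IsIntegrallyClosed (Y.presheaf.stalk y))
    (hbir : ∃ U : Y.Opens, (U : Set Y).Nonempty ∧ IsIso (f ∣_ U)) (W : Y.Opens) :
    Function.Bijective (f.app W) := by
  obtain ⟨e, he⟩ := birational_of_isIso_restrict f hbir
  haveI := FlatMisc.isIso_app_of_bijective_affine f (fun z => by
    obtain ⟨A, hA, hz, -⟩ := exists_isAffineOpen_mem_and_subset (X := Y) (x := z) (U := ⊤) trivial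
    haveI := isIso_app_of_birational f hN e he A hA
    exact ⟨A, hA, hz, ConcreteCategory.bijective_of_isIso _⟩) W
  exact ConcreteCategory.bijective_of_isIso _

/-- A contraction of `Z` factors any morphism mapping the pieces of `Z` to closed points. -/
theorem exists_factor_of_contraction {X Y₁ Y₂ : Scheme.{u}} [IsIntegral X] [IsIntegral Y₁] [IsLocallyNoetherian Y₁]
    (f₁ : X ⟶ Y₁) (f₂ : X ⟶ Y₂) [IsProper f₁] [UniversallyClosed f₂]
    (hN : ∀ y : Y₁, IsIntegrallyClosed (Y₁.presheaf.stalk y))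
    {ι : Type*} [Finite ι] (S : ι → Set X) (hS : ∀ i, IsClosed (S i))
    (hη : genericPoint X ∉ ⋃ i, S i)
    (hpre : f₁ ⁻¹' (f₁ '' ⋃ i, S i) = ⋃ i, S i)
    (hiso : ∀ V : Y₁.Opens, (V : Set Y₁) ∩ f₁ '' (⋃ i, S i) = ∅ → IsIso (f₁ ∣_ V))
    (h₂ : ∀ i, ∃ y, f₂ '' S i = {y}) :
    (∀ W, Function.Bijective (f₁.app W)) ∧ Function.Surjective f₁ ∧ ∃ g : Y₁ ⟶ Y₂, f₁ ≫ g = f₂ := by
  let V₀ : Y₁.Opens := ⟨(f₁ '' ⋃ i, S i)ᶜ, (f₁.isClosedMap _ (isClosed_iUnion_of_finite hS)).isOpen_compl⟩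
  have hV₀ : ∀ x, f₁ x ∈ V₀ ↔ x ∉ ⋃ i, S i := fun x =>
    not_congr (Set.ext_iff.1 hpre x)
  haveI hiso₀ : IsIso (f₁ ∣_ V₀) := hiso V₀ (Set.compl_inter_self _)
  have hb := bijective_app_of_birational f₁ hN ⟨V₀, ⟨_, (hV₀ _).2 hη⟩, hiso₀⟩
  refine ⟨hb, H23.Rigid.surjective_of_bijective_app f₁ hb f₁.isClosedMap,
    H23.Rigid.exists_factor f₁ hb f₁.isClosedMap f₂ fun s => ?_⟩
  obtain ⟨x₀, hx₀⟩ := H23.Rigid.surjective_of_bijective_app f₁ hb f₁.isClosedMap s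
  refine ⟨f₂ x₀, fun x hx => ?_⟩
  by_cases hs : s ∈ V₀
  · have hi : Function.Injective (f₁ ∣_ V₀) := (f₁ ∣_ V₀).homeomorph.injective
    have hxV : x ∈ f₁ ⁻¹ᵁ V₀ := show f₁ x ∈ V₀ from hx.symm ▸ hs
    have hx₀V : x₀ ∈ f₁ ⁻¹ᵁ V₀ := show f₁ x₀ ∈ V₀ from hx₀.symm ▸ hs
    have := @hi ⟨x, hxV⟩ ⟨x₀, hx₀V⟩ (V₀.ι.isOpenEmbedding.injective (by
      rw [← Scheme.Hom.comp_apply, ← Scheme.Hom.comp_apply, morphismRestrict_ι, Scheme.Hom.comp_apply,
        Scheme.Hom.comp_apply]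
      exact hx.trans hx₀.symm))
    exact congrArg f₂ (congrArg Subtype.val this)
  · choose y hy using h₂
    have hcl : ∀ i, IsClosed ({y i} : Set Y₂) := fun i => hy i ▸ f₂.isClosedMap _ (hS i)
    have hfib : ∀ z ∈ f₁ ⁻¹' {s}, ∃ i, f₂ z = y i := fun z hz => by
      obtain ⟨i, hi⟩ := Set.mem_iUnion.1 (not_not.1 fun h => hs ((show f₁ z = s from hz) ▸ (hV₀ z).2 h))
      exact ⟨i, (hy i).subset ⟨z, hi, rfl⟩⟩
    have hpc : _root_.IsPreconnected (f₁ ⁻¹' {s}) := isPreconnected_fibre_of_isIso_app f₁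
      (fun U _ => (ConcreteCategory.isIso_iff_bijective _).2 (hb U)) s
    obtain ⟨i₀, hi₀⟩ := hfib x₀ hx₀
    rw [hi₀]
    by_contra hne
    let A : Set X := f₂ ⁻¹' {y i₀}
    let B : Set X := f₂ ⁻¹' (⋃ i ∈ {i | y i ≠ y i₀}, {y i})
    have hB : IsClosed B := ((Set.toFinite _).isClosed_biUnion fun i _ => hcl i).preimage f₂.continuous
    obtain ⟨w, -, hwA, hwB⟩ := isPreconnected_closed_iff.1 hpc A B ((hcl i₀).preimage f₂.continuous) hB
      (fun z hz => by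
        obtain ⟨i, hi⟩ := hfib z hz
        by_cases h : y i = y i₀
        · exact Or.inl (hi.trans h)
        · exact Or.inr (Set.mem_biUnion (show i ∈ {i | y i ≠ y i₀} from h) hi))
      ⟨x₀, hx₀, hi₀⟩ ⟨x, hx, by
        obtain ⟨i, hi⟩ := hfib x hx
        exact Set.mem_biUnion (show i ∈ {i | y i ≠ y i₀} from fun h => hne (hi.trans h)) hi⟩
    obtain ⟨i, hi, hwi⟩ := Set.mem_iUnion₂.1 hwB
    exact hi ((show f₂ w = y i from hwi).symm.trans hwA)

variable {R : Type u} [CommRing R] [IsDomain R] [IsDiscreteValuationRing R]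

/-- The factorisation between two contractions over the base. -/
theorem exists_over_factor {X Y₁ Y₂ : Over (Spec (CommRingCat.of R))} [IsIntegral X.left] [Flat X.hom]
    (hX : Neron.IsProjectiveOver R X) (f₁ : X ⟶ Y₁) (f₂ : X ⟶ Y₂) [IsIntegral Y₁.left]
    (hN : ∀ q : Y₁.left, IsIntegrallyClosed (Y₁.left.presheaf.stalk q))
    (hY₁ : Neron.IsProjectiveOver R Y₁) (hY₂ : Neron.IsProjectiveOver R Y₂)
    {r : ℕ} (Γ : Fin r → ArSurf.VertComp R X)
    (hpre : f₁.left.base ⁻¹' (f₁.left.base '' ⋃ i, Set.range (Γ i).ι.base) = ⋃ i, Set.range (Γ i).ι.base)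
    (hiso : ∀ V : Y₁.left.Opens, (V : Set Y₁.left) ∩ f₁.left.base '' (⋃ i, Set.range (Γ i).ι.base) = ∅ →
      IsIso (f₁.left ∣_ V))
    (h₂ : ∀ i, ∃ y : Y₂.left, Set.range (((Γ i).ι ≫ f₂.left).base : (Γ i).curve.left → Y₂.left) = {y}) :
    (∀ {T : Over (Spec (CommRingCat.of R))} (a b : Y₁ ⟶ T), f₁ ≫ a = f₁ ≫ b → a = b) ∧
      ∃ g : Y₁ ⟶ Y₂, f₁ ≫ g = f₂ := by
  haveI := isProper_of_isProjectiveOver hX
  haveI := isProper_of_isProjectiveOver hY₁
  haveI := isProper_of_isProjectiveOver hY₂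
  haveI : IsLocallyNoetherian Y₁.left := LocallyOfFiniteType.isLocallyNoetherian Y₁.hom
  haveI : IsProper (f₁.left ≫ Y₁.hom) := by rw [Over.w]; infer_instance
  haveI : IsProper (f₂.left ≫ Y₂.hom) := by rw [Over.w]; infer_instance
  haveI : IsProper f₁.left := IsProper.of_comp f₁.left Y₁.hom
  haveI : IsProper f₂.left := IsProper.of_comp f₂.left Y₂.hom
  obtain ⟨hb, hsurj, g, hg⟩ := exists_factor_of_contraction f₁.left f₂.left hN (fun i => supp (Γ i))
    (fun i => isClosed_supp _)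
    (fun h => by
      obtain ⟨i, hi⟩ := Set.mem_iUnion.1 h
      exact asIdeal_ne_bot (Γ i) hi (asIdeal_eq_bot_genericPoint X.hom))
    hpre hiso (fun i => by
      obtain ⟨y, hy⟩ := h₂ i
      exact ⟨y, by rw [← hy, supp, ← Set.range_comp]; rfl⟩)
  refine ⟨fun {T} a b h => Over.OverMorphism.ext
    (H23.Rigid.cancel_left f₁.left hb hsurj _ _ (congrArg CommaMorphism.left h)),
    Over.homMk g (H23.Rigid.cancel_left f₁.left hb hsurj _ _ ?_), Over.OverMorphism.ext hg⟩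
  rw [← Category.assoc, hg, Over.w, Over.w]

end Groth.Agent.ArSurfBase
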