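import Groth.Agent.ArSurfBase.BadFibres
import Groth.Agent.ArSurfBase.Contraction
import Groth.Agent.Triage.ZMTBir
import Groth.Agent.GrpSchLib.SmoothRegular

/-! # Birational morphisms of surfaces over a Dedekind base -/

set_option autoImplicit false
set_option linter.style.haveILetI false
set_option linter.unusedSectionVars false
set_option backward.isDefEq.respectTransparency false
set_option backward.isDefEq.respectTransparency.types false

universe u

open CategoryTheory CategoryTheory.Limits AlgebraicGeometry IsLocalRing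

namespace Groth.Agent.ArSurfBase

variable {R : Type u} [CommRing R] [IsDomain R] [IsNoetherianRing R] [Ring.DimensionLEOne R]
  {X Y : Scheme.{u}} (f : X ⟶ Spec (CommRingCat.of R)) (p : Y ⟶ Spec (CommRingCat.of R))

theorem eq_of_base_specializes {s t : Spec (CommRingCat.of R)} (h : s ⤳ t) (hs : s.asIdeal ≠ ⊥) : s = t := by
  haveI : s.asIdeal.IsMaximal := s.isPrime.isMaximal hs
  exact PrimeSpectrum.ext (‹s.asIdeal.IsMaximal›.eq_of_le t.isPrime.ne_top ((PrimeSpectrum.le_iff_specializes _ _).2 h))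

variable [IsIntegral X] [Flat f] (hdim : topologicalKrullDim X ≤ 2)

theorem two_le_coheight {ξ z : X} (hξ : (f.base ξ).asIdeal ≠ ⊥) (h : ξ ⤳ z) (hne : ξ ≠ z) :
    2 ≤ Order.coheight z := by
  have h1 : z < ξ := lt_iff_le_not_ge.2 ⟨Scheme.le_iff_specializes.2 h,
    fun h' => hne (h.antisymm (Scheme.le_iff_specializes.1 h')).eq⟩
  have h2 : ξ < genericPoint X := lt_iff_le_not_ge.2 ⟨Scheme.le_iff_specializes.2 (genericPoint_specializes ξ),
    fun h' => ne_genericPoint f hξ ((genericPoint_specializes ξ).antisymm (Scheme.le_iff_specializes.1 h')).eq⟩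
  have h3 := Order.coheight_add_one_le h1
  have h4 := Order.coheight_add_one_le h2
  calc (2 : ℕ∞) = 0 + 1 + 1 := by norm_num
    _ ≤ Order.coheight (genericPoint X) + 1 + 1 := by gcongr; exact zero_le
    _ ≤ Order.coheight ξ + 1 := by gcongr
    _ ≤ Order.coheight z := h3

variable [IsIntegral Y] [IsLocallyNoetherian Y] (g : X ⟶ Y) [IsProper g] (hgp : g ≫ p = f)
  (hnor : ∀ q : Y, IsIntegrallyClosed (Y.presheaf.stalk q))
  (e : g (genericPoint X) = genericPoint Y)
  (hbir : Function.Bijective
    (Y.presheaf.stalkSpecializes (specializes_of_eq e) ≫ g.stalkMap (genericPoint X)).hom)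

include hgp hnor hbir in
/-- The image of a contracted curve is not isolated in its fibre. -/
theorem mem_closure_of_contracted' {ξ z : X} (hξ : (f.base ξ).asIdeal ≠ ⊥) (h : ξ ⤳ z) (hne : ξ ≠ z)
    (heq : g ξ = g z) :
    g z ∈ closure {y' : Y | p.base y' = p.base (g z) ∧ y' ≠ g z} := by
  set y := g z with hy
  by_contra hc
  obtain ⟨W, hW, hyW, hWy⟩ : ∃ W : Set Y, IsOpen W ∧ y ∈ W ∧ ∀ y' ∈ W, p.base y' = p.base y → y' = y :=
    ⟨_, isClosed_closure.isOpen_compl, hc, fun y' h h' => by_contra fun hne => h (subset_closure ⟨h', hne⟩)⟩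
  have hfz : p.base y = f.base z := by rw [← hgp]; rfl
  have hys : (p.base y).asIdeal ≠ ⊥ := by
    rwa [hfz, ← eq_of_base_specializes (h.map f.continuous) hξ]
  obtain ⟨π, hπ, hπ0⟩ := Submodule.exists_mem_ne_zero_of_ne_bot hys
  let t := rho p y π
  have hmin : maximalIdeal (Y.presheaf.stalk y) ∈ (Ideal.span {t}).minimalPrimes := by
    refine ⟨⟨inferInstance, (Ideal.span_singleton_le_iff_mem _).2 ((rho_mem_maximalIdeal_iff p y π).2 hπ)⟩,
      fun P hP _ => ?_⟩
    obtain ⟨hP, hπP⟩ := hP
    obtain ⟨y', hy', hpy⟩ := H23.StalkPrimes.exists_point P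
    have h1 : π ∈ (p.base y').asIdeal := by
      rw [← rho_mem_maximalIdeal_iff p y' π, ← stalkSpecializes_rho p hy' π]
      refine fun hu => (CDiv6.mem_primeOf hy' t).1 ?_ hu
      rw [hpy]
      exact hπP (Ideal.mem_span_singleton_self t)
    have h2 : p.base y' = p.base y := eq_of_base_specializes (hy'.map p.continuous) fun h3 => hπ0 (by
      rwa [h3, Ideal.mem_bot] at h1)
    obtain rfl := hWy y' (hy'.mem_open hW hyW) h2
    rw [← hpy]
    intro a ha
    refine (CDiv6.mem_primeOf hy' a).2 ?_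
    rw [TopCat.Presheaf.stalkSpecializes_refl]
    exact ha
  have ht : t ≠ 0 := fun ht => by
    have h1 : π ∈ (p.base (genericPoint Y)).asIdeal := by
      rw [← rho_mem_maximalIdeal_iff p, ← stalkSpecializes_rho p (genericPoint_specializes y) π,
        show rho p y π = 0 from ht, map_zero]
      exact zero_mem _
    rw [← e, ← Scheme.Hom.comp_apply, hgp, asIdeal_eq_bot_genericPoint f] at h1
    exact hπ0 h1
  have hdim1 : ringKrullDim (Y.presheaf.stalk y) = 1 := by
    rw [← IsLocalRing.maximalIdeal_height_eq_ringKrullDim]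
    have h1 := Ideal.height_le_one_of_isPrincipal_of_mem_minimalPrimes (Ideal.span {t}) _ hmin
    have h2 : (maximalIdeal (Y.presheaf.stalk y)).height ≠ 0 := by
      intro h0
      have hlt : (⊥ : Ideal (Y.presheaf.stalk y)) < maximalIdeal _ := bot_lt_iff_ne_bot.2 fun h => by
        have := hmin.1.2 (Ideal.mem_span_singleton_self t)
        rw [h] at this
        exact ht (by simpa using this)
      haveI : (⊥ : Ideal (Y.presheaf.stalk y)).IsPrime := Ideal.isPrime_bot
      have h5 := Ideal.height_strict_mono_of_isPrime hlt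
      rw [h0] at h5
      exact not_lt_bot h5
    rw [le_antisymm h1 (Order.one_le_iff_pos.2 (pos_iff_ne_zero.2 h2))]
    rfl
  haveI := hnor y
  haveI := CDiv6.isDVR_of_dim_eq_one _ hdim1
  haveI : ValuationRing (Y.presheaf.stalk (g z)) := inferInstanceAs (ValuationRing (Y.presheaf.stalk y))
  have h2 := ringKrullDim_le_of_surjective _ (surjective_stalkMap_of_valuationRing g e hbir z)
  rw [show ringKrullDim (Y.presheaf.stalk (g z)) = 1 from hdim1, ringKrullDim_stalk_eq_coheight] at h2
  have h3 : Order.coheight z ≤ 1 := by exact_mod_cast h2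
  exact absurd ((two_le_coheight f hξ h hne).trans h3) (by decide)

include hgp hnor hbir hdim in
/-- A contracted curve meets another curve of the same fibre. -/
theorem exists_other_curve [IsLocallyNoetherian X] [CompactSpace X] {ξ z : X} (hξ : (f.base ξ).asIdeal ≠ ⊥)
    (h : ξ ⤳ z) (hne : ξ ≠ z) (heq : g ξ = g z) :
    ∃ ξ' w, (f.base ξ').asIdeal ≠ ⊥ ∧ ξ ⤳ w ∧ ξ ≠ w ∧ ξ' ⤳ w ∧ ξ' ≠ w ∧ ξ' ≠ ξ := by
  haveI : AlgebraicGeometry.IsNoetherian X := { __ := ‹IsLocallyNoetherian X›, __ := ‹CompactSpace X› }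
  have hzc : IsClosed ({z} : Set X) :=
    isClosed_singleton_of_chain hdim (genericPoint_specializes ξ) (ne_genericPoint f hξ) h hne
  have hyc : IsClosed ({g z} : Set Y) := by
    rw [← Set.image_singleton]; exact g.isClosedMap _ hzc
  have hfgz : ∀ x, p.base (g x) = f.base x := fun x => by rw [← hgp]; rfl
  set s := f.base ξ with hs
  have hsz : f.base z = s := (eq_of_base_specializes (h.map f.continuous) hξ).symm
  have hF : IsClosed (f.base ⁻¹' {s}) := by
    haveI : s.asIdeal.IsMaximal := s.isPrime.isMaximal hξ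
    exact ((PrimeSpectrum.isClosed_singleton_iff_isMaximal s).2 inferInstance).preimage f.continuous
  let T : Set X := closure {ξ}
  have hTg : ∀ x ∈ T, g x = g z := fun x hx => by
    have h1 : g z ⤳ g x := heq ▸ (specializes_iff_mem_closure.2 hx).map g.continuous
    exact h1.mem_closed hyc rfl
  have hTF : T ⊆ f.base ⁻¹' {s} := closure_minimal (Set.singleton_subset_iff.2 rfl) hF
  let C : Set X := closure (f.base ⁻¹' {s} \ T)
  have hCF : C ⊆ f.base ⁻¹' {s} := closure_minimal Set.sdiff_subset hF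
  have hcov : f.base ⁻¹' {s} ⊆ T ∪ C := fun x hx => by
    by_cases hxT : x ∈ T
    · exact Or.inl hxT
    · exact Or.inr (subset_closure ⟨hx, hxT⟩)
  have hb : ∀ U : Y.Opens, IsAffineOpen U → IsIso (g.app U) := fun U hU => isIso_app_of_birational g hnor e hbir U hU
  have hsurj : Function.Surjective g := fun y' => by
    obtain ⟨x, -, hx⟩ : y' ∈ g '' Set.univ :=
      (genericPoint_specializes y').mem_closed (g.isClosedMap _ isClosed_univ) ⟨_, trivial, e⟩
    exact ⟨x, hx⟩
  have hyC : g z ∈ g '' C := by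
    refine closure_minimal ?_ (g.isClosedMap _ isClosed_closure)
      (mem_closure_of_contracted' f p g hgp hnor e hbir hξ h hne heq)
    rintro y' ⟨hy's, hne'⟩
    obtain ⟨x, rfl⟩ := hsurj y'
    have hxs : f.base x = s := by rw [← hfgz, hy's, hfgz, hsz]
    rcases hcov hxs with hx | hx
    · exact absurd (hTg x hx) hne'
    · exact ⟨x, hx, rfl⟩
  obtain ⟨c, hc, hcy⟩ := hyC
  obtain ⟨w, -, hwT, hwC⟩ := isPreconnected_closed_iff.1 (isPreconnected_fibre_of_isIso_app g hb (g z)) T C
    isClosed_closure isClosed_closure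
    (fun x hx => hcov (show f.base x = s by rw [← hfgz, show g x = g z from hx, hfgz, hsz]))
    ⟨ξ, heq, subset_closure rfl⟩ ⟨c, hcy, hc⟩
  obtain ⟨Cs, hCsf, hCsc, hCsi, hCs⟩ :=
    TopologicalSpace.NoetherianSpace.exists_finite_set_isClosed_irreducible (α := X) (s := C) isClosed_closure
  obtain ⟨Z, hZ, hwZ, hZT⟩ : ∃ Z ∈ Cs, w ∈ Z ∧ ¬ Z ⊆ T := by
    by_contra! hcon
    -- every component through `w` lies in `T`; the others form a closed set avoiding `w`
    have hK : IsClosed (⋃₀ {Z ∈ Cs | ¬ Z ⊆ T}) := by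
      rw [Set.sUnion_eq_biUnion]
      exact (hCsf.subset (Set.sep_subset _ _)).isClosed_biUnion fun Z hZ => hCsc Z hZ.1
    have hsub : f.base ⁻¹' {s} \ T ⊆ ⋃₀ {Z ∈ Cs | ¬ Z ⊆ T} := fun x hx => by
      obtain ⟨Z, hZ, hxZ⟩ := Set.mem_sUnion.1 (hCs.subset (subset_closure hx))
      exact Set.mem_sUnion.2 ⟨Z, ⟨hZ, fun hZT => hx.2 (hZT hxZ)⟩, hxZ⟩
    obtain ⟨Z, ⟨hZ, hZT⟩, hwZ⟩ := Set.mem_sUnion.1 (closure_minimal hsub hK hwC)
    exact hZT (hcon Z hZ hwZ)
  have hgen := (hCsi Z hZ).isGenericPoint_genericPoint_closure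
  rw [(hCsc Z hZ).closure_eq] at hgen
  set ξ' := (hCsi Z hZ).genericPoint
  have hξ'T : ξ' ∉ T := fun h' => hZT fun x hx =>
    (hgen.specializes hx).mem_closed isClosed_closure h'
  have hξ's : f.base ξ' = s := hCF (hCs.ge (Set.mem_sUnion.2 ⟨Z, hZ, hgen.mem⟩))
  have hξw : ξ ⤳ w := specializes_iff_mem_closure.2 hwT
  have hne_w : ξ ≠ w := fun e' => by
    refine hξ'T ?_
    have h1 : ξ' = ξ := middle_eq_of_chain hdim (genericPoint_specializes ξ')
      (ne_genericPoint f (hξ's.symm ▸ hξ)) (e' ▸ hgen.specializes hwZ) h hne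
    rw [h1]
    exact subset_closure rfl
  exact ⟨ξ', w, hξ's.symm ▸ hξ, hξw, hne_w, hgen.specializes hwZ, fun e' => hξ'T (e' ▸ hwT),
    fun e' => hξ'T (e' ▸ subset_closure rfl)⟩

include hnor hbir in
/-- A proper birational morphism onto a normal scheme contracting nothing is an isomorphism. -/
theorem isIso_of_no_contraction [IsLocallyNoetherian X] (h : ∀ ξ z : X, ξ ⤳ z → g ξ = g z → ξ = z) :
    IsIso g := by
  haveI : LocallyQuasiFinite g := by
    rw [locallyQuasiFinite_iff_isDiscrete_preimage_singleton]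
    intro y
    haveI : IsLocallyNoetherian (g.fiber y) := LocallyOfFiniteType.isLocallyNoetherian (g.fiberToSpecResidueField y)
    haveI : CompactSpace (g.fiber y) := QuasiCompact.compactSpace_of_compactSpace (g.fiberToSpecResidueField y)
    haveI : AlgebraicGeometry.IsNoetherian (g.fiber y) := { __ := ‹IsLocallyNoetherian (g.fiber y)›, __ := ‹CompactSpace (g.fiber y)› }
    haveI : T1Space (g.fiber y) := ⟨fun a => isClosed_singleton_of_forall fun b hb =>
      (g.fiberι y).isEmbedding.injective (h (g.fiberι y a) (g.fiberι y b) (hb.map (g.fiberι y).continuous) (by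
        have ha : g.fiberι y a ∈ g ⁻¹' {y} := by rw [← g.range_fiberι]; exact ⟨a, rfl⟩
        have hb' : g.fiberι y b ∈ g ⁻¹' {y} := by rw [← g.range_fiberι]; exact ⟨b, rfl⟩
        exact (show g _ = y from ha).trans (show g _ = y from hb').symm)).symm⟩
    haveI : Finite (g.fiber y) := by
      obtain ⟨S, hS, hSc, hSi, hSU⟩ :=
        TopologicalSpace.NoetherianSpace.exists_finite_set_isClosed_irreducible (α := g.fiber y) (s := Set.univ) isClosed_univ
      refine Set.finite_univ_iff.1 (hSU ▸ hS.sUnion fun t ht => ?_)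
      have hg := (hSi t ht).isGenericPoint_genericPoint_closure
      rw [(hSc t ht).closure_eq] at hg
      rw [← hg, isClosed_singleton.closure_eq]
      exact Set.finite_singleton _
    haveI : DiscreteTopology (g.fiber y) := inferInstance
    rw [← g.range_fiberι y, ← Set.image_univ]
    exact (isDiscrete_univ_iff.2 inferInstance).image (g.fiberι y).isEmbedding.toIsInducing
  have hgen : IsIso (g.stalkMap (genericPoint X)) := by
    haveI := BirNormal.isIso_stalkSpecializes_of_eq e (specializes_of_eq e)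
    haveI : IsIso (Y.presheaf.stalkSpecializes (specializes_of_eq e) ≫ g.stalkMap (genericPoint X)) :=
      (ConcreteCategory.isIso_iff_bijective _).2 hbir
    exact IsIso.of_isIso_comp_left (Y.presheaf.stalkSpecializes (specializes_of_eq e)) (g.stalkMap (genericPoint X))
  haveI := Triage.ZMTBir.isOpenImmersion_of_birational hnor g e hgen
  haveI : Surjective g := ⟨fun y' => by
    obtain ⟨x, -, hx⟩ : y' ∈ g '' Set.univ :=
      (genericPoint_specializes y').mem_closed (g.isClosedMap _ isClosed_univ) ⟨_, trivial, e⟩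
    exact ⟨x, hx⟩⟩
  exact (isIso_iff_isOpenImmersion_and_surjective g).2 ⟨inferInstance, inferInstance⟩

end Groth.Agent.ArSurfBase
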