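import Groth.Agent.ArSurfBase.Quad
import Groth.Agent.ArSurfBase.DedBirat
import Groth.Agent.ResSurf.Blow
import Groth.Agent.H23.RedSub

/-! # The blowing up of a closed point of a regular integral scheme -/

set_option autoImplicit false
set_option linter.style.haveILetI false
set_option linter.unusedSectionVars false
set_option backward.isDefEq.respectTransparency false
set_option backward.isDefEq.respectTransparency.types false

universe u

open CategoryTheory CategoryTheory.Limits AlgebraicGeometry IsLocalRing TopologicalSpace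

namespace Groth.Agent.ArSurfBase

variable {X Y Y' : Scheme.{u}}

theorem isRegular_subscheme_point [IsLocallyNoetherian Y] {y : Y} (hy : IsClosed ({y} : Set Y))
    : ∀ z : (Scheme.IdealSheafData.vanishingIdeal (⟨{y}, hy⟩ : Closeds Y)).subscheme,
    IsRegularLocalRing ((Scheme.IdealSheafData.vanishingIdeal (⟨{y}, hy⟩ : Closeds Y)).subscheme.presheaf.stalk z) := by
  set I := Scheme.IdealSheafData.vanishingIdeal (⟨{y}, hy⟩ : Closeds Y)
  intro z
  have hsub : ∀ a b : I.subscheme, a = b := fun a b => by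
    have key : ∀ c : I.subscheme, I.subschemeι c = y := fun c => by
      have : I.subschemeι c ∈ Set.range I.subschemeι := ⟨c, rfl⟩
      rw [Scheme.IdealSheafData.range_subschemeι] at this
      simpa [I] using this
    exact I.subschemeι.isClosedEmbedding.injective ((key a).trans (key b).symm)
  haveI : Ring.KrullDimLE 0 (I.subscheme.presheaf.stalk z) := by
    refine Ring.krullDimLE_iff.2 ?_
    rw [ringKrullDim_stalk_eq_coheight]
    have h0 : Order.coheight z = 0 := Order.coheight_eq_zero.2 fun w _ => (hsub w z).le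
    rw [h0]
    rfl
  haveI : IsLocallyNoetherian I.subscheme := LocallyOfFiniteType.isLocallyNoetherian I.subschemeι
  refine IsRegularLocalRing.of_spanFinrank_maximalIdeal_le (R := I.subscheme.presheaf.stalk z) ?_
  rw [IsLocalRing.isField_iff_maximalIdeal_eq.1 (Ring.KrullDimLE.isField_of_isReduced (R := I.subscheme.presheaf.stalk z)),
    Submodule.spanFinrank_bot, Nat.cast_zero]
  exact ringKrullDim_nonneg_of_nontrivial

/-- The basic properties of the blowing up of a closed point. -/
theorem blowUp_point_props [IsIntegral Y] [IsLocallyNoetherian Y]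
    (hreg : ∀ q : Y, IsRegularLocalRing (Y.presheaf.stalk q)) {y : Y} (hy : IsClosed ({y} : Set Y))
    (hgen : y ≠ genericPoint Y) (π : Y' ⟶ Y)
    (hπ : BlowUp.IsBlowUp π (Scheme.IdealSheafData.vanishingIdeal ⟨{y}, hy⟩)) :
    IsProper π ∧ IsIntegral Y' ∧ IsLocallyNoetherian Y' ∧ (∀ q : Y', IsRegularLocalRing (Y'.presheaf.stalk q)) ∧
      IsIso (π ∣_ (⟨{y}ᶜ, hy.isOpen_compl⟩ : Y.Opens)) := by
  set I := Scheme.IdealSheafData.vanishingIdeal (⟨{y}, hy⟩ : Closeds Y)
  have hgen' : genericPoint Y ∉ I.support := fun h => hgen (by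
    have h' : genericPoint Y ∈ (I.support : Set Y) := h
    exact (show genericPoint Y = y by simpa [I] using h').symm)
  refine ⟨BlowUpLib.isProper_of_isBlowUp I hπ fun U => ?_, ResSurf.isIntegral_blowUp hπ hgen',
    CIntLib.isLocallyNoetherian_of_isBlowUp hπ,
    ResSurf.isRegular_blowUp hreg I.subschemeι (isRegular_subscheme_point hy) I.ker_subschemeι.symm hπ,
    BlowUpLib.isIso_restrict hπ _ fun q hq => ?_⟩
  · haveI := IsLocallyNoetherian.component_noetherian U
    exact IsNoetherian.noetherian _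
  · show q ∈ ((I.support : Set Y))ᶜ
    intro h
    exact hq (by simpa [I] using h)

/-- The two birationality conditions for a morphism that is an isomorphism off a point. -/
theorem eq_of_iso_off_point (f : X ⟶ Y) {y : Y} (hy : IsClosed ({y} : Set Y))
    (hiso : IsIso (f ∣_ (⟨{y}ᶜ, hy.isOpen_compl⟩ : Y.Opens))) {a b : X} (ha : f a ≠ y) (hab : f a = f b) : a = b := by
  haveI := hiso
  set V : Y.Opens := ⟨{y}ᶜ, hy.isOpen_compl⟩
  let a' : (f ⁻¹ᵁ V : X.Opens) := ⟨a, ha⟩
  let b' : (f ⁻¹ᵁ V : X.Opens) := ⟨b, show f b ≠ y from hab ▸ ha⟩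
  have h : (f ∣_ V) a' = (f ∣_ V) b' := V.ι.isOpenEmbedding.injective (by
    rw [← Scheme.Hom.comp_apply, ← Scheme.Hom.comp_apply, morphismRestrict_ι]
    exact hab)
  exact congrArg Subtype.val ((f ∣_ V).homeomorph.injective h)

/-- A point with two points in its fibre under a birational morphism of surfaces has a two-dimensional
local ring and a curve above it. -/
theorem exists_curve_over [IsIntegral X] [IsLocallyNoetherian X] [CompactSpace X] (f : X ⟶ Y) [IsProper f]
    [IsIntegral Y] [IsLocallyNoetherian Y] (hdX : topologicalKrullDim X ≤ 2)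
    (hnor : ∀ q : Y, IsIntegrallyClosed (Y.presheaf.stalk q))
    (e : f (genericPoint X) = genericPoint Y)
    (hbij : Function.Bijective (Y.presheaf.stalkSpecializes (specializes_of_eq e) ≫ f.stalkMap (genericPoint X)).hom)
    {y : Y} (hy : IsClosed ({y} : Set Y)) (hgen : y ≠ genericPoint Y)
    (hbig : ∃ x x' : X, x ≠ x' ∧ f x = y ∧ f x' = y) :
    (∃ ξ z, ξ ⤳ z ∧ ξ ≠ z ∧ f ξ = y ∧ f z = y) ∧ ¬ ringKrullDim (Y.presheaf.stalk y) ≤ 1 := by
  have hex : ∃ ξ z, ξ ⤳ z ∧ ξ ≠ z ∧ f ξ = y ∧ f z = y := by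
    haveI : AlgebraicGeometry.IsNoetherian X := { __ := ‹IsLocallyNoetherian X›, __ := ‹CompactSpace X› }
    by_contra! hcon
    have hdisc : ∀ a ∈ f ⁻¹' {y}, IsClosed ({a} : Set X) := fun a ha => isClosed_singleton_of_forall fun z hz => by
      by_contra hne
      exact hcon a z hz (Ne.symm hne) ha (((hz.map f.continuous).mem_closed hy ha))
    obtain ⟨C, hCf, hCc, hCi, hCU⟩ :=
      TopologicalSpace.NoetherianSpace.exists_finite_set_isClosed_irreducible (α := X) (s := f ⁻¹' {y})
        (hy.preimage f.continuous)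
    have hfin : (f ⁻¹' {y}).Finite := hCU ▸ hCf.sUnion fun T hT => by
      have hw := (hCi T hT).isGenericPoint_genericPoint_closure
      rw [(hCc T hT).closure_eq] at hw
      rw [← hw, (hdisc _ (hCU.ge ⟨T, hT, hw.mem⟩)).closure_eq]
      exact Set.finite_singleton _
    obtain ⟨x, x', hne, hx, hx'⟩ := hbig
    obtain ⟨w, -, hw1, hw2⟩ := isPreconnected_closed_iff.1
      (isPreconnected_fibre_of_isIso_app f (fun U hU => isIso_app_of_birational f hnor e hbij U hU) y) {x}
      (f ⁻¹' {y} \ {x}) (hdisc x hx) (by rw [← Set.biUnion_of_singleton (f ⁻¹' {y} \ {x})]; exact (hfin.subset Set.sdiff_subset).isClosed_biUnion fun a ha => hdisc a ha.1)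
      (fun a ha => (em (a = x)).imp id fun h => ⟨ha, h⟩) ⟨x, hx, rfl⟩ ⟨x', hx', hx', hne.symm⟩
    exact hw2.2 hw1
  refine ⟨hex, fun hd => ?_⟩
  obtain ⟨ξ, z, h, hne, hξ, hz⟩ := hex
  subst hz
  have hξη : ξ ≠ genericPoint X := fun h' => hgen (by rw [← hξ, h', e])
  have hd1 : ringKrullDim (Y.presheaf.stalk (f z)) = 1 := by
    refine le_antisymm hd ?_
    rw [ringKrullDim_stalk_eq_coheight]
    have : (1 : ℕ∞) ≤ Order.coheight (f z) := Order.one_le_iff_pos.2 (Order.coheight_pos.2 fun hm => hgen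
      ((genericPoint_specializes (f z)).antisymm (Scheme.le_iff_specializes.1 (hm (Scheme.le_iff_specializes.2
        (genericPoint_specializes (f z)))))).eq.symm)
    exact_mod_cast this
  haveI := hnor (f z)
  haveI := CDiv6.isDVR_of_dim_eq_one _ hd1
  have h2 := ringKrullDim_le_of_surjective _ (surjective_stalkMap_of_valuationRing f e hbij z)
  rw [hd1, ringKrullDim_stalk_eq_coheight] at h2
  have h3 : Order.coheight z ≤ 1 := by exact_mod_cast h2
  have h4 : ξ > z := lt_iff_le_not_ge.2 ⟨Scheme.le_iff_specializes.2 h,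
    fun h' => hne (h.antisymm (Scheme.le_iff_specializes.1 h')).eq⟩
  have h5 := Order.coheight_add_one_le h4
  rw [coheight_eq_one_of_middle hdX hξη h hne] at h5
  exact absurd (h5.trans h3) (by decide)

/-- A birational morphism of regular surfaces with irreducible exceptional locus is a blowing up. -/
theorem isBlowUp_of_irreducible [IsIntegral X] [IsIntegral Y] [IsLocallyNoetherian X] [IsLocallyNoetherian Y]
    [CompactSpace X] (hregX : ∀ x : X, IsRegularLocalRing (X.presheaf.stalk x))
    (hregY : ∀ q : Y, IsRegularLocalRing (Y.presheaf.stalk q))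
    (hdX : topologicalKrullDim X ≤ 2) (hdY : topologicalKrullDim Y ≤ 2) (f : X ⟶ Y) [IsProper f]
    {y : Y} (hy : IsClosed ({y} : Set Y)) (hgen : y ≠ genericPoint Y)
    (hiso : IsIso (f ∣_ (⟨{y}ᶜ, hy.isOpen_compl⟩ : Y.Opens)))
    (hirr : IsPreirreducible (f ⁻¹' {y})) (hbig : ∃ x x' : X, x ≠ x' ∧ f x = y ∧ f x' = y) :
    BlowUp.IsBlowUp f (Scheme.IdealSheafData.vanishingIdeal ⟨{y}, hy⟩) := by
  set I := Scheme.IdealSheafData.vanishingIdeal (⟨{y}, hy⟩ : Closeds Y)
  set V : Y.Opens := ⟨{y}ᶜ, hy.isOpen_compl⟩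
  have hVne : (V : Set Y).Nonempty := ⟨genericPoint Y, fun h => hgen h.symm⟩
  have hn : ∀ {S : Scheme.{u}}, (∀ q : S, IsRegularLocalRing (S.presheaf.stalk q)) → ∀ q : S,
      IsIntegrallyClosed (S.presheaf.stalk q) := fun {S} h q => by
    haveI := h q
    haveI := (RegUFD.ufd (S.presheaf.stalk q)).1
    haveI := (RegUFD.ufd (S.presheaf.stalk q)).2
    infer_instance
  obtain ⟨e, hbij⟩ := birational_of_isIso_restrict f ⟨V, hVne, hiso⟩
  obtain ⟨Y', π, hπ⟩ := BlowUpLib.exists_blowUp I
  obtain ⟨hπp, hY'i, hY'n, hY'r, hπiso⟩ := blowUp_point_props hregY hy hgen π hπ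
  obtain ⟨g, hg, -⟩ := hπ.2 X f (isEffCartier_comap_point hregX hregY hdX hdY f ⟨V, hVne, hiso⟩ hy hgen hbig)
  haveI : IsProper (g ≫ π) := hg.symm ▸ inferInstance
  haveI : IsProper g := IsProper.of_comp g π
  have hgV : IsIso (g ∣_ (π ⁻¹ᵁ V)) := by
    haveI := hπiso
    haveI : IsIso (g ∣_ (π ⁻¹ᵁ V) ≫ π ∣_ V) := by
      rw [← morphismRestrict_comp]
      subst hg
      exact hiso
    exact IsIso.of_isIso_comp_right _ (π ∣_ V)
  haveI := hY'i; haveI := hY'n; haveI := hπp
  obtain ⟨eπ, hbπ⟩ := birational_of_isIso_restrict π ⟨V, hVne, hπiso⟩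
  have hπV : ((π ⁻¹ᵁ V : Y'.Opens) : Set Y').Nonempty := ⟨genericPoint Y', fun h => hgen (h.symm.trans eπ)⟩
  obtain ⟨eg, hbg⟩ := birational_of_isIso_restrict g ⟨_, hπV, hgV⟩
  have hgapp : ∀ a, π (g a) = f a := fun a => by rw [← hg]; rfl
  haveI hgiso : IsIso g := by
    refine isIso_of_no_contraction g (hn hY'r) eg hbg fun ξ z h heq => by_contra fun hne => ?_
    have hfeq : f ξ = f z := by rw [← hgapp, ← hgapp, heq]
    by_cases hξy : f ξ = y
    swap
    · exact hne (eq_of_iso_off_point f hy hiso hξy hfeq)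
    have hξη : ξ ≠ genericPoint X := fun h' => hgen (by rw [← hξy, h', e])
    have hFi : IsIrreducible (f ⁻¹' {y}) := ⟨⟨ξ, hξy⟩, hirr⟩
    have hω := hFi.isGenericPoint_genericPoint_closure
    rw [(hy.preimage f.continuous).closure_eq] at hω
    have hωξ : hFi.genericPoint = ξ := middle_eq_of_chain hdX (genericPoint_specializes _)
      (fun h' => hgen ((show f hFi.genericPoint ∈ ({y} : Set Y) from hω.mem).symm.trans ((congrArg f h'.symm).trans e)))
      (hω.specializes hξy) h hne
    have hzc : IsClosed ({g z} : Set Y') := by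
      rw [← Set.image_singleton]
      exact g.isClosedMap _ (isClosed_singleton_of_chain hdX (genericPoint_specializes ξ) (Ne.symm hξη) h hne)
    have hall : ∀ a, f a = y → g a = g z := fun a ha =>
      (((hωξ ▸ hω.specializes ha : ξ ⤳ a)).map g.continuous).mem_closed hzc heq
    have hsub : ∀ p, π p = y → p = g z := fun p hp => by
      obtain ⟨a, -, rfl⟩ : p ∈ g '' Set.univ :=
        (genericPoint_specializes p).mem_closed (g.isClosedMap _ isClosed_univ) ⟨_, trivial, eg⟩
      exact hall a (by rw [← hgapp]; exact hp)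
    haveI : IsIso π := by
      refine isIso_of_no_contraction π (hn hregY) eπ hbπ fun p q hpq heq' => ?_
      by_cases hp : π p = y
      · exact (hsub p hp).trans (hsub q (heq'.symm.trans hp)).symm
      · exact eq_of_iso_off_point π hy hπiso hp heq'
    refine (exists_curve_over f hdX (hn hregY) e hbij hy hgen hbig).2 ?_
    have hI : BlowUp.IsEffCartierIdeal I := by
      have h1 := BlowUpLib.isEffCartier_comap_flat (inv π) hπ.1
      rwa [← Scheme.IdealSheafData.comap_comp, IsIso.inv_hom_id, Scheme.IdealSheafData.comap_id] at h1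
    obtain ⟨U, hU⟩ := exists_affine y
    obtain ⟨c, hc, hcgen⟩ := CDivEq.exists_gen I hI U hU
    rw [stk_vanishingIdeal_point hy U hU] at hcgen
    rw [← IsLocalRing.maximalIdeal_height_eq_ringKrullDim]
    haveI := hregY y
    have h1 := Ideal.height_le_one_of_isPrincipal_of_mem_minimalPrimes (Ideal.span {c}) (maximalIdeal _)
      ⟨⟨inferInstance, hcgen.ge⟩, fun Q hQ _ => hcgen.le.trans hQ.2⟩
    exact_mod_cast h1
  rw [← hg]
  exact BlowUpLib.isBlowUp_iso_comp g hπ

end Groth.Agent.ArSurfBase
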