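import Groth.Agent.CDivEq.Basic
import Groth.Agent.RegUFD.Basic
import Groth.Prelude.Def_BlowUp2

/-! # Equality of effective Cartier ideals read off at the points of codimension one -/

set_option autoImplicit false
set_option linter.style.haveILetI false
set_option linter.unusedSectionVars false

universe u

open CategoryTheory AlgebraicGeometry IsLocalRing

namespace Groth.Agent.ArSurfBase

open Groth.Agent.CDivEq (stk)

variable {S : Scheme.{u}}

theorem stk_mul (I J : S.IdealSheafData) (U : S.affineOpens) {x : S} (hx : x ∈ U.1) :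
    stk (I * J) U hx = stk I U hx * stk J U hx := by
  rw [stk, stk, stk, Scheme.IdealSheafData.ideal_mul, Pi.mul_apply, Ideal.map_mul]

theorem stk_pow (I : S.IdealSheafData) (n : ℕ) (U : S.affineOpens) {x : S} (hx : x ∈ U.1) :
    stk (I ^ n) U hx = stk I U hx ^ n := by
  rw [stk, stk, Scheme.IdealSheafData.ideal_pow, Pi.pow_apply, Ideal.map_pow]

theorem stk_one (U : S.affineOpens) {x : S} (hx : x ∈ U.1) :
    stk (1 : S.IdealSheafData) U hx = ⊤ := by
  have h := stk_pow (1 : S.IdealSheafData) 0 U hx
  rwa [pow_zero, pow_zero, Ideal.one_eq_top] at h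

theorem stk_prod {ι : Type*} (s : Finset ι) (I : ι → S.IdealSheafData) (U : S.affineOpens) {x : S}
    (hx : x ∈ U.1) : stk (∏ i ∈ s, I i) U hx = ∏ i ∈ s, stk (I i) U hx := by
  classical
  induction s using Finset.induction_on with
  | empty => rw [Finset.prod_empty, Finset.prod_empty, stk_one, Ideal.one_eq_top]
  | insert a s ha ih => rw [Finset.prod_insert ha, Finset.prod_insert ha, stk_mul, ih]

theorem stk_eq_top_of_notMem (I : S.IdealSheafData) (U : S.affineOpens) {x : S} (hx : x ∈ U.1)
    (h : x ∉ I.support) : stk I U hx = ⊤ := by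
  by_contra hne
  exact h ((CDivEq.mem_support_iff I U hx).2 hne)

theorem exists_affine (x : S) : ∃ U : S.affineOpens, x ∈ U.1 := by
  obtain ⟨U, hU, hx, -⟩ := exists_isAffineOpen_mem_and_subset (X := S) (x := x) (U := ⊤) trivial
  exact ⟨⟨U, hU⟩, hx⟩

/-- Inclusion of effective Cartier ideals on a regular scheme can be checked in codimension one. -/
theorem le_of_stk_codim_one [IsLocallyNoetherian S]
    (hreg : ∀ x : S, IsRegularLocalRing (S.presheaf.stalk x)) {F G : S.IdealSheafData}
    (hF : BlowUp.IsEffCartierIdeal F) (hG : BlowUp.IsEffCartierIdeal G)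
    (hle : ∀ (y : S) (W : S.affineOpens) (hy : y ∈ W.1), ringKrullDim (S.presheaf.stalk y) = 1 →
      stk F W hy ≤ stk G W hy) : F ≤ G := by
  intro W
  refine CDivEq.le_of_stk _ _ W fun x hx => ?_
  obtain ⟨g, hg, hFg⟩ := CDivEq.exists_gen F hF W hx
  obtain ⟨k, hk, hGk⟩ := CDivEq.exists_gen G hG W hx
  rw [hFg, hGk, Ideal.span_singleton_le_span_singleton]
  haveI := hreg x
  haveI := (RegUFD.ufd (S.presheaf.stalk x)).1
  haveI := (RegUFD.ufd (S.presheaf.stalk x)).2
  refine S7125.dvd_of_forall_height_one (nonZeroDivisors.ne_zero hk) fun p _ hp hkp => ?_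
  obtain ⟨y, hyx, hpy⟩ := H23.StalkPrimes.exists_point p
  letI := (S.presheaf.stalkSpecializes hyx).hom.toAlgebra
  haveI : IsLocalization.AtPrime (S.presheaf.stalk y) p := by
    have := H23.StalkPrimes.isLocalization_primeOf hyx
    simp only [IsLocalization.AtPrime, hpy] at this ⊢
    exact this
  have hyW : y ∈ W.1 := hyx.mem_open W.1.isOpen hx
  have hh := hle y W hyW (by
    rw [IsLocalization.AtPrime.ringKrullDim_eq_height p (S.presheaf.stalk y), hp]; rfl)
  have e : ∀ I : S.IdealSheafData, stk I W hyW = (stk I W hx).map (algebraMap _ (S.presheaf.stalk y)) := fun I => by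
    rw [stk, stk, Ideal.map_map, RingHom.algebraMap_toAlgebra, ← CommRingCat.hom_comp,
      S.presheaf.germ_stalkSpecializes]
  rw [e, e, hFg, hGk, Ideal.map_span, Ideal.map_span, Set.image_singleton, Set.image_singleton,
    Ideal.span_singleton_le_span_singleton] at hh
  let ε := IsLocalization.algEquiv p.primeCompl (S.presheaf.stalk y) (Localization.AtPrime p)
  have := map_dvd ε hh
  simpa only [AlgEquiv.commutes] using this

/-- Two effective Cartier ideals on a regular scheme agree if they agree at the points of codimension one. -/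
theorem eq_of_stk_codim_one [IsLocallyNoetherian S]
    (hreg : ∀ x : S, IsRegularLocalRing (S.presheaf.stalk x)) {D E : S.IdealSheafData}
    (hD : BlowUp.IsEffCartierIdeal D) (hE : BlowUp.IsEffCartierIdeal E)
    (h : ∀ (y : S) (W : S.affineOpens) (hy : y ∈ W.1), ringKrullDim (S.presheaf.stalk y) = 1 →
      stk D W hy = stk E W hy) : D = E :=
  le_antisymm (le_of_stk_codim_one hreg hD hE fun y W hy hd => (h y W hy hd).le)
    (le_of_stk_codim_one hreg hE hD fun y W hy hd => (h y W hy hd).ge)

end Groth.Agent.ArSurfBase
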