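import Groth.Prelude.Def_ArSurf
import Groth.Agent.PicClLib.Basic
import Groth.Agent.Lib.Euler
import Groth.Agent.Lib.CurveVanish

/-! # Degrees on vertical prime divisors -/

set_option autoImplicit false
set_option linter.style.haveILetI false
set_option linter.unusedSectionVars false

universe u

open CategoryTheory Limits AlgebraicGeometry
open Groth.Agent.PnCoh.Finite (mapLin)

namespace Groth.Agent.ArSurfBase

variable {k : Type u} [Field k] {Y : Scheme.{u}} [Y.Over (Spec (CommRingCat.of k))]

theorem finrank_HH_congr {M N : Y.Modules} (e : M ≅ N) (i : ℕ) :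
    Module.finrank k (Coh.HH Y M i) = Module.finrank k (Coh.HH Y N i) := by
  refine LinearEquiv.finrank_eq (LinearEquiv.ofBijective (mapLin k e.hom i) ?_)
  have h : ∀ {P Q : Y.Modules} (e : P ≅ Q) (y : Coh.HH Y Q i),
      mapLin k e.hom i (mapLin k e.inv i y) = y := fun e y =>
    (Groth.Agent.PnCoh.Finite.map_map (Y := Y.toPresheafedSpace.carrier)
      (((QCoh.toAbFunctor Y).map_comp e.inv e.hom).symm.trans
        (by rw [e.inv_hom_id, CategoryTheory.Functor.map_id]; rfl)) i y).trans (Sheaf.H.map_id_apply y)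
  exact Function.bijective_iff_has_inverse.mpr ⟨mapLin k e.inv i, fun x => h e.symm x, h e⟩

theorem eulerCharLE_congr {M N : Y.Modules} (e : M ≅ N) (d : ℕ) :
    FGA.eulerCharLE k Y M d = FGA.eulerCharLE k Y N d :=
  Finset.sum_congr rfl fun i _ => by rw [finrank_HH_congr e i]

theorem curveDeg_congr {M N : Y.Modules} (e : M ≅ N) :
    ArSurf.curveDeg k Y M = ArSurf.curveDeg k Y N := by
  rw [ArSurf.curveDeg, ArSurf.curveDeg, eulerCharLE_congr e]

theorem curveDeg_eq_zero_of_iso {M : Y.Modules} (e : M ≅ Coh.structureModule Y) :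
    ArSurf.curveDeg k Y M = 0 := by
  rw [curveDeg_congr e, ArSurf.curveDeg, sub_self]

theorem eulerCharLE_eq_euler [IsIntegral Y] [IsProper (Y ↘ Spec (CommRingCat.of k))]
    (hdim : topologicalKrullDim Y ≤ 1) {M : Y.Modules} (hM : Coh.IsQCoh M) :
    FGA.eulerCharLE k Y M 1 = Curv2.euler k Y M := by
  rw [Euler.euler_eq_sum k M 2 fun i hi => by
    obtain ⟨n, rfl⟩ := Nat.exists_eq_add_of_le hi
    rw [add_comm]
    exact CurveVanish.subsingleton_HH_curve k hdim hM n]
  rfl

theorem curveDeg_eq_deg [IsIntegral Y] [IsProper (Y ↘ Spec (CommRingCat.of k))]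
    (hdim : topologicalKrullDim Y ≤ 1) {M : Y.Modules} (hM : Coh.IsQCoh M) :
    ArSurf.curveDeg k Y M = Curv2.deg k Y M 1 := by
  rw [ArSurf.curveDeg, Curv2.deg, eulerCharLE_eq_euler hdim hM,
    eulerCharLE_eq_euler hdim QCoh.isQCoh_structureModule, Nat.cast_one, one_mul]

/-- An invertible module pulls back to the trivial module along a map from a scheme into a point. -/
theorem pullback_trivial_of_range_subset {X S : Scheme.{u}} (f : X ⟶ S) {M : S.Modules}
    (hM : PicF.IsInvertible M) {y : S} (hy : Set.range f.base ⊆ {y}) :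
    Nonempty ((Scheme.Modules.pullback f).obj M ≅ Coh.structureModule X) := by
  obtain ⟨U, hU, ⟨e⟩⟩ := hM y
  have hr : Set.range f.base ⊆ Set.range U.ι.base := by
    rw [U.range_ι]
    exact hy.trans (Set.singleton_subset_iff.2 hU)
  obtain ⟨e'⟩ := PicClLib.nonempty_pullback_structureModule (IsOpenImmersion.lift U.ι f hr)
  exact ⟨(Scheme.Modules.pullbackCongr (IsOpenImmersion.lift_fac U.ι f hr)).symm.app M ≪≫
    ((Scheme.Modules.pullbackComp (IsOpenImmersion.lift U.ι f hr) U.ι).app M).symm ≪≫
    (Scheme.Modules.pullback _).mapIso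
      (((Scheme.Modules.restrictFunctorIsoPullback U.ι).app M).symm ≪≫ e) ≪≫ e'⟩

variable {R : Type u} [CommRing R] [IsDomain R] [IsDiscreteValuationRing R]
  {X : Over (Spec (CommRingCat.of R))}

theorem isProper_curve [IsProper X.hom] (Γ : ArSurf.VertComp R X) :
    IsProper (Γ.curve.left ↘ Spec (CommRingCat.of (IsLocalRing.ResidueField R))) := by
  haveI : IsClosedImmersion (Spec.map (CommRingCat.ofHom (IsLocalRing.residue R))) :=
    IsClosedImmersion.spec_of_surjective _ IsLocalRing.residue_surjective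
  have : IsProper (Γ.curve.hom ≫ Spec.map (CommRingCat.ofHom (IsLocalRing.residue R))) := by
    rw [← Γ.w]; infer_instance
  haveI : IsProper ((Γ.curve.left ↘ Spec (CommRingCat.of (IsLocalRing.ResidueField R))) ≫
      Spec.map (CommRingCat.ofHom (IsLocalRing.residue R))) := this
  exact IsProper.of_comp _ (Spec.map (CommRingCat.ofHom (IsLocalRing.residue R)))

end Groth.Agent.ArSurfBase
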