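import Groth.Agent.ArSurfBase.Proper
import Groth.Agent.ArSurfBase.Deg
import Groth.Prelude.Def_ModelsG
import Groth.Agent.SurfInt.Curve

/-! # Vertical prime divisors of a regular surface over a discrete valuation ring -/

set_option autoImplicit false
set_option linter.style.haveILetI false
set_option linter.unusedSectionVars false

universe u

open CategoryTheory CategoryTheory.Limits AlgebraicGeometry TopologicalSpace

namespace Groth.Agent.ArSurfBase

theorem ker_eq_vanishingIdeal {Z X : Scheme.{u}} (i : Z ⟶ X) [QuasiCompact i] [IsReduced Z] :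
    i.ker = Scheme.IdealSheafData.vanishingIdeal i.ker.support := by
  rw [Scheme.IdealSheafData.vanishingIdeal_support]
  ext U : 2
  rw [Scheme.IdealSheafData.radical_ideal, Scheme.Hom.ker_apply]
  refine (Ideal.IsRadical.radical fun a ha => ?_).symm
  obtain ⟨n, hn⟩ := ha
  rw [RingHom.mem_ker, map_pow] at hn
  exact RingHom.mem_ker.2 (IsReduced.eq_zero _ ⟨n, hn⟩)

variable {R : Type u} [CommRing R] [IsDomain R] [IsDiscreteValuationRing R]
  {X : Over (Spec (CommRingCat.of R))} (Γ : ArSurf.VertComp R X)

/-- The support of a vertical prime divisor. -/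
def supp : Set X.left := Set.range (Γ.ι.base : Γ.curve.left → X.left)

theorem isClosed_supp : IsClosed (supp Γ) := Γ.ι.isClosedEmbedding.isClosed_range

theorem isGenericPoint_genPtOf : IsGenericPoint (Models.genPtOf R X Γ) (supp Γ) := by
  have h := (genericPoint_spec Γ.curve.left).image Γ.ι.continuous
  rw [Set.image_univ, Γ.ι.isClosedEmbedding.isClosed_range.closure_eq] at h
  exact h

theorem genPtOf_mem : Models.genPtOf R X Γ ∈ supp Γ := ⟨_, rfl⟩

theorem hom_base_eq_closedPoint {x : X.left} (hx : x ∈ supp Γ) :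
    X.hom.base x = IsLocalRing.closedPoint R := by
  obtain ⟨c, rfl⟩ := hx
  show (Γ.ι ≫ X.hom).base c = _
  rw [Γ.w]
  show Spec.map (CommRingCat.ofHom (IsLocalRing.residue R)) (Γ.curve.hom.base c) = _
  rw [Subsingleton.elim (Γ.curve.hom.base c) (IsLocalRing.closedPoint _)]
  exact IsLocalRing.comap_closedPoint (IsLocalRing.residue R)

theorem supp_subset_specialFibreSet : supp Γ ⊆ Models.specialFibreSet R X :=
  fun _ hx => hom_base_eq_closedPoint Γ hx

theorem asIdeal_ne_bot {x : X.left} (hx : x ∈ supp Γ) : (X.hom.base x).asIdeal ≠ ⊥ := by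
  rw [hom_base_eq_closedPoint Γ hx]
  exact IsDiscreteValuationRing.not_a_field R

theorem supp_eq_iff_genPtOf_eq {Γ' : ArSurf.VertComp R X} :
    supp Γ = supp Γ' ↔ Models.genPtOf R X Γ = Models.genPtOf R X Γ' := by
  refine ⟨fun h => (isGenericPoint_genPtOf Γ).eq (h ▸ isGenericPoint_genPtOf Γ'), fun h => ?_⟩
  rw [← isGenericPoint_genPtOf Γ, h, isGenericPoint_genPtOf Γ']

theorem support_ker : (Γ.ι.ker.support : Set X.left) = supp Γ := by
  rw [Scheme.Hom.support_ker, Γ.ι.isClosedEmbedding.isClosed_range.closure_eq]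
  rfl

theorem ker_congr {Γ' : ArSurf.VertComp R X} (h : supp Γ = supp Γ') : Γ.ι.ker = Γ'.ι.ker := by
  rw [ker_eq_vanishingIdeal Γ.ι, ker_eq_vanishingIdeal Γ'.ι]
  congr 1
  exact SetLike.coe_injective ((support_ker Γ).trans (h.trans (support_ker Γ').symm))

theorem exists_specializes_ne :
    ∃ z ∈ supp Γ, Models.genPtOf R X Γ ⤳ z ∧ Models.genPtOf R X Γ ≠ z := by
  obtain ⟨a, b, hab, hne⟩ := exists_specializes_ne_of_dim_pos (Y := Γ.curve.left)
    (by rw [Γ.dim_eq]; exact zero_lt_one)
  refine ⟨Γ.ι.base b, ⟨b, rfl⟩, (isGenericPoint_genPtOf Γ).specializes ⟨b, rfl⟩, fun e => ?_⟩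
  have hb : b = genericPoint Γ.curve.left := (Γ.ι.isClosedEmbedding.injective e).symm
  exact hne ((hab.antisymm (hb ▸ genericPoint_specializes a)).eq)

section Surface

variable [IsIntegral X.left] [Flat X.hom]

theorem genericPoint_ne_genPtOf : genericPoint X.left ≠ Models.genPtOf R X Γ :=
  ne_genericPoint X.hom (asIdeal_ne_bot Γ (genPtOf_mem Γ))

variable (hdim : topologicalKrullDim X.left = 2)

include hdim in
/-- A point of the closed fibre specialising to the generic point of a vertical prime divisor is that point. -/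
theorem eq_genPtOf_of_specializes {x : X.left} (hx : X.hom.base x = IsLocalRing.closedPoint R)
    (h : x ⤳ Models.genPtOf R X Γ) : x = Models.genPtOf R X Γ := by
  obtain ⟨z, -, hz, hne⟩ := exists_specializes_ne Γ
  exact middle_eq_of_chain hdim.le (genericPoint_specializes x)
    (ne_genericPoint X.hom (by rw [hx]; exact IsDiscreteValuationRing.not_a_field R)) h hz hne

include hdim in
theorem supp_mem_fibreComponents : supp Γ ∈ Models.fibreComponents R X := by
  refine ⟨⟨(isGenericPoint_genPtOf Γ).isIrreducible, supp_subset_specialFibreSet Γ⟩, fun S hS hle => ?_⟩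
  have hg : IsGenericPoint hS.1.genericPoint (closure S) := hS.1.isGenericPoint_genericPoint_closure
  have hfib := (Models.isClosed_specialFibreSet R X).closure_subset_iff.2 hS.2 hg.mem
  have := eq_genPtOf_of_specializes Γ hdim hfib (hg.specializes (subset_closure (hle (genPtOf_mem Γ))))
  exact subset_closure.trans (by rw [← hg, this, isGenericPoint_genPtOf Γ])

include hdim in
theorem coheight_genPtOf : Order.coheight (Models.genPtOf R X Γ) = 1 := by
  have hlt : Models.genPtOf R X Γ < genericPoint X.left :=
    ⟨genericPoint_specializes _, fun h => genericPoint_ne_genPtOf Γ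
      ((Scheme.le_iff_specializes.1 h).antisymm (genericPoint_specializes _)).eq.symm⟩
  refine le_antisymm ?_ ?_
  · rw [← Nat.cast_one, Order.coheight_le_coe_iff]
    intro y hy
    obtain ⟨z, -, hz, hne⟩ := exists_specializes_ne Γ
    have : Order.coheight y = 0 := by
      rw [Order.coheight_eq_zero]
      intro w hw
      refine Scheme.le_iff_specializes.2 ?_
      by_cases e : y = genericPoint X.left
      · exact e ▸ genericPoint_specializes w
      · refine absurd (middle_eq_of_chain hdim.le (genericPoint_specializes y) (Ne.symm e)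
          (Scheme.le_iff_specializes.1 hy.le) hz hne) hy.ne'
    rw [this]
    exact Nat.cast_pos.2 one_pos
  · exact Order.one_le_iff_pos.2 (Order.coheight_pos.2 fun h => hlt.not_ge (h hlt.le))

include hdim in
theorem ringKrullDim_stalk_genPtOf :
    ringKrullDim (X.left.presheaf.stalk (Models.genPtOf R X Γ)) = 1 := by
  rw [ringKrullDim_stalk_eq_coheight, coheight_genPtOf Γ hdim]
  rfl

include hdim in
theorem isEffCartier_ker [IsLocallyNoetherian X.left]
    (hreg : ∀ x : X.left, IsRegularLocalRing (X.left.presheaf.stalk x)) :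
    BlowUp.IsEffCartierIdeal Γ.ι.ker := by
  haveI := SurfInt.isIntegral_ker Γ.ι
  refine DivX.isEffCartier_of_codim_one _ ?_ fun x _ =>
    haveI := hreg x
    RegUFD.ufd _
  have : Γ.ι.ker.subschemeι (genericPoint ↥Γ.ι.ker.subscheme) = Models.genPtOf R X Γ := by
    rw [← genericPoint_eq_of_isOpenImmersion (SurfInt.kerIso Γ.ι).hom, ← Scheme.Hom.comp_apply,
      SurfInt.kerIso_hom]
    rfl
  rw [this]
  exact ringKrullDim_stalk_genPtOf Γ hdim

end Surface

end Groth.Agent.ArSurfBase
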