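import Groth.Agent.ArSurfBase.RelMin
import Groth.Agent.DimLift.Basic

/-! # Birational morphisms of arithmetic surfaces; existence of relatively minimal models -/

set_option autoImplicit false
set_option linter.style.haveILetI false
set_option linter.unusedSectionVars false
set_option backward.isDefEq.respectTransparency false
set_option backward.isDefEq.respectTransparency.types false

universe u

open CategoryTheory CategoryTheory.Limits AlgebraicGeometry IsLocalRing

namespace Groth.Agent.ArSurfBase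

variable {R : Type u} [CommRing R] [IsDedekindDomain R] {X Y : Over (Spec (CommRingCat.of R))}

/-- A map of a fibred surface to a regular projective flat scheme, bijective on generic fibres. -/
structure BirData (g : X ⟶ Y) : Prop where
  isIntegral : IsIntegral Y.left
  proper : IsProper g.left
  surjective : Function.Surjective g.left
  inj : ∀ a b : X.left, (X.hom.base a).asIdeal = ⊥ → g.left a = g.left b → a = b
  contracted : ¬ IsIso g → ∃ ξ z : X.left, (X.hom.base ξ).asIdeal ≠ ⊥ ∧ ξ ⤳ z ∧ ξ ≠ z ∧ g.left ξ = g.left z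
  meets : ∀ ξ z : X.left, (X.hom.base ξ).asIdeal ≠ ⊥ → ξ ⤳ z → ξ ≠ z → g.left ξ = g.left z →
    ∃ ξ' w : X.left, (X.hom.base ξ').asIdeal ≠ ⊥ ∧ ξ ⤳ w ∧ ξ ≠ w ∧ ξ' ⤳ w ∧ ξ' ≠ w ∧ ξ' ≠ ξ
  dim : ¬ IsIso g → topologicalKrullDim Y.left = 2

theorem birData (hX : ArSurf.IsArithSurface R X) (hregY : ∀ y : Y.left, IsRegularLocalRing (Y.left.presheaf.stalk y))
    (hprojY : Neron.IsProjectiveOver R Y) (hflatY : Flat Y.hom) (g : X ⟶ Y)
    (hg : IsIso ((Neron.genericFibre R).map g)) : BirData g := by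
  haveI := hX.2.1; haveI := hX.2.2.2.1; haveI := hflatY
  haveI := isProper_of_isArithSurface hX
  haveI := isProper_of_isProjectiveOver hprojY
  obtain ⟨hintY, hinj, -, hgen, hstalk⟩ :=
    birational_of_genericFibre g (fun y => (normal_of_regular hregY y).1) hg
  haveI := hintY; haveI := hstalk
  haveI : IsLocallyNoetherian X.left := LocallyOfFiniteType.isLocallyNoetherian X.hom
  haveI : CompactSpace X.left := QuasiCompact.compactSpace_of_compactSpace X.hom
  haveI : IsLocallyNoetherian Y.left := LocallyOfFiniteType.isLocallyNoetherian Y.hom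
  haveI : IsProper (g.left ≫ Y.hom) := by rw [Over.w]; infer_instance
  haveI hgp : IsProper g.left := IsProper.of_comp g.left Y.hom
  have e : g.left (genericPoint X.left) = genericPoint Y.left :=
    ((hgen _).antisymm (genericPoint_specializes _)).eq
  haveI := BirNormal.isIso_stalkSpecializes_of_eq e (specializes_of_eq e)
  have hbir := ConcreteCategory.bijective_of_isIso
    (Y.left.presheaf.stalkSpecializes (specializes_of_eq e) ≫ g.left.stalkMap (genericPoint X.left))
  have hn := fun y => (normal_of_regular hregY y).2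
  have hdim := hX.2.2.1.le
  have hsurj : Function.Surjective g.left := fun y' => by
    obtain ⟨x, -, hx⟩ : y' ∈ g.left '' Set.univ :=
      (genericPoint_specializes y').mem_closed (g.left.isClosedMap _ isClosed_univ) ⟨_, trivial, e⟩
    exact ⟨x, hx⟩
  have hinj' : ∀ a b : X.left, (X.hom.base a).asIdeal = ⊥ → g.left a = g.left b → a = b := fun a b ha hab => by
    refine hinj a b ha ?_ hab
    rw [← Over.w g, Scheme.Hom.comp_apply, ← hab, ← Scheme.Hom.comp_apply, Over.w g]
    exact ha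
  have hcon : ¬ IsIso g → ∃ ξ z : X.left, (X.hom.base ξ).asIdeal ≠ ⊥ ∧ ξ ⤳ z ∧ ξ ≠ z ∧ g.left ξ = g.left z :=
    fun hni => by
    by_contra! hall
    haveI : IsIso g.left := isIso_of_no_contraction g.left hn e hbir fun ξ z h heq => by_contra fun hne => by
      by_cases hξ : (X.hom.base ξ).asIdeal = ⊥
      · exact hne (hinj' ξ z hξ heq)
      · exact hall ξ z hξ h hne heq
    haveI : IsIso ((Over.forget (Spec (CommRingCat.of R))).map g) := inferInstanceAs (IsIso g.left)
    exact hni (isIso_of_reflects_iso g (Over.forget _))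
  refine ⟨hintY, hgp, hsurj, hinj', hcon,
    fun ξ z hξ h hne heq => exists_other_curve X.hom Y.hom hdim g.left (Over.w g) hn e hbir hξ h hne heq,
    fun hni => le_antisymm
      ((DimLift.le_of_specializing g.left.base hsurj (IsClosedMap.specializingMap g.left.isClosedMap)).trans hdim) ?_⟩
  obtain ⟨ξ, z, hξ, h, hne, heq⟩ := hcon hni
  have hc := mem_closure_of_contracted' X.hom Y.hom g.left (Over.w g) hn e hbir hξ h hne heq
  haveI : CompactSpace Y.left := QuasiCompact.compactSpace_of_compactSpace Y.hom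
  haveI : AlgebraicGeometry.IsNoetherian Y.left :=
    { __ := ‹IsLocallyNoetherian Y.left›, __ := ‹CompactSpace Y.left› }
  set A := {y' : Y.left | Y.hom.base y' = Y.hom.base (g.left z) ∧ y' ≠ g.left z}
  obtain ⟨C, hCf, hCc, hCi, hCU⟩ :=
    TopologicalSpace.NoetherianSpace.exists_finite_set_isClosed_irreducible (α := Y.left) (s := closure A) isClosed_closure
  obtain ⟨T, hT, hyT, hTy⟩ : ∃ T ∈ C, g.left z ∈ T ∧ ∃ t ∈ T, t ≠ g.left z := by
    by_contra! hall
    have hK : IsClosed (⋃₀ {T ∈ C | g.left z ∉ T}) := by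
      rw [Set.sUnion_eq_biUnion]
      exact (hCf.subset (Set.sep_subset _ _)).isClosed_biUnion fun T hT => hCc T hT.1
    have hsub : A ⊆ ⋃₀ {T ∈ C | g.left z ∉ T} := fun x hx => by
      obtain ⟨T, hT, hxT⟩ := Set.mem_sUnion.1 (hCU.subset (subset_closure hx))
      exact Set.mem_sUnion.2 ⟨T, ⟨hT, fun hzT => hx.2 (hall T hT hzT x hxT)⟩, hxT⟩
    obtain ⟨T, ⟨hT, hzT⟩, hzT'⟩ := Set.mem_sUnion.1 (closure_minimal hsub hK hc)
    exact hzT hzT'
  have hw := (hCi T hT).isGenericPoint_genericPoint_closure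
  rw [(hCc T hT).closure_eq] at hw
  set y' := (hCi T hT).genericPoint
  have hy' : y' ≠ g.left z := fun h' => by
    obtain ⟨t, ht, hty⟩ := hTy
    have hzc : IsClosed ({g.left z} : Set Y.left) := by
      rw [← Set.image_singleton]
      exact g.left.isClosedMap _ (isClosed_singleton_of_chain hdim (genericPoint_specializes ξ)
        (ne_genericPoint X.hom hξ) h hne)
    exact hty ((hw.specializes ht).mem_closed hzc h')
  have hb0 : (Y.hom.base (g.left z)).asIdeal ≠ ⊥ := by
    rw [← Scheme.Hom.comp_apply, Over.w g, ← eq_of_base_specializes (h.map X.hom.continuous) hξ]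
    exact hξ
  have hy'0 : y' ≠ genericPoint Y.left := fun h' => by
    have h1 : (genericPoint Y.left) ∈ closure A := hCU.ge (Set.mem_sUnion.2 ⟨T, hT, h' ▸ hw.mem⟩)
    have h2 : closure A ⊆ Y.hom.base ⁻¹' {Y.hom.base (g.left z)} := by
      refine closure_minimal (fun a ha => ha.1) ?_
      haveI : (Y.hom.base (g.left z)).asIdeal.IsMaximal := (Y.hom.base (g.left z)).isPrime.isMaximal hb0
      exact ((PrimeSpectrum.isClosed_singleton_iff_isMaximal _).2 inferInstance).preimage Y.hom.continuous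
    refine hb0 ?_
    rw [← show Y.hom.base (genericPoint Y.left) = Y.hom.base (g.left z) from h2 h1]
    exact asIdeal_eq_bot_genericPoint Y.hom
  exact two_le_dim (genericPoint_specializes y') hy'0.symm (hw.specializes hyT) hy'

theorem finite_curves_over {X : Scheme.{u}} [IsIntegral X] [IsLocallyNoetherian X] [CompactSpace X]
    (f : X ⟶ Spec (CommRingCat.of R)) [Flat f] (hdim : topologicalKrullDim X ≤ 2) {r : R} (hr : r ≠ 0) :
    {ξ : X | r ∈ (f.base ξ).asIdeal ∧ ∃ z, ξ ⤳ z ∧ ξ ≠ z}.Finite := by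
  haveI : AlgebraicGeometry.IsNoetherian X := { __ := ‹IsLocallyNoetherian X›, __ := ‹CompactSpace X› }
  have hV : IsClosed {x : X | r ∈ (f.base x).asIdeal} := by
    have := (PrimeSpectrum.isClosed_zeroLocus ({r} : Set R)).preimage f.continuous
    rw [show {x : X | r ∈ (f.base x).asIdeal} = f.base ⁻¹' PrimeSpectrum.zeroLocus ({r} : Set R) from
      Set.ext fun x => (Set.singleton_subset_iff (s := ((f.base x).asIdeal : Set R))).symm]
    exact this
  obtain ⟨C, hCf, hCc, hCi, hCU⟩ :=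
    TopologicalSpace.NoetherianSpace.exists_finite_set_isClosed_irreducible (α := X) (s := {x : X | r ∈ (f.base x).asIdeal}) hV
  haveI : Fintype C := hCf.fintype
  refine (Set.finite_range fun T : C => (hCi T.1 T.2).genericPoint).subset ?_
  rintro ξ ⟨hξ, z, hz, hne⟩
  obtain ⟨T, hT, hξT⟩ := Set.mem_sUnion.1 (hCU.subset hξ)
  have hw := (hCi T hT).isGenericPoint_genericPoint_closure
  rw [(hCc T hT).closure_eq] at hw
  refine ⟨⟨T, hT⟩, middle_eq_of_chain hdim (genericPoint_specializes _) ?_ (hw.specializes hξT) hz hne⟩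
  refine ne_genericPoint f fun h0 => hr ?_
  have h1 : r ∈ (f.base (hCi T hT).genericPoint).asIdeal := hCU.ge (Set.mem_sUnion.2 ⟨T, hT, hw.mem⟩)
  rwa [h0, Ideal.mem_bot] at h1

/-- Every fibred surface has a relatively minimal model. -/
theorem exists_relMinimal (hX : ArSurf.IsArithSurface R X) :
    ∃ (Y : Over (Spec (CommRingCat.of R))) (f : X ⟶ Y), ArSurf.IsArithSurface R Y ∧
      Neron.IsRelMinimalRegularModel R Y ∧ IsIso ((Neron.genericFibre R).map f) := by
  haveI := hX.2.1; haveI := hX.2.2.2.1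
  haveI := isProper_of_isArithSurface hX
  haveI : IsLocallyNoetherian X.left := LocallyOfFiniteType.isLocallyNoetherian X.hom
  haveI : CompactSpace X.left := QuasiCompact.compactSpace_of_compactSpace X.hom
  obtain ⟨r, hr0, hr⟩ := exists_disjoint_components X.hom (fun x => (normal_of_regular hX.1 x).2) hX.2.2.1.le
  have hT := finite_curves_over X.hom hX.2.2.1.le hr0
  set T := {ξ : X.left | r ∈ (X.hom.base ξ).asIdeal ∧ ∃ z, ξ ⤳ z ∧ ξ ≠ z}
  suffices key : ∀ (n : ℕ) (Y : Over (Spec (CommRingCat.of R))) (h : X ⟶ Y), ArSurf.IsArithSurface R Y →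
      IsIso ((Neron.genericFibre R).map h) →
      {ξ ∈ T | ¬ ∃ z, ξ ⤳ z ∧ ξ ≠ z ∧ h.left ξ = h.left z}.ncard ≤ n →
      ∃ (Y : Over (Spec (CommRingCat.of R))) (f : X ⟶ Y), ArSurf.IsArithSurface R Y ∧
        Neron.IsRelMinimalRegularModel R Y ∧ IsIso ((Neron.genericFibre R).map f) by
    refine key _ X (𝟙 X) hX ?_ le_rfl
    rw [CategoryTheory.Functor.map_id]
    infer_instance
  intro n
  induction n using Nat.strong_induction_on with
  | _ n ih =>
    intro Y h hY hh hn
    by_cases hmin : Neron.IsRelMinimalRegularModel R Y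
    · exact ⟨Y, h, hY, hmin, hh⟩
    obtain ⟨Z, hregZ, hprojZ, hflatZ, g, hg, hni⟩ : ∃ Z : Over (Spec (CommRingCat.of R)),
        (∀ z : Z.left, IsRegularLocalRing (Z.left.presheaf.stalk z)) ∧ Neron.IsProjectiveOver R Z ∧ Flat Z.hom ∧
          ∃ g : Y ⟶ Z, IsIso ((Neron.genericFibre R).map g) ∧ ¬ IsIso g := by
      by_contra! hall
      exact hmin ⟨hY.1, hY.2.2.2.2, hY.2.2.2.1, hall⟩
    have hB := birData hY hregZ hprojZ hflatZ g hg
    have hZ : ArSurf.IsArithSurface R Z := ⟨hregZ, hB.isIntegral, hB.dim hni, hflatZ, hprojZ⟩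
    have hhg : IsIso ((Neron.genericFibre R).map (h ≫ g)) := by
      rw [CategoryTheory.Functor.map_comp]; infer_instance
    obtain ⟨ξ₀, z₀, hξ₀, h₀, hne₀, heq₀⟩ := hB.contracted hni
    have hA := birData hX hY.1 hY.2.2.2.2 hY.2.2.2.1 h hh
    haveI := hA.proper
    obtain ⟨ξ, rfl⟩ := hA.surjective ξ₀
    obtain ⟨z, hz, rfl⟩ := IsClosedMap.specializingMap h.left.isClosedMap h₀
    have hξ : (X.hom.base ξ).asIdeal ≠ ⊥ := by rwa [← Over.w h, Scheme.Hom.comp_apply]
    have hne : ξ ≠ z := fun e => hne₀ (by rw [e])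
    have heq : (h ≫ g).left ξ = (h ≫ g).left z := heq₀
    obtain ⟨ξ', w, hξ', h1, h2, h3, h4, h5⟩ :=
      (birData hX hregZ hprojZ hflatZ (h ≫ g) hhg).meets ξ z hξ hz hne heq
    have hξr : r ∈ (X.hom.base ξ).asIdeal := by
      by_contra hrr
      exact h5 (hr ξ ξ' w hξ hξ' hrr h1 h2 h3 h4).symm
    refine ih _ (lt_of_lt_of_le (Set.ncard_lt_ncard ?_ (hT.subset (Set.sep_subset _ _))) hn) Z (h ≫ g) hZ hhg le_rfl
    have hsub : {x ∈ T | ¬ ∃ z, x ⤳ z ∧ x ≠ z ∧ (h ≫ g).left x = (h ≫ g).left z} ⊆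
        {x ∈ T | ¬ ∃ z, x ⤳ z ∧ x ≠ z ∧ h.left x = h.left z} := fun x hx =>
      ⟨hx.1, fun ⟨z', a, b, c⟩ => hx.2 ⟨z', a, b, congrArg g.left c⟩⟩
    refine (Set.ssubset_iff_of_subset hsub).2
      ⟨ξ, ⟨⟨hξr, z, hz, hne⟩, fun ⟨z', hz', hne', e'⟩ => ?_⟩, fun hx => hx.2 ⟨z, hz, hne, heq⟩⟩
    have hc : IsClosed ({h.left z'} : Set Y.left) := by
      rw [← Set.image_singleton]
      exact h.left.isClosedMap _ (isClosed_singleton_of_chain hX.2.2.1.le (genericPoint_specializes ξ)
        (ne_genericPoint X.hom hξ) hz' hne')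
    exact hne₀ ((h₀.mem_closed hc e').trans e'.symm).symm

end Groth.Agent.ArSurfBase
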