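import Groth.Agent.ArSurfBase.ModelsMeet
import Groth.Agent.ArSurfBase.DedBirat

/-! # Minimal desingularisations of normal surfaces -/

set_option autoImplicit false
set_option linter.style.haveILetI false
set_option linter.unusedSectionVars false

universe u

open CategoryTheory CategoryTheory.Limits AlgebraicGeometry TopologicalSpace

namespace Groth.Agent.ArSurfBase

open ResSurf.RegularFactor (contracted)

/-- A morphism of schemes which is an isomorphism over some nonempty open. -/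
def IsBiratOpen {A B : Scheme.{u}} (f : A ⟶ B) : Prop :=
  ∃ U : B.Opens, (U : Set B).Nonempty ∧ IsIso (f ∣_ U)

theorem IsBiratOpen.apply_genericPoint {A B : Scheme.{u}} [IsIntegral A] [IsIntegral B] {f : A ⟶ B}
    (hf : IsBiratOpen f) : f (genericPoint A) = genericPoint B := by
  obtain ⟨U, hU, hi⟩ := hf
  haveI := hi
  exact (ResSurf.isBirat_of_isIso_restrict f U hU).apply_genericPoint

theorem IsBiratOpen.comp {A B C : Scheme.{u}} [IsIntegral A] [IsIntegral B] [IsIntegral C] {f : A ⟶ B}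
    {g : B ⟶ C} [UniversallyClosed g] (hf : IsBiratOpen f) (hg : IsBiratOpen g) : IsBiratOpen (f ≫ g) := by
  have hgen := hg.apply_genericPoint
  obtain ⟨U, hU, hiU⟩ := hf
  obtain ⟨V, hV, hiV⟩ := hg
  haveI := hiU; haveI := hiV
  let V' : C.Opens := ⟨(g '' (U : Set B)ᶜ)ᶜ, (g.isClosedMap _ U.isOpen.isClosed_compl).isOpen_compl⟩
  have hgV : genericPoint C ∈ V' := by
    rintro ⟨b, hb, hgb⟩
    have hVη : genericPoint C ∈ V := ((genericPoint_spec C).mem_open_set_iff V.2).2 (by simpa using hV)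
    have hbV : b ∈ g ⁻¹ᵁ V := show g b ∈ V from hgb.symm ▸ hVη
    have hηV : genericPoint B ∈ g ⁻¹ᵁ V := show g _ ∈ V from hgen.symm ▸ hVη
    have := (g ∣_ V).homeomorph.injective (a₁ := ⟨b, hbV⟩) (a₂ := ⟨_, hηV⟩) (Subtype.ext (by
      show ((g ∣_ V) ⟨b, hbV⟩).1 = ((g ∣_ V) ⟨_, hηV⟩).1
      rw [morphismRestrict_base_coe, morphismRestrict_base_coe]
      exact hgb.trans hgen.symm))
    have hbe : b = genericPoint B := congrArg Subtype.val this
    exact hb (by rw [hbe]; exact ((genericPoint_spec B).mem_open_set_iff U.2).2 (by simpa using hU))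
  refine ⟨V' ⊓ V, ⟨genericPoint C, hgV, ((genericPoint_spec C).mem_open_set_iff V.2).2 (by simpa using hV)⟩, ?_⟩
  have h1 : IsIso (g ∣_ (V' ⊓ V)) := isIso_restrict_of_le' g inf_le_right
  have h2 : IsIso (f ∣_ (g ⁻¹ᵁ (V' ⊓ V))) := isIso_restrict_of_le' f fun b hb =>
    by_contra fun hbU => hb.1 ⟨b, hbU, rfl⟩
  rw [morphismRestrict_comp]
  exact IsIso.comp_isIso' h2 h1

theorem IsBiratOpen.of_comp {A B C : Scheme.{u}} [IsIntegral A] [IsIntegral B] [IsIntegral C] {f : A ⟶ B}
    {g : B ⟶ C} (hfg : IsBiratOpen (f ≫ g)) (hg : IsBiratOpen g) : IsBiratOpen f := by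
  have hgen := hg.apply_genericPoint
  obtain ⟨U, hU, hiU⟩ := hfg
  obtain ⟨V, hV, hiV⟩ := hg
  haveI := hiU; haveI := hiV
  have hη : ∀ W : C.Opens, (W : Set C).Nonempty → genericPoint C ∈ W := fun W hW =>
    ((genericPoint_spec C).mem_open_set_iff W.2).2 (by simpa using hW)
  refine ⟨g ⁻¹ᵁ (U ⊓ V), ⟨genericPoint B, show g _ ∈ U ⊓ V from hgen.symm ▸ ⟨hη U hU, hη V hV⟩⟩, ?_⟩
  haveI h1 : IsIso ((f ≫ g) ∣_ (U ⊓ V)) := isIso_restrict_of_le' (f ≫ g) inf_le_left
  haveI : IsIso (g ∣_ (U ⊓ V)) := isIso_restrict_of_le' g inf_le_right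
  rw [morphismRestrict_comp] at h1
  exact @IsIso.of_isIso_comp_right _ _ _ _ _ (f ∣_ (g ⁻¹ᵁ (U ⊓ V))) (g ∣_ (U ⊓ V)) _ h1

variable {R : Type u} [CommRing R] [IsDedekindDomain R] {Z Z₁ Z₂ X Y V : Over (Spec (CommRingCat.of R))}

theorem genericFibre_isIso_of_birational (hR : ¬ IsField R) (hX : Surf X) (hV : Surf V) (f : X ⟶ V)
    (hb : IsBiratOpen f.left) : IsIso ((Neron.genericFibre R).map f) := by
  haveI := hX.integral; haveI := hV.integral; haveI := hX.noetherian; haveI := hV.noetherian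
  haveI := hX.isProper_left hV f
  obtain ⟨U, hU, hi⟩ := hb
  haveI := hi
  have hs := ResSurf.RegularFactor.isContractionSeq f.left hX.regular hV.regular hV.dim U hU
  obtain ⟨-, hiso⟩ := surf_of_seq hR hs V.hom hV
  let e : X ≅ Over.mk (f.left ≫ V.hom) := Over.isoMk (Iso.refl _) (by simp)
  have he : f = e.hom ≫ (Over.homMk f.left rfl : Over.mk (f.left ≫ V.hom) ⟶ Over.mk V.hom) :=
    Over.OverMorphism.ext (Category.id_comp f.left).symm
  rw [he, Functor.map_comp]
  haveI := hiso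
  infer_instance

theorem isBiratOpen_of_genericFibre (hX : Surf X) (hV : Surf V) (f : X ⟶ V)
    (hf : IsIso ((Neron.genericFibre R).map f)) : IsBiratOpen f.left := by
  obtain ⟨U, hU, hi⟩ := exists_isIso_restrict hX hV f hf
  haveI := hV.integral
  exact ⟨U, ⟨_, hU (genericPoint_mem_genSet hV)⟩, hi⟩

theorem IsPtBlow.isBiratOpen {c : Z ⟶ Z₁} {y : Z₁.left} (h : IsPtBlow c y) : IsBiratOpen c.left := by
  haveI := h.surf.integral
  exact ⟨_, ⟨genericPoint Z₁.left, Ne.symm (ne_genericPoint_of_dim_two h.dim_stalk)⟩, h.isIso_off⟩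

theorem IsPtBlow.cancel {c : Z ⟶ Z₁} {y : Z₁.left} (h : IsPtBlow c y) [IsSeparated Y.hom] {a b : Z₁ ⟶ Y}
    (hab : c ≫ a = c ≫ b) : a = b := by
  haveI := h.surf.integral
  haveI : Surjective c.left := ⟨h.surjective⟩
  exact Over.OverMorphism.ext (ext_of_isDominant_of_isSeparated Y.hom (by rw [Over.w, Over.w]) c.left
    (by rw [← Over.comp_left, ← Over.comp_left, hab]))

theorem isProper_left_of_proper (hZ : Surf Z) [IsProper Y.hom] (k : Z ⟶ Y) : IsProper k.left := by
  haveI := hZ.proper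
  haveI : IsProper (k.left ≫ Y.hom) := by rw [Over.w]; infer_instance
  exact IsProper.of_comp k.left Y.hom

section Normal

variable [IsIntegral Y.left] [IsProper Y.hom] [IsLocallyNoetherian Y.left]
  (hnor : ∀ q : Y.left, IsIntegrallyClosed (Y.left.presheaf.stalk q))

include hnor in
/-- Two contractible curves over the same point of a normal surface are disjoint. -/
theorem disjoint_excSet_over (hR : ¬ IsField R) (hZ : Surf Z) {c₁ : Z ⟶ Z₁} {y₁ : Z₁.left} {c₂ : Z ⟶ Z₂}
    {y₂ : Z₂.left} (h₁ : IsPtBlow c₁ y₁) (h₂ : IsPtBlow c₂ y₂) (a₁ : Z₁ ⟶ Y) (a₂ : Z₂ ⟶ Y)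
    (ha : c₁ ≫ a₁ = c₂ ≫ a₂) (hk : IsBiratOpen (c₁ ≫ a₁).left) (hne : excSet c₁ y₁ ≠ excSet c₂ y₂) :
    Disjoint (excSet c₁ y₁) (excSet c₂ y₂) := by
  by_contra hmeet
  haveI := hZ.integral; haveI := hZ.flat; haveI := hZ.noetherian
  obtain ⟨π, s, w, K, -, -, -, ⟨C, hC, hd, hw₁, hw₂, hcov⟩, -, -⟩ := exists_cycle hZ h₁ h₂ hR hne hmeet
  set k := (c₁ ≫ a₁).left with hkdef
  haveI : IsProper k := isProper_left_of_proper hZ (c₁ ≫ a₁)
  have hE₁ : ∀ v ∈ excSet c₁ y₁, k v = a₁.left y₁ := fun v hv => by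
    rw [hkdef, Over.comp_left, Scheme.Hom.comp_apply, show c₁.left v = y₁ from hv]
  have hE₂ : ∀ v ∈ excSet c₂ y₂, k v = a₂.left y₂ := fun v hv => by
    rw [hkdef, ha, Over.comp_left, Scheme.Hom.comp_apply, show c₂.left v = y₂ from hv]
  have hE : ∀ v ∈ excSet c₁ y₁ ∪ excSet c₂ y₂, k v = k w := by
    rintro v (hv | hv)
    · rw [hE₁ v hv, hE₁ w hw₁]
    · rw [hE₂ v hv, hE₂ w hw₂]
  have hb := bijective_app_of_birational k hnor hk
  have hsurj := H23.Rigid.surjective_of_bijective_app k hb k.isClosedMap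
  have hconn := isPreconnected_fibre_of_isIso_app k
    (fun U _ => (ConcreteCategory.isIso_iff_bijective _).2 (hb U)) (k w)
  have hbase : ∀ v, Y.hom.base (k v) = Z.hom.base v := fun v => base_left (c₁ ≫ a₁) v
  have hfree : k w ∉ k '' C := by
    rintro ⟨v, hv, hvw⟩
    obtain ⟨u, hu, hu1, hu2⟩ := isPreconnected_closed_iff.1 hconn (excSet c₁ y₁ ∪ excSet c₂ y₂) C
      (h₁.isClosed_excSet.union h₂.isClosed_excSet) hC
      (fun u hu => hcov u (show Z.hom.base u = Z.hom.base w by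
        rw [← hbase, ← hbase, show k u = k w from hu]))
      ⟨w, rfl, Or.inl hw₁⟩ ⟨v, hvw, hv⟩
    exact Set.disjoint_left.1 hd hu1 hu2
  obtain ⟨ξ, hξ, z, hz, hzξ⟩ := h₁.exists_generic
  have hξ0 : (Z.hom.base ξ).asIdeal ≠ ⊥ := by
    rw [← base_left c₁, show c₁.left ξ = y₁ from hξ.mem]
    exact asIdeal_ne_bot_of_closed hR h₁.surf h₁.closed
  obtain ⟨e, he⟩ := birational_of_isIso_restrict k hk
  have hcl := mem_closure_of_contracted' (f := Z.hom) (p := Y.hom) (g := k) (Over.w _) hnor e he hξ0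
    (hξ.specializes hz) (Ne.symm hzξ) (by rw [hE ξ (Or.inl hξ.mem), hE z (Or.inl hz)])
  rw [hE z (Or.inl hz)] at hcl
  refine hfree ((k.isClosedMap _ hC).closure_subset_iff.2 ?_ hcl)
  rintro y' ⟨hy', hne'⟩
  obtain ⟨v, rfl⟩ := hsurj y'
  rw [hbase, hbase] at hy'
  exact ⟨v, (hcov v hy').resolve_left fun hv => hne' (hE v hv), rfl⟩

/-- No point blow-up of `X` lies between `X` and `Y`. -/
def IsMinOver (p : X ⟶ Y) : Prop :=
  ∀ (W : Over (Spec (CommRingCat.of R))) (c : X ⟶ W) (y : W.left) (k : W ⟶ Y), IsPtBlow c y → c ≫ k ≠ p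

include hnor in
/-- A minimal surface over `Y` is dominated by every model over `Y`. -/
theorem exists_descent_over (hR : ¬ IsField R) (hX : Surf X) (pX : X ⟶ Y) (hmin : IsMinOver pX)
    (hpX : IsBiratOpen pX.left) :
    ∀ (n : ℕ) (Z V : Over (Spec (CommRingCat.of R))) (f : Z ⟶ X) (g : Z ⟶ V) (pV : V ⟶ Y), Surf Z → Surf V →
      f ≫ pX = g ≫ pV → IsIso ((Neron.genericFibre R).map f) → IsIso ((Neron.genericFibre R).map g) →
      (contracted f.left).ncard < n → ∃ q : V ⟶ X, g ≫ q = f ∧ q ≫ pX = pV := by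
  intro n
  induction n with
  | zero => intro Z V f g _ _ _ _ _ _ h; exact absurd h (Nat.not_lt_zero _)
  | succ n ih =>
    intro Z V f g pV hZ hV hcomm hf hg hn
    by_cases hgi : IsIso g
    · exact ⟨inv g ≫ f, IsIso.hom_inv_id_assoc g f, by rw [Category.assoc, hcomm, IsIso.inv_hom_id_assoc]⟩
    by_cases hfi : IsIso f
    · haveI := hfi
      by_cases hhi : IsIso (inv f ≫ g)
      · refine ⟨inv (inv f ≫ g), ?_, ?_⟩
        · rw [← cancel_epi (inv f), ← Category.assoc, IsIso.hom_inv_id, IsIso.inv_hom_id]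
        · rw [IsIso.inv_comp_eq, Category.assoc, ← hcomm, IsIso.inv_hom_id_assoc]
      · have hh : IsIso ((Neron.genericFibre R).map (inv f ≫ g)) := by
          haveI := hg
          rw [Functor.map_comp]
          infer_instance
        obtain ⟨W, c, y, k, hc, hck, -, -⟩ := exists_first_step hR hX hV _ hh hhi
        exact absurd (by rw [← Category.assoc, hck, Category.assoc, ← hcomm, IsIso.inv_hom_id_assoc])
          (hmin W c y (k ≫ pV) hc)
    have hfin := finite_contracted hZ hX f hf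
    obtain ⟨Z₁, c₁, y₁, f₁, h₁, rfl, hc₁, hf₁⟩ := exists_first_step hR hZ hX f hf hfi
    have hlt : ∀ {W : Over (Spec (CommRingCat.of R))} (c : Z ⟶ W) (y : W.left) (k : W ⟶ X), IsPtBlow c y →
        c ≫ k = c₁ ≫ f₁ → (contracted k.left).ncard < n := fun c y k hc hk => by
      have := hc.ncard_lt hX k (hk ▸ hfin)
      rw [hk] at this
      omega
    haveI := hZ.isProper_left hV g
    by_cases hgE : ∃ t, g.left '' excSet c₁ y₁ = {t}
    · obtain ⟨g₁, rfl⟩ := h₁.exists_factor g hgE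
      haveI := hc₁
      rw [Functor.map_comp] at hg
      obtain ⟨q, hq, hqp⟩ := ih Z₁ V f₁ g₁ pV h₁.surf hV (h₁.cancel (by rw [← Category.assoc, hcomm, Category.assoc]))
        hf₁ (IsIso.of_isIso_comp_left ((Neron.genericFibre R).map c₁) _) (hlt c₁ y₁ f₁ h₁ rfl)
      exact ⟨q, by rw [Category.assoc, hq], hqp⟩
    obtain ⟨Z₂, c₂, y₂, g₂, h₂, rfl, hc₂, hg₂⟩ := exists_first_step hR hZ hV g hg hgi
    have hne : excSet c₁ y₁ ≠ excSet c₂ y₂ := fun e => hgE ⟨g₂.left y₂, by
      obtain ⟨ξ, hξ, -⟩ := h₂.exists_generic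
      rw [e]
      refine Set.Subset.antisymm ?_ (Set.singleton_subset_iff.2 ⟨ξ, hξ.mem, ?_⟩)
      · rintro _ ⟨x, hx, rfl⟩
        rw [Over.comp_left, Scheme.Hom.comp_apply, show c₂.left x = y₂ from hx]
        rfl
      · rw [Over.comp_left, Scheme.Hom.comp_apply, show c₂.left ξ = y₂ from hξ.mem]⟩
    have hcomm' : c₁ ≫ (f₁ ≫ pX) = c₂ ≫ (g₂ ≫ pV) := by simpa only [Category.assoc] using hcomm
    have hbir : IsBiratOpen (c₁ ≫ f₁ ≫ pX).left := by
      haveI := hZ.integral; haveI := hX.integral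
      haveI := isProper_left_of_proper hX pX
      rw [← Category.assoc, Over.comp_left]
      exact (isBiratOpen_of_genericFibre hZ hX _ hf).comp hpX
    obtain ⟨W, ψ₁, ψ₂, hW, hψ, hψ₁, hρ⟩ := exists_common hR h₁ h₂
      (disjoint_excSet_over hnor hR hZ h₁ h₂ _ _ hcomm' hbir hne)
    obtain ⟨ρ, hρ₁⟩ := hρ Y _ _ hcomm'
    obtain ⟨q, hq, hqp⟩ := ih Z₁ W f₁ ψ₁ ρ h₁.surf hW hρ₁.symm hf₁ hψ₁ (hlt c₁ y₁ f₁ h₁ rfl)
    have e : c₂ ≫ (ψ₂ ≫ q) = c₁ ≫ f₁ := by rw [← Category.assoc, ← hψ, Category.assoc, hq]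
    have hk : IsIso ((Neron.genericFibre R).map (ψ₂ ≫ q)) := by
      haveI := hc₂
      rw [← e, Functor.map_comp] at hf
      exact IsIso.of_isIso_comp_left ((Neron.genericFibre R).map c₂) _
    obtain ⟨q', hq', hqp'⟩ := ih Z₂ V (ψ₂ ≫ q) g₂ pV h₂.surf hV
      (h₂.cancel (by rw [← Category.assoc, e, Category.assoc]; exact hcomm')) hk hg₂ (hlt c₂ y₂ _ h₂ e)
    exact ⟨q', by rw [Category.assoc, hq', e], hqp'⟩

include hnor in
/-- A surface over `Y` with nothing to contract is a minimal desingularisation. -/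
theorem existsUnique_factor (hR : ¬ IsField R) (hX : ArSurf.IsArithSurface R X) (g : X ⟶ Y)
    (hg : IsBiratOpen g.left) (hmin : IsMinOver g) {X' : Over (Spec (CommRingCat.of R))}
    (hX' : ArSurf.IsArithSurface R X') (g' : X' ⟶ Y) (hg' : IsBiratOpen g'.left) :
    ∃! h : X' ⟶ X, h ≫ g = g' := by
  have s := Surf.of_arith hX
  have s' := Surf.of_arith hX'
  haveI := s.integral; haveI := s'.integral; haveI := s'.proper; haveI := s.proper
  haveI := isProper_left_of_proper s g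
  have hη := hg.apply_genericPoint
  have hη' := hg'.apply_genericPoint
  obtain ⟨U, hU, hiU⟩ := id hg
  obtain ⟨U', hU', hiU'⟩ := id hg'
  haveI := hiU; haveI := hiU'
  let O := U ⊓ U'
  have hO : genericPoint Y.left ∈ O :=
    ⟨((genericPoint_spec Y.left).mem_open_set_iff U.2).2 (by simpa using hU),
      ((genericPoint_spec Y.left).mem_open_set_iff U'.2).2 (by simpa using hU')⟩
  haveI : IsIso (g.left ∣_ O) := isIso_restrict_of_le' g.left inf_le_left
  haveI : IsIso (g'.left ∣_ O) := isIso_restrict_of_le' g'.left inf_le_right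
  -- uniqueness
  have huniq : ∀ a b : X' ⟶ X, a ≫ g = g' → b ≫ g = g' → a = b := fun a b ha hb => by
    let W' := g'.left ⁻¹ᵁ O
    haveI : IsDominant W'.ι := by
      refine ⟨?_⟩
      rw [DenseRange, Scheme.Opens.range_ι]
      exact W'.isOpen.dense ⟨genericPoint X'.left, show g'.left _ ∈ O from hη'.symm ▸ hO⟩
    refine Over.OverMorphism.ext (ext_of_isDominant_of_isSeparated X.hom (by rw [Over.w, Over.w]) W'.ι ?_)
    have key : ∀ (c : X' ⟶ X), c ≫ g = g' →
        W'.ι ≫ c.left = ((g'.left ∣_ O) ≫ inv (g.left ∣_ O)) ≫ (g.left ⁻¹ᵁ O).ι := fun c hc => by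
      have hle : W' ≤ c.left ⁻¹ᵁ (g.left ⁻¹ᵁ O) := by
        rw [← Scheme.Hom.comp_preimage, ← Over.comp_left, hc]
      rw [← Scheme.Hom.resLE_comp_ι c.left hle]
      refine congrArg (· ≫ (g.left ⁻¹ᵁ O).ι) ?_
      rw [IsIso.eq_comp_inv, ← cancel_mono O.ι, Category.assoc, morphismRestrict_ι, morphismRestrict_ι,
        Scheme.Hom.resLE_comp_ι_assoc, ← Over.comp_left, hc]
    rw [key a ha, key b hb]
  -- existence
  let φ : (g.left ⁻¹ᵁ O : Scheme.{u}) ⟶ X'.left := (g.left ∣_ O) ≫ inv (g'.left ∣_ O) ≫ (g'.left ⁻¹ᵁ O).ι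
  have hφg : φ ≫ g'.left = (g.left ⁻¹ᵁ O).ι ≫ g.left := by
    simp only [φ, Category.assoc, ← morphismRestrict_ι, IsIso.inv_hom_id_assoc]
  obtain ⟨S, f, G₀, hf, hfG, hfU⟩ := exists_seq_extending hX X' (g.left ⁻¹ᵁ O)
    ⟨genericPoint X.left, show g.left _ ∈ O from hη.symm ▸ hO⟩ φ
    (by rw [← Over.w g', reassoc_of% hφg, Over.w])
  let Z : Over (Spec (CommRingCat.of R)) := Over.mk (f ≫ X.hom)
  obtain ⟨hZ, hF⟩ : Surf Z ∧ IsIso ((Neron.genericFibre R).map (Over.homMk f rfl : Z ⟶ X)) :=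
    surf_of_seq hR hf X.hom s
  let F : Z ⟶ X := Over.homMk f rfl
  let G : Z ⟶ X' := Over.homMk G₀ hfG
  haveI := hZ.integral
  haveI : IsIntegral S := hZ.integral
  have hFb := isBiratOpen_of_genericFibre hZ s F hF
  have hFη : f (genericPoint S) = genericPoint X.left := hFb.apply_genericPoint
  have hcomm : F ≫ g = G ≫ g' := by
    haveI : IsDominant (f ⁻¹ᵁ (g.left ⁻¹ᵁ O)).ι := by
      haveI : IsIntegral S := hZ.integral
      refine ⟨?_⟩
      rw [DenseRange, Scheme.Opens.range_ι]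
      refine (f ⁻¹ᵁ (g.left ⁻¹ᵁ O)).isOpen.dense ⟨genericPoint S, ?_⟩
      show g.left (f _) ∈ O
      rw [hFη, hη]; exact hO
    haveI : IsReduced S := by haveI : IsIntegral S := hZ.integral; infer_instance
    refine Over.OverMorphism.ext (ext_of_isDominant_of_isSeparated Y.hom (by rw [Over.w, Over.w])
      (f ⁻¹ᵁ (g.left ⁻¹ᵁ O)).ι ?_)
    show _ ≫ f ≫ g.left = _ ≫ G₀ ≫ g'.left
    rw [reassoc_of% hfU, hφg, morphismRestrict_ι_assoc]
  have hG : IsBiratOpen G.left := by
    refine IsBiratOpen.of_comp ?_ hg'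
    rw [← Over.comp_left, ← hcomm, Over.comp_left]
    exact hFb.comp hg
  obtain ⟨q, -, hq⟩ := exists_descent_over hnor hR s g hmin hg _ Z X' F G g' hZ s' hcomm hF
    (genericFibre_isIso_of_birational hR hZ s' G hG) (Nat.lt_succ_self _)
  exact ⟨q, hq, fun q' hq' => huniq q' q hq' hq⟩

end Normal

end Groth.Agent.ArSurfBase

namespace Groth.Agent.ArSurfBase

open ResSurf.RegularFactor (contracted)

variable {R : Type u} [CommRing R] [IsDedekindDomain R] {X Y : Over (Spec (CommRingCat.of R))}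

/-- With no exceptional curve over a point of `Y`, nothing can be contracted over `Y`. -/
theorem isMinOver_of_noExc (g : X ⟶ Y)
    (hexc : ∀ (E : Scheme.{u}) (ι : E ⟶ X.left) [IsClosedImmersion ι], Models.IsExcCurve ι →
      ¬ ∃ y : Y.left, Set.range ((ι ≫ g.left).base : E → Y.left) = {y}) : IsMinOver g := by
  intro W c y k h hck
  haveI := h.surf.integral; haveI := h.surf.noetherian
  set I := Scheme.IdealSheafData.vanishingIdeal (⟨{y}, h.closed⟩ : Closeds W.left)
  set J := I.comap c.left with hJ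
  obtain ⟨e, -, ⟨α⟩⟩ := exists_exceptional h.closed (h.surf.regular y) h.dim_stalk c.left h.blow
  have hr : Set.range J.subschemeι = excSet c y := by
    rw [Scheme.IdealSheafData.range_subschemeι]
    show (J.support : Set X.left) = _
    rw [hJ, Scheme.IdealSheafData.support_comap]
    simp [I, excSet]
  refine hexc _ J.subschemeι ⟨?_, W.left.residueField y, inferInstance, e, ?_⟩ ⟨k.left y, ?_⟩
  · rw [J.ker_subschemeι]; exact h.blow.1
  · rw [J.ker_subschemeι]; exact ⟨α⟩
  · obtain ⟨ξ, hξ, -⟩ := h.exists_generic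
    show Set.range (g.left ∘ J.subschemeι) = _
    rw [Set.range_comp, hr, ← hck, Over.comp_left]
    refine Set.Subset.antisymm ?_ (Set.singleton_subset_iff.2 ⟨ξ, hξ.mem, ?_⟩)
    · rintro _ ⟨x, hx, rfl⟩
      rw [Scheme.Hom.comp_apply, show c.left x = y from hx]
      rfl
    · rw [Scheme.Hom.comp_apply, show c.left ξ = y from hξ.mem]

/-- Contracting as long as possible gives a minimal surface over `Y`. -/
theorem exists_isMinOver (hR : ¬ IsField R) [IsIntegral Y.left] [IsProper Y.hom] :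
    ∀ (n : ℕ) (X : Over (Spec (CommRingCat.of R))) (g : X ⟶ Y), ArSurf.IsArithSurface R X → IsBiratOpen g.left →
      (contracted g.left).Finite → (contracted g.left).ncard < n →
      ∃ (Z : Over (Spec (CommRingCat.of R))) (p : Z ⟶ Y),
        ArSurf.IsArithSurface R Z ∧ IsBiratOpen p.left ∧ IsMinOver p := by
  intro n
  induction n with
  | zero => intro X g _ _ _ h; exact absurd h (Nat.not_lt_zero _)
  | succ n ih =>
    intro X g hX hg hfin hn
    by_cases hmin : IsMinOver g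
    · exact ⟨X, g, hX, hg, hmin⟩
    simp only [IsMinOver, not_forall, ne_eq, not_not] at hmin
    obtain ⟨W, c, y, k, hc, rfl⟩ := hmin
    have s := Surf.of_arith hX
    haveI := s.integral; haveI := hc.surf.integral; haveI := hc.surf.proper; haveI := hc.surf.noetherian
    haveI := hc.isProper
    haveI := hX.2.1; haveI := hX.2.2.2.1
    have hproj : Neron.IsProjectiveOver R W := Projective.isProjectiveOver_of_dominated hR hX.2.2.2.2 hX.2.2.1.le c {y}
      (Set.finite_singleton y) hc.closed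
      (fun q hq => by rw [show q = y from hq]; exact ⟨hc.closed, hc.surf.regular y, hc.dim_stalk⟩) hc.isIso_off
    have hW : ArSurf.IsArithSurface R W := by
      refine ⟨hc.surf.regular, hc.surf.integral, le_antisymm hc.surf.dim ?_, hc.surf.flat, hproj⟩
      rw [← hc.dim_stalk]
      exact SchTop.ringKrullDim_stalk_le y
    haveI := isProper_left_of_proper hc.surf k
    have hkη : k.left y ≠ genericPoint Y.left := fun h => by
      obtain ⟨ξ, hξ, -⟩ := hc.exists_generic
      obtain ⟨U, hU, hiU⟩ := hg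
      haveI := hiU
      have hηU : genericPoint Y.left ∈ U := ((genericPoint_spec Y.left).mem_open_set_iff U.2).2 (by simpa using hU)
      have hgen := IsBiratOpen.apply_genericPoint ⟨U, hU, hiU⟩
      have hξg : (c ≫ k).left ξ = genericPoint Y.left := by
        rw [Over.comp_left, Scheme.Hom.comp_apply, show c.left ξ = y from hξ.mem, h]
      have := ((c ≫ k).left ∣_ U).homeomorph.injective (a₁ := ⟨ξ, show _ ∈ U from hξg.symm ▸ hηU⟩)
        (a₂ := ⟨genericPoint X.left, show _ ∈ U from hgen.symm ▸ hηU⟩) (Subtype.ext (by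
          show (((c ≫ k).left ∣_ U) _).1 = (((c ≫ k).left ∣_ U) _).1
          rw [morphismRestrict_base_coe, morphismRestrict_base_coe]
          exact hξg.trans hgen.symm))
      have hξe : ξ = genericPoint X.left := congrArg Subtype.val this
      refine ne_genericPoint_of_dim_two hc.dim_stalk ?_
      rw [← hc.isBiratOpen.apply_genericPoint, ← hξe, show c.left ξ = y from hξ.mem]
    have hk : IsBiratOpen k.left := by
      obtain ⟨U, hU, hiU⟩ := hg
      haveI := hiU
      haveI := hc.isIso_off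
      let V' : Y.left.Opens := ⟨{k.left y}ᶜ, by
        have := k.left.isClosedMap _ hc.closed
        rw [Set.image_singleton] at this
        exact this.isOpen_compl⟩
      refine ⟨U ⊓ V', ⟨genericPoint Y.left,
        ((genericPoint_spec Y.left).mem_open_set_iff U.2).2 (by simpa using hU), Ne.symm hkη⟩, ?_⟩
      have h1 : IsIso ((c ≫ k).left ∣_ (U ⊓ V')) := isIso_restrict_of_le' _ inf_le_left
      have h2 : IsIso (c.left ∣_ (k.left ⁻¹ᵁ (U ⊓ V'))) := isIso_restrict_of_le' c.left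
        (V := ⟨{y}ᶜ, hc.closed.isOpen_compl⟩) fun w hw hwy => hw.2 (by rw [show w = y from hwy]; rfl)
      rw [Over.comp_left, morphismRestrict_comp] at h1
      exact @IsIso.of_isIso_comp_left _ _ _ _ _ (c.left ∣_ (k.left ⁻¹ᵁ (U ⊓ V'))) (k.left ∣_ (U ⊓ V')) h2 h1
    have hlt := hc.ncard_lt' k hfin
    obtain ⟨Z, p, hp⟩ := ih W k hW hk (by
      obtain ⟨ξ, hξ, -⟩ := hc.exists_generic
      refine (hfin.image c.left).subset fun η hη => ?_
      obtain ⟨w, rfl⟩ := hc.surjective η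
      refine ⟨w, ⟨fun hcl => hη.1 ?_, by rw [Over.comp_left, Scheme.Hom.comp_apply]; exact hη.2⟩, rfl⟩
      have := c.left.isClosedMap _ hcl
      rwa [Set.image_singleton] at this) (by omega)
    exact ⟨Z, p, hp⟩

end Groth.Agent.ArSurfBase
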