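import Groth.Agent.ArSurfBase.Comp
import Groth.Agent.ArSurfBase.PullIdeal
import Groth.Agent.SurfInt.Restrict
import Groth.Agent.Lib.CurveRR
import Groth.Agent.PicClLib.Basic

/-! # Intersection numbers of effective divisors with vertical prime divisors -/

set_option autoImplicit false
set_option linter.style.haveILetI false
set_option linter.unusedSectionVars false
set_option backward.isDefEq.respectTransparency false
set_option backward.isDefEq.respectTransparency.types false

universe u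

open CategoryTheory CategoryTheory.Limits AlgebraicGeometry TopologicalSpace Opposite

noncomputable section

namespace Groth.Agent.ArSurfBase

theorem length_compHom_of_surjective {R k M : Type u} [CommRing R] [CommRing k] [AddCommGroup M] [Module k M]
    (φ : R →+* k) (hφ : Function.Surjective φ) :
    letI := Module.compHom M φ
    Module.length R M = Module.length k M := by
  letI := Module.compHom M φ
  refine WithBot.coe_injective ?_
  rw [Module.coe_length, Module.coe_length]
  let e : Submodule k M ≃o Submodule R M :=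
    { toFun := fun p => { p.toAddSubgroup with smul_mem' := fun r x hx => p.smul_mem (φ r) hx }
      invFun := fun p => { p.toAddSubgroup with
        smul_mem' := fun c x hx => by obtain ⟨r, rfl⟩ := hφ c; exact p.smul_mem r hx }
      left_inv := fun p => rfl
      right_inv := fun p => rfl
      map_rel_iff' := Iff.rfl }
  exact (Order.krullDim_eq_of_orderIso e).symm

theorem support_quotMod_subset {Y : Scheme.{u}} (J : Y.IdealSheafData) :
    CohB1.support (ClSub.quotMod J) ⊆ (J.support : Set Y) := by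
  intro x hx
  by_contra hns
  refine hx (subsingleton_of_forall_eq 0 fun m => ?_)
  obtain ⟨W, hxW, s, rfl⟩ := (ClSub.quotMod J).presheaf.exists_germ_eq m
  let W' : Y.Opens := W ⊓ ⟨(J.support : Set Y)ᶜ, J.support.isClosed.isOpen_compl⟩
  haveI : Subsingleton Γ(J.subscheme, J.subschemeι ⁻¹ᵁ W') := by
    have hb : J.subschemeι ⁻¹ᵁ W' = ⊥ := by
      ext z
      refine ⟨fun hz => absurd ?_ hz.2, fun hz => hz.elim⟩
      rw [← J.range_subschemeι]
      exact ⟨z, rfl⟩
    rw [hb]
    exact CommRingCat.subsingleton_of_isTerminal J.subscheme.sheaf.isTerminalOfEmpty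
  have h : (ClSub.quotMod J).presheaf.map (homOfLE (inf_le_left : W' ≤ W)).op s = 0 :=
    Subsingleton.elim (α := Γ(J.subscheme, J.subschemeι ⁻¹ᵁ W')) _ _
  rw [← TopCat.Presheaf.germ_res_apply (ClSub.quotMod J).presheaf (homOfLE (inf_le_left : W' ≤ W)) x ⟨hxW, hns⟩ s, h,
    map_zero]

section Curve

variable {k : Type u} [Field k] {Y : Scheme.{u}} [Y.Over (Spec (CommRingCat.of k))] [IsIntegral Y]
  [IsProper (Y ↘ Spec (CommRingCat.of k))] (hdim : topologicalKrullDim Y = 1)

include hdim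

theorem curveDeg_tensor {L M : Y.Modules} (hL : PicF.IsInvertible L) (hM : PicF.IsInvertible M) :
    ArSurf.curveDeg k Y (CohB1.tensorMod L M) = ArSurf.curveDeg k Y L + ArSurf.curveDeg k Y M := by
  haveI := CurveCohLib.isNoetherian_of_proper (k := k) (X := Y)
  rw [curveDeg_eq_deg hdim.le (AmpleVan.isCoh_invertible hL).1,
    curveDeg_eq_deg hdim.le (AmpleVan.isCoh_invertible hM).1,
    curveDeg_eq_deg hdim.le (AmpleVan.isCoh_tensor (AmpleVan.isCoh_invertible hL) (AmpleVan.isCoh_invertible hM)).1]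
  exact CurveRR.deg_tensor k hdim hL hM

theorem curveDeg_eq_neg_of_inverse {L M : Y.Modules} (hL : PicF.IsInvertible L) (hM : PicF.IsInvertible M)
    (h : ClSub.IsInverseOf L M) : ArSurf.curveDeg k Y L = - ArSurf.curveDeg k Y M := by
  have := curveDeg_tensor hdim hL hM (k := k)
  rw [curveDeg_eq_zero_of_iso h.some] at this
  linarith

include k in
theorem isClosed_of_mem_support {J : Y.IdealSheafData} {y : Y}
    (hJ : genericPoint Y ∉ J.support) (hy : y ∈ (J.support : Set Y)) : IsClosed ({y} : Set Y) := by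
  haveI : CompactSpace Y := QuasiCompact.compactSpace_of_compactSpace (Y ↘ Spec (CommRingCat.of k))
  by_contra h
  exact hJ (CurveCohLib.eq_genericPoint_of_not_isClosed hdim h ▸ hy)

theorem euler_quotMod {J : Y.IdealSheafData} (hJ : genericPoint Y ∉ J.support) :
    Curv2.euler k Y (ClSub.quotMod J) = (Module.finrank k (Coh.HH Y (ClSub.quotMod J) 0) : ℤ) ∧
      (Curv2.euler k Y (ClSub.quotMod J) = 0 ↔ (J.support : Set Y) = ∅) := by
  haveI := CurveCohLib.isNoetherian_of_proper (k := k) (X := Y)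
  have hc := ParShLib.isCoh_quotMod J
  have hsupp : CohB1.support (ClSub.quotMod J) ⊆ (J.support : Set Y) := support_quotMod_subset J
  have h0 : ∀ x ∈ CohB1.support (ClSub.quotMod J), IsClosed ({x} : Set Y) :=
    fun x hx => isClosed_of_mem_support (k := k) hdim hJ (hsupp hx)
  refine ⟨CurveCohLib.euler_eq_finrank_zero hc h0, fun h => ?_, fun h => ?_⟩
  · have hz := CurveCohLib.isZero_of_euler_eq_zero (k := k) hc h0 h
    by_contra hne
    obtain ⟨y, hy⟩ := Set.nonempty_iff_ne_empty.2 hne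
    rw [← J.range_subschemeι] at hy
    obtain ⟨z, rfl⟩ := hy
    have h1 : (1 : Γ(J.subscheme, J.subschemeι ⁻¹ᵁ ⊤)) = 0 :=
      congrArg (fun φ : ClSub.quotMod J ⟶ ClSub.quotMod J => φ.app ⊤ (1 : Γ(J.subscheme, J.subschemeι ⁻¹ᵁ ⊤)))
        (hz.eq_of_src (𝟙 _) 0)
    haveI : Nonempty (J.subschemeι ⁻¹ᵁ (⊤ : Y.Opens) : J.subscheme.Opens) := ⟨⟨z, trivial⟩⟩
    exact one_ne_zero h1
  · have : CohB1.support (ClSub.quotMod J) = ∅ := Set.subset_eq_empty hsupp h
    have hz : IsZero (ClSub.quotMod J) := CurveCohLib.isZero_of_subsingleton_stalks fun x =>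
      not_not.1 fun hx => (this.subset hx : x ∈ (∅ : Set Y))
    rw [CurveCohLib.euler_eq_finrank_zero hc h0, CurveCohLib.finrank_HH_zero_eq_zero_of_isZero hz]
    rfl

theorem curveDeg_inverse_idealMod {J : Y.IdealSheafData} (hJ : BlowUp.IsEffCartierIdeal J)
    (hη : genericPoint Y ∉ J.support) {L : Y.Modules} (hL : ClSub.IsInverseOf L (ClSub.idealMod J)) :
    ArSurf.curveDeg k Y L = (Module.finrank k (Coh.HH Y (ClSub.quotMod J) 0) : ℤ) ∧
      (ArSurf.curveDeg k Y L = 0 ↔ (J.support : Set Y) = ∅) := by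
  haveI := CurveCohLib.isNoetherian_of_proper (k := k) (X := Y)
  have hI := SurfInt.isInvertible_idealMod hJ
  have h1 := curveDeg_eq_neg_of_inverse (k := k) hdim (SurfInt.isInvertible_of_inverseOf_right hI hL) hI hL
  rw [curveDeg_eq_deg hdim.le (AmpleVan.isCoh_invertible hI).1] at h1
  have h2 := SurfInt.euler_ideal k J
  obtain ⟨h3, h4⟩ := euler_quotMod (k := k) hdim hη
  have h5 : ArSurf.curveDeg k Y L = Curv2.euler k Y (ClSub.quotMod J) := by
    rw [h1, Curv2.deg, Nat.cast_one, one_mul]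
    linarith
  rw [h5]
  exact ⟨h3, h4⟩

end Curve

theorem isEffCartier_comap_of_not_mem {X Y : Scheme.{u}} [IsIntegral Y] (f : Y ⟶ X)
    {D : X.IdealSheafData} (hD : BlowUp.IsEffCartierIdeal D) (h : f (genericPoint Y) ∉ D.support) :
    BlowUp.IsEffCartierIdeal (D.comap f) := by
  intro y
  obtain ⟨U, hU, a, ha, hI⟩ := hD (f y)
  obtain ⟨V, hV, hyV, hVU⟩ := exists_isAffineOpen_mem_and_subset (X := Y) (x := y) (U := f ⁻¹ᵁ U.1) hU
  have hJ : (D.comap f).ideal ⟨V, hV⟩ = Ideal.span {f.appLE U.1 V hVU a} := by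
    rw [ModPairLib.ideal_comap D f U ⟨V, hV⟩ hVU, hI, Ideal.map_span, Set.image_singleton]
  haveI : Nonempty V := ⟨⟨y, hyV⟩⟩
  refine ⟨⟨V, hV⟩, hyV, _, mem_nonZeroDivisors_of_ne_zero ?_, hJ⟩
  intro e
  have hη : genericPoint Y ∈ V :=
    ((genericPoint_spec Y).mem_open_set_iff V.2).2 ⟨y, trivial, hyV⟩
  apply h
  have : genericPoint Y ∈ ((D.comap f).support : Set Y) := by
    rw [SetLike.mem_coe, (D.comap f).mem_support_iff_of_mem (U := ⟨V, hV⟩) hη, hJ, e, Scheme.zeroLocus_span]
    simp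
  rw [Scheme.IdealSheafData.support_comap] at this
  exact this

theorem map_comap_eq_sup {X Y : Scheme.{u}} (f : Y ⟶ X) [IsClosedImmersion f] (D : X.IdealSheafData) :
    (D.comap f).map f = D ⊔ f.ker := by
  refine le_antisymm ?_ (sup_le (Scheme.IdealSheafData.le_map_comap D f) ?_)
  · intro U
    rw [Scheme.IdealSheafData.ideal_map _ f U (U.2.preimage f),
      ModPairLib.ideal_comap D f U ⟨_, U.2.preimage f⟩ le_rfl, Scheme.IdealSheafData.ideal_sup,
      Pi.sup_apply, Scheme.Hom.ker_apply, Scheme.Hom.appLE_eq_app]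
    rw [Ideal.comap_map_of_surjective _ (f.app_surjective U.1 U.2)]
    exact le_rfl
  · rw [Scheme.IdealSheafData.le_map_iff_comap_le, ← Scheme.IdealSheafData.le_map_iff_comap_le]
    exact (congrArg (· ≤ _) (Scheme.IdealSheafData.map_bot f).symm).mpr
      (Scheme.IdealSheafData.map_mono f bot_le)

section Vertical

variable {R : Type u} [CommRing R] [IsDomain R] [IsDiscreteValuationRing R]
  {X : Over (Spec (CommRingCat.of R))} [IsProper X.hom] (Γ : ArSurf.VertComp R X)

local notation "κ" => IsLocalRing.ResidueField R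

theorem isInverseOf_pullback {L M : X.left.Modules} (h : ClSub.IsInverseOf L M) :
    ClSub.IsInverseOf ((Scheme.Modules.pullback Γ.ι).obj L) ((Scheme.Modules.pullback Γ.ι).obj M) := by
  obtain ⟨e⟩ := H23.PicMul.pull Γ.ι L M
  obtain ⟨e'⟩ := PicClLib.nonempty_pullback_structureModule Γ.ι
  exact ⟨e.symm ≪≫ (Scheme.Modules.pullback Γ.ι).mapIso h.some ≪≫ e'⟩

/-- `D · Γ` for an effective Cartier divisor not containing `Γ`, on the curve. -/
theorem inter_eq_finrank {D : X.left.IdealSheafData} (hD : BlowUp.IsEffCartierIdeal D)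
    (hΓ : Models.genPtOf R X Γ ∉ D.support) {L : X.left.Modules}
    (hL : ClSub.IsInverseOf L (ClSub.idealMod D)) :
    ArSurf.inter R X L Γ =
        (Module.finrank κ (Coh.HH Γ.curve.left (ClSub.quotMod (D.comap Γ.ι)) 0) : ℤ) ∧
      (ArSurf.inter R X L Γ = 0 ↔ Disjoint (supp Γ) (D.support : Set X.left)) := by
  haveI := isProper_curve Γ
  have hJ := isEffCartier_comap_of_not_mem Γ.ι hD hΓ
  obtain ⟨e⟩ := nonempty_pullback_idealMod Γ.ι D hD hJ
  have hη : genericPoint Γ.curve.left ∉ (D.comap Γ.ι).support := by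
    rw [Scheme.IdealSheafData.support_comap]
    exact hΓ
  obtain ⟨h1, h2⟩ := curveDeg_inverse_idealMod (k := κ) Γ.dim_eq hJ hη
    (L := (Scheme.Modules.pullback Γ.ι).obj L)
    ⟨(SurfInt.tMapR _ e).symm ≪≫ (isInverseOf_pullback Γ hL).some⟩
  refine ⟨h1, h2.trans ?_⟩
  rw [Scheme.IdealSheafData.support_comap, Set.disjoint_iff_inter_eq_empty, supp,
    ← Set.image_univ, ← Set.image_inter_preimage, Set.univ_inter, Set.image_eq_empty]
  rfl

theorem toGlobal_curve (a : R) :
    Coh.toGlobal Γ.curve.hom (IsLocalRing.residue R a) = Γ.ι.appTop (Coh.toGlobal X.hom a) := by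
  have h := congrArg (fun g : Γ.curve.left ⟶ Spec (CommRingCat.of R) =>
    g.appTop ((Scheme.ΓSpecIso (CommRingCat.of R)).inv a)) Γ.w
  simp only [Scheme.Hom.comp_appTop, ConcreteCategory.comp_apply] at h
  refine Eq.trans ?_ h.symm
  show Γ.curve.hom.appTop _ = _
  congr 1
  exact ConcreteCategory.congr_hom (Scheme.ΓSpecIso_inv_naturality (CommRingCat.ofHom (IsLocalRing.residue R))) a

/-- The length over `R` of the cohomology of a sheaf pushed from the curve. -/
theorem lengthH_push {M : Γ.curve.left.Modules} (hM : Coh.IsCoh M) (i : ℕ) :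
    Models.lengthH R X ((Coh.push Γ.ι).obj M) i = Module.finrank κ (Coh.HH Γ.curve.left M i) := by
  haveI := isProper_curve Γ
  let ρ' : R →+* Coh.Γtop Γ.curve.left := (Coh.toGlobal Γ.curve.hom).comp (IsLocalRing.residue R)
  obtain ⟨e⟩ := QCoh.HH_push_linear Γ.ι (Coh.toGlobal X.hom) ρ' (fun a => toGlobal_curve Γ a) hM.1 i
  haveI := S0002.result κ Γ.curve.left M hM i
  unfold Models.lengthH
  letI : Module R (Coh.HH Γ.curve.left M i) := QCoh.modHH ρ' M i
  have h1 : Module.length R (Coh.HH Γ.curve.left M i) = Module.length R (Coh.HH X.left ((Coh.push Γ.ι).obj M) i) :=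
    e.length_eq
  rw [← h1]
  have h2 : Module.length R (Coh.HH Γ.curve.left M i) = Module.length κ (Coh.HH Γ.curve.left M i) :=
    length_compHom_of_surjective (IsLocalRing.residue R) IsLocalRing.residue_surjective
  rw [h2, Module.length_eq_finrank]
  rfl

theorem nonempty_quotMod_sup (D : X.left.IdealSheafData) :
    Nonempty (ClSub.quotMod (D ⊔ Γ.ι.ker) ≅ (Coh.push Γ.ι).obj (ClSub.quotMod (D.comap Γ.ι))) := by
  have h : D ⊔ Γ.ι.ker = ((D.comap Γ.ι).subschemeι ≫ Γ.ι).ker := by
    rw [← Scheme.IdealSheafData.map_ker, Scheme.IdealSheafData.ker_subschemeι, map_comap_eq_sup]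
  rw [h]
  obtain ⟨e⟩ := SurfInt.nonempty_quotMod_ker ((D.comap Γ.ι).subschemeι ≫ Γ.ι)
  exact ⟨e ≪≫ ((Scheme.Modules.pushforwardComp (D.comap Γ.ι).subschemeι Γ.ι).app _).symm⟩

theorem lengthH_congr {M N : X.left.Modules} (e : M ≅ N) (i : ℕ) :
    Models.lengthH R X M i = Models.lengthH R X N i := by
  unfold Models.lengthH
  have h : ∀ {P Q : X.left.Modules} (e : P ≅ Q) (y : Coh.HH X.left Q i),
      PnCoh.Finite.mapLin R e.hom i (PnCoh.Finite.mapLin R e.inv i y) = y := fun e y =>
    (Groth.Agent.PnCoh.Finite.map_map (Y := X.left.toPresheafedSpace.carrier)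
      (((QCoh.toAbFunctor X.left).map_comp e.inv e.hom).symm.trans
        (by rw [e.inv_hom_id, CategoryTheory.Functor.map_id]; rfl)) i y).trans (Sheaf.H.map_id_apply y)
  rw [(LinearEquiv.ofBijective (PnCoh.Finite.mapLin R e.hom i)
    (Function.bijective_iff_has_inverse.mpr ⟨PnCoh.Finite.mapLin R e.inv i, fun x => h e.symm x, h e⟩)).length_eq]

/-- `D · Γ` is the length of the global sections of the scheme-theoretic intersection. -/
theorem inter_eq_lengthH {D : X.left.IdealSheafData} (hD : BlowUp.IsEffCartierIdeal D)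
    (hΓ : Models.genPtOf R X Γ ∉ D.support) {L : X.left.Modules}
    (hL : ClSub.IsInverseOf L (ClSub.idealMod D)) :
    ArSurf.inter R X L Γ = (Models.lengthH R X (ClSub.quotMod (D ⊔ Γ.ι.ker)) 0 : ℤ) := by
  haveI := isProper_curve Γ
  haveI := CurveCohLib.isNoetherian_of_proper (k := κ) (X := Γ.curve.left)
  obtain ⟨e⟩ := nonempty_quotMod_sup Γ D
  rw [(inter_eq_finrank Γ hD hΓ hL).1, lengthH_congr e, lengthH_push Γ (ParShLib.isCoh_quotMod _)]

theorem inter_nonneg {D : X.left.IdealSheafData} (hD : BlowUp.IsEffCartierIdeal D)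
    (hΓ : Models.genPtOf R X Γ ∉ D.support) {L : X.left.Modules}
    (hL : ClSub.IsInverseOf L (ClSub.idealMod D)) : 0 ≤ ArSurf.inter R X L Γ := by
  rw [(inter_eq_finrank Γ hD hΓ hL).1]
  exact Int.natCast_nonneg _

end Vertical

end Groth.Agent.ArSurfBase
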