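import Groth.Agent.ArSurfBase.Deg
import Groth.Agent.CurveEmbed.P1

/-! # Cohomology of `O` and `O(1)` on a projective line over an extension of the ground field -/

set_option autoImplicit false
set_option linter.style.haveILetI false
set_option linter.unusedSectionVars false
set_option backward.isDefEq.respectTransparency false
set_option backward.isDefEq.respectTransparency.types false

universe u

open CategoryTheory CategoryTheory.Limits AlgebraicGeometry

namespace Groth.Agent.ArSurfBase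

/-- The cohomology of `O` and `O(1)` on the projective line over a field. -/
theorem finrank_line (κ : Type u) [Field κ] :
    Module.finrank κ (Coh.HH (CohB1.ProjSpace 1 κ) (Coh.structureModule (CohB1.ProjSpace 1 κ)) 0) = 1 ∧
    Module.finrank κ (Coh.HH (CohB1.ProjSpace 1 κ) (Coh.structureModule (CohB1.ProjSpace 1 κ)) 1) = 0 ∧
    Module.finrank κ (Coh.HH (CohB1.ProjSpace 1 κ) (Twist.twistProjSpace 1 κ 1) 0) = 2 ∧
    Module.finrank κ (Coh.HH (CohB1.ProjSpace 1 κ) (Twist.twistProjSpace 1 κ 1) 1) = 0 := by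
  haveI : IsIntegral (CohB1.ProjSpace 1 κ) := H23.PnChart.isIntegral_projSpace 1 κ
  haveI : IsProper ((CohB1.ProjSpace 1 κ) ↘ Spec (CommRingCat.of κ)) := PnCoh.Chow.isProper_toSpec 1 κ
  have h0 : ∀ d : ℕ, Module.finrank κ (Coh.HH (CohB1.ProjSpace 1 κ) (Twist.twistProjSpace 1 κ (d : ℤ)) 0) = d + 1 :=
    fun d => by
    obtain ⟨φ⟩ := S0843.result κ 1 d
    rw [φ.finrank_eq, CurveEmbed.finrank_binary]
  refine ⟨?_, ?_, by simpa using h0 1, ?_⟩
  · have h1 := CurveEmbed.h0_structure_dvd κ (Twist.twistProjSpace 1 κ ((1 : ℕ) : ℤ) : (CohB1.ProjSpace 1 κ).Modules)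
    have h2 := CurveEmbed.h0_structure_dvd κ (Twist.twistProjSpace 1 κ ((2 : ℕ) : ℤ) : (CohB1.ProjSpace 1 κ).Modules)
    rw [h0] at h1 h2
    exact Nat.dvd_one.1 ((Nat.dvd_add_iff_right h1).2 h2)
  · haveI h : Subsingleton (Coh.HH (CohB1.ProjSpace 1 κ) (Coh.structureModule (CohB1.ProjSpace 1 κ)) (0 + 1)) :=
      PnCoh.subsingleton_HH_structureModule (ι := Fin (1 + 1)) (R := κ) (PnCoh.isQCoh_structureModule _) 0
    exact Module.finrank_zero_of_subsingleton (R := κ)
      (M := Coh.HH (CohB1.ProjSpace 1 κ) (Coh.structureModule _) (0 + 1))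
  · haveI := S0844.result κ 1 ((1 : ℕ) : ℤ) 1 (fun h => absurd h.1 one_ne_zero) (fun h => absurd h.2 (by norm_num))
    exact Module.finrank_zero_of_subsingleton (R := κ)
      (M := Coh.HH (CohB1.ProjSpace 1 κ) (Twist.twistProjSpace 1 κ ((1 : ℕ) : ℤ)) 1)

/-- Cohomology over a subfield of the field of definition. -/
theorem finrank_HH_restrict {k κ : Type u} [Field k] [Field κ] [Algebra k κ] (P : Scheme.{u})
    [iκ : P.Over (Spec (CommRingCat.of κ))] [ik : P.Over (Spec (CommRingCat.of k))]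
    (h : P ↘ Spec (CommRingCat.of k) =
      P ↘ Spec (CommRingCat.of κ) ≫ Spec.map (CommRingCat.ofHom (algebraMap k κ)))
    (M : P.Modules) (i : ℕ) :
    Module.finrank k (Coh.HH P M i) = Module.finrank k κ * Module.finrank κ (Coh.HH P M i) := by
  haveI : IsScalarTower k κ (Coh.HH P M i) := IsScalarTower.of_algebraMap_smul fun a m => by
    show Coh.toGlobal (P ↘ Spec (CommRingCat.of κ)) (algebraMap k κ a) • m =
      Coh.toGlobal (P ↘ Spec (CommRingCat.of k)) a • m
    congr 1
    rw [h]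
    show _ = (P ↘ Spec (CommRingCat.of κ) ≫ Spec.map (CommRingCat.ofHom (algebraMap k κ))).appTop _
    rw [Scheme.Hom.comp_appTop]
    show (P ↘ Spec (CommRingCat.of κ)).appTop _ = (P ↘ Spec (CommRingCat.of κ)).appTop _
    congr 1
    exact ConcreteCategory.congr_hom (Scheme.ΓSpecIso_inv_naturality (CommRingCat.ofHom (algebraMap k κ))) a
  exact (Module.finrank_mul_finrank k κ (Coh.HH P M i)).symm

/-- A scheme over `k` isomorphic to the projective line over an extension `κ`. -/
theorem line_over_subfield {k κ : Type u} [Field k] [Field κ] [Algebra k κ] {E : Scheme.{u}}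
    [E.Over (Spec (CommRingCat.of k))] (e : CohB1.ProjSpace 1 κ ≅ E)
    (he : e.hom ≫ (E ↘ Spec (CommRingCat.of k)) =
      CohB1.ProjSpace.toSpec 1 κ ≫ Spec.map (CommRingCat.ofHom (algebraMap k κ))) :
    Module.finrank k (Coh.HH E (Coh.structureModule E) 0) = Module.finrank k κ ∧
    Module.finrank k (Coh.HH E (Coh.structureModule E) 1) = 0 ∧
    ∀ M : E.Modules, PicF.IsInvertible M →
      Nonempty ((Scheme.Modules.pullback e.hom).obj M ≅ Twist.twistProjSpace 1 κ 1) →
      ArSurf.curveDeg k E M = Module.finrank k κ := by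
  letI ik : (CohB1.ProjSpace 1 κ).Over (Spec (CommRingCat.of k)) :=
    ⟨CohB1.ProjSpace.toSpec 1 κ ≫ Spec.map (CommRingCat.ofHom (algebraMap k κ))⟩
  haveI : IsProper (CohB1.ProjSpace.toSpec 1 κ) := PnCoh.Chow.isProper_toSpec 1 κ
  haveI : CompactSpace ↥(CohB1.ProjSpace 1 κ) :=
    QuasiCompact.compactSpace_of_compactSpace (CohB1.ProjSpace.toSpec 1 κ)
  haveI : CompactSpace E := e.hom.homeomorph.compactSpace
  haveI : (CohB1.ProjSpace 1 κ).IsSeparated := ⟨by
    rw [← Limits.terminal.comp_from (CohB1.ProjSpace.toSpec 1 κ)]; infer_instance⟩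
  haveI : E.IsSeparated := ⟨by
    rw [← Limits.terminal.comp_from e.inv]; infer_instance⟩
  have hpb : IsPullback e.hom ((CohB1.ProjSpace 1 κ) ↘ Spec (CommRingCat.of k))
      (E ↘ Spec (CommRingCat.of k)) (Spec.map (CommRingCat.ofHom (algebraMap k k))) := by
    have hid : CommRingCat.ofHom (algebraMap k k) = 𝟙 (CommRingCat.of k) := rfl
    haveI : IsIso (Spec.map (CommRingCat.ofHom (algebraMap k k))) := by
      rw [hid]; infer_instance
    refine IsPullback.of_horiz_isIso ⟨?_⟩
    rw [hid, Spec.map_id, Category.comp_id]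
    exact he
  obtain ⟨a0, a1, b0, b1⟩ := finrank_line κ
  have hres := finrank_HH_restrict (k := k) (κ := κ) (CohB1.ProjSpace 1 κ) rfl
  have u0 : Module.finrank k (Coh.HH E (Coh.structureModule E) 0) = Module.finrank k κ := by
    rw [← CurveBC.finrank_hh_unit k k e.hom hpb 0, hres, a0, mul_one]
  have u1 : Module.finrank k (Coh.HH E (Coh.structureModule E) 1) = 0 := by
    rw [← CurveBC.finrank_hh_unit k k e.hom hpb 1, hres, a1, mul_zero]
  refine ⟨u0, u1, fun M hM ⟨α⟩ => ?_⟩
  have m : ∀ i, Module.finrank k (Coh.HH E M i) =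
      Module.finrank k κ * Module.finrank κ (Coh.HH (CohB1.ProjSpace 1 κ) (Twist.twistProjSpace 1 κ 1) i) := fun i => by
    rw [← CurveBC.finrank_hh k k e.hom hpb M (ProjUPX.isQCoh_of_isInvertible hM) i, finrank_HH_congr α i, hres]
  rw [ArSurf.curveDeg, FGA.eulerCharLE, FGA.eulerCharLE]
  simp [Finset.sum_range_succ, u0, u1, m, b0, b1]
  ring

end Groth.Agent.ArSurfBase
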