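import Groth.Agent.ArSurfBase.Quad
import Groth.Agent.ArSurfBase.Proper

/-! # The point ideal of a positive dimensional fibre, for arithmetic surfaces -/

set_option autoImplicit false
set_option linter.style.haveILetI false
set_option linter.unusedSectionVars false

universe u

open CategoryTheory AlgebraicGeometry

namespace Groth.Agent.ArSurfBase

variable {R : Type u} [CommRing R] [IsDomain R] [IsNoetherianRing R] {X Y : Over (Spec (CommRingCat.of R))}

theorem noetherian_of_isArithSurface (hX : ArSurf.IsArithSurface R X) :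
    IsLocallyNoetherian X.left ∧ CompactSpace X.left := by
  haveI := isProper_of_isArithSurface hX
  exact ⟨LocallyOfFiniteType.isLocallyNoetherian X.hom, QuasiCompact.compactSpace_of_compactSpace X.hom⟩

theorem isProper_left (hX : ArSurf.IsArithSurface R X) (hY : ArSurf.IsArithSurface R Y) (f : X ⟶ Y) :
    IsProper f.left := by
  haveI := isProper_of_isArithSurface hX
  haveI := isProper_of_isArithSurface hY
  haveI : IsProper (f.left ≫ Y.hom) := by rw [Over.w]; infer_instance
  exact IsProper.of_comp f.left Y.hom

theorem ne_genericPoint_of_isClosed {S : Scheme.{u}} [IsIntegral S] (hdim : topologicalKrullDim S = 2)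
    {y : S} (hy : IsClosed ({y} : Set S)) : y ≠ genericPoint S := fun e => by
  haveI : Subsingleton S := ⟨fun a b => by
    have key : ∀ a : S, a = y := fun a => (genericPoint_specializes a).mem_closed hy (by rw [← e]; rfl)
    rw [key a, key b]⟩
  obtain ⟨a, b, -, hne⟩ := exists_specializes_ne_of_dim_pos (Y := S) (by rw [hdim]; exact two_pos)
  exact hne (Subsingleton.elim a b)

theorem isEffCartier_comap_point_of_arith (hX : ArSurf.IsArithSurface R X) (hY : ArSurf.IsArithSurface R Y)
    (f : X ⟶ Y) (hbir : ∃ U : Y.left.Opens, (U : Set Y.left).Nonempty ∧ IsIso (f.left ∣_ U))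
    (y : Y.left) (hy : IsClosed ({y} : Set Y.left))
    (hbig : ∃ x x' : X.left, x ≠ x' ∧ f.left x = y ∧ f.left x' = y) :
    BlowUp.IsEffCartierIdeal ((Scheme.IdealSheafData.vanishingIdeal ⟨{y}, hy⟩).comap f.left) := by
  haveI := hX.2.1; haveI := hY.2.1
  obtain ⟨_, _⟩ := noetherian_of_isArithSurface hX
  obtain ⟨_, _⟩ := noetherian_of_isArithSurface hY
  haveI := isProper_left hX hY f
  exact isEffCartier_comap_point hX.1 hY.1 hX.2.2.1.le hY.2.2.1.le f.left hbir hy
    (ne_genericPoint_of_isClosed hY.2.2.1 hy) hbig

end Groth.Agent.ArSurfBase
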