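import Groth.Agent.ArSurfBase.ExcPoint
import Groth.Agent.ArSurfBase.P1Base
import Groth.Agent.ArSurfBase.Inter
import Groth.Agent.ArSurfBase.QuadArith
import Groth.Agent.CurveEmbed.Main
import Groth.Prelude.Def_ModelsG

/-! # The exceptional curve of a point blow-up of an arithmetic surface -/

set_option autoImplicit false
set_option linter.style.haveILetI false
set_option linter.unusedSectionVars false
set_option backward.isDefEq.respectTransparency false
set_option backward.isDefEq.respectTransparency.types false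

universe u

open CategoryTheory CategoryTheory.Limits AlgebraicGeometry IsLocalRing TopologicalSpace

namespace Groth.Agent.ArSurfBase

variable {R : Type u} [CommRing R] [IsDomain R] [IsDiscreteValuationRing R]

theorem fromSpecStalk_hom (Y : Over (Spec (CommRingCat.of R))) (y : Y.left) :
    Y.left.fromSpecStalk y ≫ Y.hom = Spec.map (CommRingCat.ofHom (Models.stalkHom R Y y)) := by
  have h : Y.hom = Y.left.toSpecΓ ≫ Spec.map (CommRingCat.ofHom (Coh.toGlobal Y.hom)) := by
    refine ext_of_isAffine ?_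
    rw [Scheme.Hom.comp_appTop, Scheme.toSpecΓ_appTop]
    simp only [Coh.toGlobal, CommRingCat.ofHom_comp, CommRingCat.ofHom_hom, Spec.map_comp]
    rw [Scheme.Hom.comp_appTop]
    simp
  conv_lhs => rw [h]
  rw [Scheme.fromSpecStalk_toSpecΓ_assoc, ← Spec.map_comp]
  congr 1

variable {X : Scheme.{u}} {Y : Over (Spec (CommRingCat.of R))}

/-- The exceptional curve of the blowing up of a closed point. -/
theorem exceptional_curve (hY : ArSurf.IsArithSurface R Y) (y : Y.left) (hy : IsClosed ({y} : Set Y.left))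
    (hys : Y.hom.base y = IsLocalRing.closedPoint R) (f : X ⟶ Y.left)
    (hf : BlowUp.IsBlowUp f (Scheme.IdealSheafData.vanishingIdeal ⟨{y}, hy⟩))
    (E : ArSurf.VertComp R (Over.mk (f ≫ Y.hom)))
    (hE : Set.range (E.ι.base : E.curve.left → X) = f.base ⁻¹' {y})
    (L : X.Modules) (hL : ClSub.IsInverseOf L (ClSub.idealMod E.ι.ker)) :
    Models.IsExcCurve E.ι ∧
      (∃ e : CohB1.ProjSpace 1 (Y.left.residueField y) ≅ E.curve.left,
        e.hom ≫ E.ι ≫ f = CohB1.ProjSpace.toSpec 1 (Y.left.residueField y) ≫ Y.left.fromSpecResidueField y) ∧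
      (letI : Algebra R (Y.left.residueField y) := ((Y.left.residue y).hom.comp (Models.stalkHom R Y y)).toAlgebra
       Module.length R (Y.left.residueField y) = (Models.wdeg R (Over.mk (f ≫ Y.hom)) E : ℕ∞)) ∧
      Models.h1 R (Over.mk (f ≫ Y.hom)) E = 0 ∧
      ArSurf.inter R (Over.mk (f ≫ Y.hom)) L E = -(Models.wdeg R (Over.mk (f ≫ Y.hom)) E : ℤ) := by
  haveI := hY.2.1; haveI := isProper_of_isArithSurface hY
  obtain ⟨_, _⟩ := noetherian_of_isArithSurface hY
  have hygen := ne_genericPoint_of_isClosed hY.2.2.1 hy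
  obtain ⟨hfp, hXi, hXn, -, hiso⟩ := blowUp_point_props hY.1 hy hygen f hf
  haveI := hfp; haveI := hXi; haveI := hXn
  haveI : IsProper (Over.mk (f ≫ Y.hom)).hom := inferInstanceAs (IsProper (f ≫ Y.hom))
  haveI : IsIntegral (Over.mk (f ≫ Y.hom)).left := hXi
  set I := Scheme.IdealSheafData.vanishingIdeal (⟨{y}, hy⟩ : Closeds Y.left)
  obtain ⟨eη, hbij⟩ := birational_of_isIso_restrict f
    ⟨⟨{y}ᶜ, hy.isOpen_compl⟩, ⟨genericPoint Y.left, fun h => hygen h.symm⟩, hiso⟩
  -- the centre is a point of dimension two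
  have hd : ringKrullDim (Y.left.presheaf.stalk y) = 2 := by
    obtain ⟨z, hz, hξz, hne⟩ := exists_specializes_ne E
    set ξ := Models.genPtOf R (Over.mk (f ≫ Y.hom)) E
    have hfz : f z = y := hE.subset (show z ∈ Set.range (E.ι.base : E.curve.left → X) from hz)
    have hfξ : f ξ = y := hE.subset ⟨_, rfl⟩
    have hξη : genericPoint X ≠ ξ := fun h => hygen (by rw [← hfξ, ← h, eη])
    refine le_antisymm ((SchTop.ringKrullDim_stalk_le y).trans hY.2.2.1.le) ?_
    by_contra hlt
    rw [not_le, ringKrullDim_stalk_eq_coheight] at hlt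
    have hd1 : Order.coheight y = 1 := by
      have h1 : (1 : ℕ∞) ≤ Order.coheight y := Order.one_le_iff_pos.2 (Order.coheight_pos.2 fun hm => hygen
        ((genericPoint_specializes y).antisymm (Scheme.le_iff_specializes.1 (hm (Scheme.le_iff_specializes.2
          (genericPoint_specializes y))))).eq.symm)
      have h2 : Order.coheight y < 2 := WithBot.coe_lt_coe.1 hlt
      exact le_antisymm (ENat.lt_coe_add_one_iff.1 (by simpa [one_add_one_eq_two] using h2)) h1
    subst hfz
    have hd1' : ringKrullDim (Y.left.presheaf.stalk (f z)) = 1 := by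
      rw [ringKrullDim_stalk_eq_coheight, hd1]; rfl
    haveI := hY.1 (f z)
    haveI := (RegUFD.ufd (Y.left.presheaf.stalk (f z))).2
    haveI := (RegUFD.ufd (Y.left.presheaf.stalk (f z))).1
    haveI := CDiv6.isDVR_of_dim_eq_one _ hd1'
    have h2 := ringKrullDim_le_of_surjective _ (surjective_stalkMap_of_valuationRing f eη hbij z)
    rw [hd1', ringKrullDim_stalk_eq_coheight] at h2
    have h3 : Order.coheight z ≤ 1 := by exact_mod_cast h2
    have hzξ : z < ξ := lt_iff_le_not_ge.2 ⟨Scheme.le_iff_specializes.2 hξz,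
      fun h' => hne (hξz.antisymm (Scheme.le_iff_specializes.1 h')).eq⟩
    have hξ' : ξ < genericPoint X := lt_iff_le_not_ge.2 ⟨Scheme.le_iff_specializes.2 (genericPoint_specializes ξ),
      fun h' => hξη ((genericPoint_specializes ξ).antisymm (Scheme.le_iff_specializes.1 h')).eq⟩
    have h4 := Order.coheight_add_one_le hzξ
    have h5 := Order.coheight_add_one_le hξ'
    have h6 : (0 : ℕ∞) + 1 + 1 ≤ Order.coheight z := le_trans (by gcongr; exact zero_le) ((add_le_add h5 le_rfl).trans h4)
    exact absurd (h6.trans h3) (by decide)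
  set J := I.comap f
  obtain ⟨e, he, ⟨α⟩⟩ := exists_exceptional hy (hY.1 y) hd f hf
  haveI : IsIntegral (CohB1.ProjSpace 1 (Y.left.residueField y)) := H23.PnChart.isIntegral_projSpace 1 _
  haveI : Nonempty J.subscheme := ⟨e.hom (genericPoint _)⟩
  haveI : IsIntegral J.subscheme := isIntegral_of_isOpenImmersion e.inv
  have hker : E.ι.ker = J := by
    rw [ker_eq_vanishingIdeal E.ι]
    conv_rhs => rw [← J.ker_subschemeι, ker_eq_vanishingIdeal J.subschemeι, J.ker_subschemeι]
    congr 1
    refine SetLike.coe_injective ?_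
    rw [support_ker, Scheme.IdealSheafData.support_comap]
    refine hE.trans ?_
    simp [I]
  have hker' : J.subschemeι.ker = E.ι.ker := by rw [J.ker_subschemeι, hker]
  haveI : IsIso (IsClosedImmersion.lift J.subschemeι E.ι hker'.le) := IsClosedImmersion.isIso_lift _ _ hker'
  let e1 : CohB1.ProjSpace 1 (Y.left.residueField y) ≅ E.curve.left :=
    e ≪≫ (asIso (IsClosedImmersion.lift J.subschemeι E.ι hker'.le)).symm
  have he1 : e1.hom ≫ E.ι = e.hom ≫ J.subschemeι := by
    simp only [e1, Iso.trans_hom, Iso.symm_hom, asIso_inv, Category.assoc]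
    exact congrArg (e.hom ≫ ·) ((IsIso.inv_comp_eq _).2 (IsClosedImmersion.lift_fac _ _ _).symm)
  -- the constants
  let ψ : R →+* Y.left.residueField y := (Y.left.residue y).hom.comp (Models.stalkHom R Y y)
  have hψ : ∀ a ∈ maximalIdeal R, ψ a = 0 := fun a ha => by
    refine (IsLocalRing.residue_eq_zero_iff _).2 ((rho_mem_maximalIdeal_iff Y.hom y a).2 ?_)
    rw [hys]
    exact ha
  let φ : ResidueField R →+* Y.left.residueField y := Ideal.Quotient.lift _ ψ hψ
  letI : Algebra (ResidueField R) (Y.left.residueField y) := φ.toAlgebra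
  haveI : IsClosedImmersion (Spec.map (CommRingCat.ofHom (residue R))) :=
    IsClosedImmersion.spec_of_surjective _ residue_surjective
  have hw : E.ι ≫ f ≫ Y.hom = E.curve.hom ≫ Spec.map (CommRingCat.ofHom (residue R)) := E.w
  have hstr : e1.hom ≫ E.curve.hom = CohB1.ProjSpace.toSpec 1 (Y.left.residueField y) ≫
      Spec.map (CommRingCat.ofHom (algebraMap (ResidueField R) (Y.left.residueField y))) := by
    rw [← cancel_mono (Spec.map (CommRingCat.ofHom (residue R))), Category.assoc, ← hw, Category.assoc,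
      ← Spec.map_comp, reassoc_of% he1, reassoc_of% he]
    congr 1
    rw [Scheme.fromSpecResidueField, Category.assoc, fromSpecStalk_hom, ← Spec.map_comp]
    congr 1
  haveI := isProper_curve E
  obtain ⟨u0, u1, udeg⟩ := line_over_subfield (k := ResidueField R) e1 hstr
  have hfin : FiniteDimensional (ResidueField R) (Y.left.residueField y) :=
    FiniteDimensional.of_finrank_pos (u0 ▸ CurveEmbed.h0_structure_pos (k := ResidueField R))
  have hKinv : PicF.IsInvertible (ClSub.idealMod E.ι.ker) := SurfInt.isInvertible_idealMod (hker ▸ hf.1)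
  refine ⟨⟨hker ▸ hf.1, Y.left.residueField y, inferInstance, e1, ?_⟩, ⟨e1, ?_⟩, ?_, u1, ?_⟩
  · rw [he1, hker]
    exact ⟨α⟩
  · rw [reassoc_of% he1]
    exact he
  · show _ = ((Module.finrank (ResidueField R) (Coh.HH E.curve.left (Coh.structureModule E.curve.left) 0) : ℕ) : ℕ∞)
    rw [u0]
    haveI := hfin
    rw [← Module.length_eq_finrank]
    refine Eq.trans ?_ (length_compHom_of_surjective (residue R) residue_surjective)
    congr 1
  · have hι : PicF.IsInvertible ((Scheme.Modules.pullback E.ι).obj (ClSub.idealMod E.ι.ker)) :=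
      PicClLib.isInvertible_pullback E.ι hKinv
    have hLι : PicF.IsInvertible ((Scheme.Modules.pullback E.ι).obj L) :=
      PicClLib.isInvertible_pullback E.ι (SurfInt.isInvertible_of_inverseOf_right hKinv hL)
    show ArSurf.curveDeg _ _ ((Scheme.Modules.pullback E.ι).obj L) = -((Module.finrank (ResidueField R) _ : ℕ) : ℤ)
    rw [curveDeg_eq_neg_of_inverse E.dim_eq hLι hι (isInverseOf_pullback E hL), u0, udeg _ hι ?_]
    exact ⟨(Scheme.Modules.pullbackComp e1.hom E.ι).app _ ≪≫
      (Scheme.Modules.pullbackCongr he1).app _ ≪≫ (Scheme.Modules.pullback _).mapIso (eqToIso (by rw [hker])) ≪≫ α⟩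

/-- The same for a fibred surface presented with its own structure map. -/
theorem exceptional_curve' (hY : ArSurf.IsArithSurface R Y) (y : Y.left) (hy : IsClosed ({y} : Set Y.left))
    (hys : Y.hom.base y = IsLocalRing.closedPoint R) (f : X ⟶ Y.left)
    (hf : BlowUp.IsBlowUp f (Scheme.IdealSheafData.vanishingIdeal ⟨{y}, hy⟩))
    (p : X ⟶ Spec (CommRingCat.of R)) (hp : f ≫ Y.hom = p)
    (E : ArSurf.VertComp R (Over.mk p))
    (hE : Set.range (E.ι.base : E.curve.left → X) = f.base ⁻¹' {y})
    (L : X.Modules) (hL : ClSub.IsInverseOf L (ClSub.idealMod E.ι.ker)) :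
    Models.IsExcCurve E.ι ∧ Models.h1 R (Over.mk p) E = 0 ∧
      ArSurf.inter R (Over.mk p) L E = -(Models.wdeg R (Over.mk p) E : ℤ) := by
  subst hp
  obtain ⟨h1, -, -, h4, h5⟩ := exceptional_curve hY y hy hys f hf E hE L hL
  exact ⟨h1, h4, h5⟩

end Groth.Agent.ArSurfBase
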