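import Groth.Agent.ArSurfBase.Inter
import Groth.Agent.ArSurfBase.CodimOne
import Groth.Agent.CDiv6.Normal
import Groth.Agent.ModPairLib.Quot

/-! # The closed fibre of a regular surface over a discrete valuation ring as a divisor -/

set_option autoImplicit false
set_option linter.style.haveILetI false
set_option linter.unusedSectionVars false

universe u

open CategoryTheory CategoryTheory.Limits AlgebraicGeometry IsLocalRing

namespace Groth.Agent.ArSurfBase

open Groth.Agent.CDivEq (stk)

variable {R : Type u} [CommRing R] [IsDomain R] [IsDiscreteValuationRing R]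
  {X : Over (Spec (CommRingCat.of R))}

theorem stk_specialFibreIdeal (V : X.left.affineOpens) {x : X.left} (hx : x ∈ V.1) :
    stk (Models.specialFibreIdeal R X) V hx = (maximalIdeal R).map (Models.stalkHom R X x) := by
  haveI : IsAffine (Spec (CommRingCat.of R)) := inferInstance
  rw [stk, Models.specialFibreIdeal, ModPairLib.ideal_comap _ X.hom (⟨⊤, isAffineOpen_top _⟩ : (Spec (CommRingCat.of R)).affineOpens) V le_top,
    Curv2.idealSheaf, Scheme.IdealSheafData.ofIdealTop_ideal, Ideal.map_map, Ideal.map_map, Ideal.map_map]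
  congr 1
  ext r
  simp only [RingHom.comp_apply, Scheme.Hom.appLE, CommRingCat.comp_apply, TopCat.Presheaf.germ_res_apply]
  rfl

theorem stalkHom_mem_maximalIdeal_iff {x : X.left} (r : R) :
    Models.stalkHom R X x r ∈ maximalIdeal _ ↔ r ∈ (X.hom.base x).asIdeal := by
  have h1 : IsUnit (Models.stalkHom R X x r) ↔
      x ∈ X.left.basicOpen (X.hom.appTop ((Scheme.ΓSpecIso (CommRingCat.of R)).inv r)) :=
    (X.left.mem_basicOpen (U := ⊤) _ x trivial).symm
  rw [mem_maximalIdeal, mem_nonunits_iff, h1, ← Scheme.preimage_basicOpen_top]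
  show ¬ X.hom.base x ∈ (Spec (CommRingCat.of R)).basicOpen _ ↔ _
  rw [basicOpen_eq_of_affine]
  exact not_not

theorem mem_support_specialFibreIdeal_iff {x : X.left} :
    x ∈ ((Models.specialFibreIdeal R X).support : Set X.left) ↔ X.hom.base x = closedPoint R := by
  obtain ⟨U, hx⟩ := exists_affine x
  rw [CDivEq.mem_support_iff _ U hx, stk_specialFibreIdeal]
  obtain ⟨π, hπ⟩ := IsDiscreteValuationRing.exists_irreducible R
  rw [hπ.maximalIdeal_eq, Ideal.map_span, Set.image_singleton, Ne, Ideal.span_singleton_eq_top,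
    ← mem_nonunits_iff, ← mem_maximalIdeal, stalkHom_mem_maximalIdeal_iff]
  refine ⟨fun h => PrimeSpectrum.ext ?_, fun h => h ▸ by
    show π ∈ maximalIdeal R
    rw [hπ.maximalIdeal_eq]; exact Ideal.mem_span_singleton_self π⟩
  refine le_antisymm (le_maximalIdeal (X.hom.base x).isPrime.ne_top) ?_
  show maximalIdeal R ≤ _
  rw [hπ.maximalIdeal_eq, Ideal.span_singleton_le_iff_mem]
  exact h

theorem isEffCartier_one {S : Scheme.{u}} : BlowUp.IsEffCartierIdeal (1 : S.IdealSheafData) := fun x => by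
  obtain ⟨U, hx⟩ := exists_affine x
  refine ⟨U, hx, 1, one_mem _, ?_⟩
  rw [Ideal.span_singleton_one]
  exact top_le_iff.1 (le_of_le_of_eq le_top (by simp))

theorem isEffCartier_pow {S : Scheme.{u}} {I : S.IdealSheafData} (hI : BlowUp.IsEffCartierIdeal I) :
    ∀ n : ℕ, BlowUp.IsEffCartierIdeal (I ^ n)
  | 0 => by rw [pow_zero]; exact isEffCartier_one
  | n + 1 => by rw [pow_succ]; exact ModPairLib.isEffCartier_mul (isEffCartier_pow hI n) hI

theorem isEffCartier_idealSheaf : BlowUp.IsEffCartierIdeal (Curv2.idealSheaf R (maximalIdeal R)) := by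
  obtain ⟨π, hπ⟩ := IsDiscreteValuationRing.exists_irreducible R
  intro y
  refine ⟨(⟨⊤, isAffineOpen_top _⟩ : (Spec (CommRingCat.of R)).affineOpens), trivial, (Scheme.ΓSpecIso (CommRingCat.of R)).inv π, ?_, ?_⟩
  · refine mem_nonZeroDivisors_of_ne_zero fun h => hπ.ne_zero ?_
    exact (Scheme.ΓSpecIso (CommRingCat.of R)).symm.commRingCatIsoToRingEquiv.injective
      (h.trans (map_zero _).symm)
  · rw [Curv2.idealSheaf, Scheme.IdealSheafData.ofIdealTop_ideal, hπ.maximalIdeal_eq, Ideal.map_map,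
      Ideal.map_span, Set.image_singleton]
    congr 2

section Surface

variable [IsIntegral X.left] [Flat X.hom]

theorem genericPoint_notMem_fibre : X.hom.base (genericPoint X.left) ≠ closedPoint R := fun h => by
  have := asIdeal_eq_bot_genericPoint X.hom
  rw [h] at this
  exact IsDiscreteValuationRing.not_a_field R this

theorem isEffCartier_specialFibreIdeal : BlowUp.IsEffCartierIdeal (Models.specialFibreIdeal R X) := by
  refine isEffCartier_comap_of_not_mem X.hom ?_ ?_
  · exact isEffCartier_idealSheaf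
  · intro h
    have h2 : genericPoint X.left ∈ ((Models.specialFibreIdeal R X).support : Set X.left) := by
      rw [Models.specialFibreIdeal, Scheme.IdealSheafData.support_comap]
      exact h
    exact genericPoint_notMem_fibre (mem_support_specialFibreIdeal_iff.1 h2)

variable (hdim : topologicalKrullDim X.left = 2)
  (hreg : ∀ x : X.left, IsRegularLocalRing (X.left.presheaf.stalk x))

include hreg in
theorem isDVR_stalk {x : X.left} (hx : ringKrullDim (X.left.presheaf.stalk x) = 1) :
    IsDiscreteValuationRing (X.left.presheaf.stalk x) := by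
  haveI := hreg x
  haveI := (RegUFD.ufd (X.left.presheaf.stalk x)).2
  exact CDiv6.isDVR_of_dim_eq_one _ hx

theorem genPtOf_notMem_supp {Γ Γ' : ArSurf.VertComp R X} (hdim : topologicalKrullDim X.left = 2)
    (hne : supp Γ ≠ supp Γ') : Models.genPtOf R X Γ ∉ supp Γ' := fun h =>
  hne ((supp_eq_iff_genPtOf_eq Γ).2 (eq_genPtOf_of_specializes Γ hdim
    (hom_base_eq_closedPoint Γ' (genPtOf_mem Γ')) ((isGenericPoint_genPtOf Γ').specializes h)).symm)

include hdim in
theorem eq_genPtOf_of_mem {Γ : ArSurf.VertComp R X} {x : X.left} (hx : x ∈ supp Γ)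
    (hd : ringKrullDim (X.left.presheaf.stalk x) = 1) : x = Models.genPtOf R X Γ := by
  by_contra hne
  have hlt : x < Models.genPtOf R X Γ :=
    lt_iff_le_not_ge.2 ⟨Scheme.le_iff_specializes.2 ((isGenericPoint_genPtOf Γ).specializes hx),
      fun h => hne (((isGenericPoint_genPtOf Γ).specializes hx).antisymm (Scheme.le_iff_specializes.1 h)).eq.symm⟩
  have h1 := Order.coheight_add_one_le hlt
  rw [coheight_genPtOf Γ hdim] at h1
  rw [ringKrullDim_stalk_eq_coheight] at hd
  have h2 : Order.coheight x = 1 := by exact_mod_cast hd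
  rw [h2] at h1
  exact absurd h1 (by decide)

variable [IsLocallyNoetherian X.left]

include hdim hreg in
theorem stk_ker_genPtOf (Γ : ArSurf.VertComp R X) (U : X.left.affineOpens)
    (hU : Models.genPtOf R X Γ ∈ U.1) :
    stk Γ.ι.ker U hU = maximalIdeal _ := by
  have hd := ringKrullDim_stalk_genPtOf Γ hdim
  haveI := hreg (Models.genPtOf R X Γ)
  haveI := (RegUFD.ufd (X.left.presheaf.stalk (Models.genPtOf R X Γ))).1
  haveI := isDVR_stalk hreg hd
  obtain ⟨g, hg, hgen⟩ := CDivEq.exists_gen _ (isEffCartier_ker Γ hdim hreg) U hU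
  have hne : stk Γ.ι.ker U hU ≠ ⊤ := (CDivEq.mem_support_iff _ U hU).1 (by
    rw [support_ker]; exact genPtOf_mem Γ)
  have hrad : (stk Γ.ι.ker U hU).IsRadical := by
    have h1 : (Γ.ι.ker.ideal U).radical = Γ.ι.ker.ideal U := by
      conv_rhs => rw [ker_eq_vanishingIdeal Γ.ι, Scheme.IdealSheafData.vanishingIdeal_support,
        Scheme.IdealSheafData.radical_ideal]
    letI := X.left.presheaf.algebra_section_stalk (U := U.1) ⟨_, hU⟩
    haveI := U.2.isLocalization_stalk ⟨_, hU⟩
    show ((Γ.ι.ker.ideal U).map (algebraMap Γ(X.left, U.1) _)).IsRadical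
    rw [← Ideal.radical_eq_iff, ← IsLocalization.map_radical
      (U.2.primeIdealOf ⟨_, hU⟩).asIdeal.primeCompl, h1]
  obtain ⟨ϖ, hϖ⟩ := IsDiscreteValuationRing.exists_irreducible (X.left.presheaf.stalk (Models.genPtOf R X Γ))
  have hbot : stk Γ.ι.ker U hU ≠ ⊥ := by
    rw [hgen, Ne, Ideal.span_singleton_eq_bot]
    exact nonZeroDivisors.ne_zero hg
  obtain ⟨n, hn⟩ := IsDiscreteValuationRing.ideal_eq_span_pow_irreducible hbot hϖ
  rw [hn, ← Ideal.span_singleton_pow, ← hϖ.maximalIdeal_eq] at hne hrad ⊢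
  rcases n with _ | n
  · simp at hne
  · exact le_antisymm (Ideal.pow_le_self (Nat.succ_ne_zero n))
      fun a ha => hrad ⟨n + 1, Ideal.pow_mem_pow ha _⟩

include hdim hreg in
theorem map_maximalIdeal_genPtOf (Γ : ArSurf.VertComp R X) :
    (maximalIdeal R).map (Models.stalkHom R X (Models.genPtOf R X Γ)) =
      maximalIdeal _ ^ Models.mult R X Γ ∧ 0 < Models.mult R X Γ := by
  have hd := ringKrullDim_stalk_genPtOf Γ hdim
  haveI := hreg (Models.genPtOf R X Γ)
  haveI := (RegUFD.ufd (X.left.presheaf.stalk (Models.genPtOf R X Γ))).1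
  haveI := isDVR_stalk hreg hd
  obtain ⟨U, hU⟩ := exists_affine (Models.genPtOf R X Γ)
  obtain ⟨g, hg, hgen⟩ := CDivEq.exists_gen _ (isEffCartier_specialFibreIdeal (X := X)) U hU
  have hne : stk (Models.specialFibreIdeal R X) U hU ≠ ⊤ := (CDivEq.mem_support_iff _ U hU).1
    (mem_support_specialFibreIdeal_iff.2 (hom_base_eq_closedPoint Γ (genPtOf_mem Γ)))
  rw [stk_specialFibreIdeal] at hgen hne
  obtain ⟨ϖ, hϖ⟩ := IsDiscreteValuationRing.exists_irreducible (X.left.presheaf.stalk (Models.genPtOf R X Γ))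
  obtain ⟨n, hn⟩ := IsDiscreteValuationRing.ideal_eq_span_pow_irreducible
    (s := (maximalIdeal R).map (Models.stalkHom R X (Models.genPtOf R X Γ))) (by
      rw [hgen, Ne, Ideal.span_singleton_eq_bot]
      exact nonZeroDivisors.ne_zero hg) hϖ
  rw [← Ideal.span_singleton_pow, ← hϖ.maximalIdeal_eq] at hn
  have hm : Models.mult R X Γ = n := by
    rw [Models.mult, hn, IsDiscreteValuationRing.length_quotient_pow_maximalIdeal]
    rfl
  rw [hm]
  exact ⟨hn, Nat.pos_of_ne_zero fun h => hne (by rw [hn, h, pow_zero, Ideal.one_eq_top])⟩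

include hdim hreg in
/-- The closed fibre is the sum of its components with multiplicities. -/
theorem specialFibreIdeal_eq_prod {n : ℕ} (Γ : Fin n → ArSurf.VertComp R X)
    (hinj : Function.Injective fun i => supp (Γ i))
    (hcov : ∀ x : X.left, X.hom.base x = closedPoint R → ∃ i, x ∈ supp (Γ i)) :
    Models.specialFibreIdeal R X = ∏ i, (Γ i).ι.ker ^ Models.mult R X (Γ i) := by
  refine eq_of_stk_codim_one hreg isEffCartier_specialFibreIdeal ?_ fun y W hy hd => ?_
  · refine Finset.prod_induction (fun i => (Γ i).ι.ker ^ Models.mult R X (Γ i)) BlowUp.IsEffCartierIdeal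
      (fun a b => ModPairLib.isEffCartier_mul) isEffCartier_one fun i _ => ?_
    exact isEffCartier_pow (isEffCartier_ker (Γ i) hdim hreg) _
  rw [stk_prod, stk_specialFibreIdeal]
  by_cases hs : X.hom.base y = closedPoint R
  · obtain ⟨i, hi⟩ := hcov y hs
    obtain rfl := eq_genPtOf_of_mem hdim hi hd
    rw [Finset.prod_eq_single i, stk_pow, stk_ker_genPtOf hdim hreg, (map_maximalIdeal_genPtOf hdim hreg (Γ i)).1]
    · intro j _ hji
      rw [stk_pow, stk_eq_top_of_notMem _ _ _ (by
        rw [← SetLike.mem_coe, support_ker]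
        exact genPtOf_notMem_supp hdim fun e => hji (hinj e.symm)), Ideal.top_pow, Ideal.one_eq_top]
    · exact fun h => absurd (Finset.mem_univ i) h
  · rw [Finset.prod_eq_one fun i _ => by
        rw [stk_pow, stk_eq_top_of_notMem _ _ _ (by
          rw [← SetLike.mem_coe, support_ker]
          exact fun h => hs (hom_base_eq_closedPoint _ h)), Ideal.top_pow, Ideal.one_eq_top],
      ← stk_specialFibreIdeal W hy, stk_eq_top_of_notMem _ _ _ (fun h => hs (mem_support_specialFibreIdeal_iff.1 h)),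
      Ideal.one_eq_top]

end Surface

/-- A component list covers the closed fibre. -/
theorem cover_of_isComponentList {n : ℕ} {Γ : Fin n → ArSurf.VertComp R X}
    (hΓ : Models.IsComponentList R X Γ) {x : X.left} (hx : X.hom.base x = closedPoint R) :
    ∃ i, x ∈ supp (Γ i) := by
  obtain ⟨m, hxm, hm⟩ := zorn_subset_nonempty {t : Set X.left | IsPreirreducible t ∧ t ⊆ Models.specialFibreSet R X}
    (fun c hc hcc _ => ⟨⋃₀ c, ⟨fun u v hu hv ⟨y, hy, hyu⟩ ⟨z, hz, hzv⟩ => by
        obtain ⟨p, hpc, hyp⟩ := Set.mem_sUnion.1 hy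
        obtain ⟨q, hqc, hzq⟩ := Set.mem_sUnion.1 hz
        rcases hcc.total hpc hqc with hpq | hqp
        · obtain ⟨w, hw, hwuv⟩ := (hc hqc).1 u v hu hv ⟨y, hpq hyp, hyu⟩ ⟨z, hzq, hzv⟩
          exact ⟨w, Set.mem_sUnion_of_mem hw hqc, hwuv⟩
        · obtain ⟨w, hw, hwuv⟩ := (hc hpc).1 u v hu hv ⟨y, hyp, hyu⟩ ⟨z, hqp hzq, hzv⟩
          exact ⟨w, Set.mem_sUnion_of_mem hw hpc, hwuv⟩,
      Set.sUnion_subset fun s hs => (hc hs).2⟩, fun s hs => Set.subset_sUnion_of_mem hs⟩)
    {x} ⟨isPreirreducible_singleton, Set.singleton_subset_iff.2 hx⟩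
  have hx' : x ∈ m := hxm rfl
  have : m ∈ Models.fibreComponents R X :=
    ⟨⟨⟨⟨x, hx'⟩, hm.prop.1⟩, hm.prop.2⟩, fun S hS hle => hm.le_of_ge ⟨hS.1.2, hS.2⟩ hle⟩
  rw [← hΓ.2] at this
  obtain ⟨i, hi⟩ := this
  exact ⟨i, (Set.ext_iff.1 hi x).2 hx'⟩

end Groth.Agent.ArSurfBase
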