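import Groth.Agent.ArSurfBase.RelMin
import Groth.Agent.ArSurfBase.Inter
import Groth.Agent.ArSurfBase.CodimOne
import Groth.Agent.ArSurfBase.FibreDiv
import Groth.Agent.CurveEmbed.P1
import Groth.Agent.S10829
import Groth.Agent.H23.PicMul
import Groth.Prelude.Def_ModelsG

/-! # An exceptional curve is never a whole connected component of a fibre -/

set_option autoImplicit false
set_option linter.style.haveILetI false
set_option linter.unusedSectionVars false
set_option backward.isDefEq.respectTransparency false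
set_option backward.isDefEq.respectTransparency.types false

universe u

open CategoryTheory CategoryTheory.Limits AlgebraicGeometry IsLocalRing

open scoped Groth.Agent.H23.PicMul

namespace Groth.Agent.ArSurfBase

open Groth.Agent.CDivEq (stk)
open Groth.Agent.H23.PicMul (pullHom cl_eq_iff cl_tensor cl_tensorPow isUnit_cl one_def)

/-- No positive power of `O(1)` on the projective line is trivial. -/
theorem pow_twist_ne_one (k : Type u) [Field k] {m : ℕ} (hm : m ≠ 0) :
    PicF.cl (Twist.twistProjSpace 1 k 1) ^ m ≠ 1 := by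
  let X := CohB1.ProjSpace 1 k
  haveI : IsIntegral X := H23.PnChart.isIntegral_projSpace 1 k
  haveI : IsProper (X ↘ Spec (CommRingCat.of k)) := PnCoh.Chow.isProper_toSpec 1 k
  haveI := CurveCohLib.isNoetherian_of_proper (k := k) (X := X)
  have hdim : topologicalKrullDim X = 1 := by simpa using S10829.result k 1
  let L : X.Modules := Twist.twistProjSpace 1 k ((1 : ℕ) : ℤ)
  have hL : PicF.IsInvertible L :=
    PnCoh.Finite.isInvertible_twist (fun j : ULift.{u} (Fin (1 + 1)) => MvPolynomial.X j.down)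
      (fun j => ProjPt.X_mem j.down) (by
        refine top_le_iff.1 ((AmpleEmbed.iSup_basicOpen_X 1 k).ge.trans (iSup_le fun j => ?_))
        exact le_iSup_of_le (ULift.up j) le_rfl) ((1 : ℕ) : ℤ)
  have h0 : ∀ d : ℕ, Module.finrank k (Coh.HH X (Twist.twistProjSpace 1 k (d : ℤ)) 0) = d + 1 := fun d => by
    obtain ⟨φ⟩ := S0843.result k 1 d
    rw [φ.finrank_eq, CurveEmbed.finrank_binary]
  have hO : Module.finrank k (Coh.HH X (Coh.structureModule X) 0) = 1 := by
    have h1 := CurveEmbed.h0_structure_dvd k (Twist.twistProjSpace 1 k ((1 : ℕ) : ℤ) : X.Modules)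
    have h2 := CurveEmbed.h0_structure_dvd k (Twist.twistProjSpace 1 k ((2 : ℕ) : ℤ) : X.Modules)
    rw [h0] at h1 h2
    exact Nat.dvd_one.1 ((Nat.dvd_add_iff_right h1).2 h2)
  have hg : Module.finrank k (Coh.HH X (Coh.structureModule X) 1) = 0 := by
    haveI h : Subsingleton (Coh.HH (CohB1.ProjSpace 1 k) (Coh.structureModule (CohB1.ProjSpace 1 k)) (0 + 1)) :=
      PnCoh.subsingleton_HH_structureModule (ι := Fin (1 + 1)) (R := k) (PnCoh.isQCoh_structureModule _) 0
    exact Module.finrank_zero_of_subsingleton (R := k)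
      (M := Coh.HH (CohB1.ProjSpace 1 k) (Coh.structureModule _) (0 + 1))
  have hg1 : Module.finrank k (Coh.HH X L 1) = 0 := by
    haveI := S0844.result k 1 ((1 : ℕ) : ℤ) 1 (fun h => absurd h.1 one_ne_zero) (fun h => absurd h.2 (by norm_num))
    exact Module.finrank_zero_of_subsingleton
  have hLc := CurveDeg.isCoh_of_isInvertible hL
  have hdeg : Curv2.deg k X L 1 = 1 := by
    unfold Curv2.deg
    rw [CurveRR.euler_eq_h0_sub_h1 k hdim.le hLc.1,
      CurveRR.euler_eq_h0_sub_h1 k hdim.le QCoh.isQCoh_structureModule, h0, hO, hg, hg1]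
    norm_num
  have hcd : ∀ n : ℕ, ArSurf.curveDeg k X (CohB1.tensorPow L n) = n := fun n => by
    induction n with
    | zero => exact curveDeg_eq_zero_of_iso (Iso.refl _)
    | succ n ih =>
      rw [show CohB1.tensorPow L (n + 1) = CohB1.tensorMod (CohB1.tensorPow L n) L from rfl,
        curveDeg_tensor hdim (H23.PicMul.isInvertible_tensorPow hL n) hL, ih, curveDeg_eq_deg hdim.le hLc.1, hdeg]
      push_cast
      ring
  intro h
  rw [show PicF.cl (Twist.twistProjSpace 1 k 1) = PicF.cl L from rfl, ← cl_tensorPow, one_def] at h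
  have h1 := hcd m
  rw [curveDeg_eq_zero_of_iso (cl_eq_iff.1 h).some] at h1
  exact hm (by exact_mod_cast h1.symm)

theorem cl_idealMod_mul {X : Scheme.{u}} {I J : X.IdealSheafData} (hI : BlowUp.IsEffCartierIdeal I)
    (hJ : BlowUp.IsEffCartierIdeal J) :
    PicF.cl (ClSub.idealMod (I * J)) = PicF.cl (ClSub.idealMod I) * PicF.cl (ClSub.idealMod J) :=
  cl_eq_iff.2 (SurfInt.nonempty_idealMod_mul hI hJ)

theorem cl_idealMod_one {X : Scheme.{u}} : PicF.cl (ClSub.idealMod (1 : X.IdealSheafData)) = 1 := by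
  have h := cl_idealMod_mul (X := X) isEffCartier_one isEffCartier_one
  rw [one_mul] at h
  exact (isUnit_cl (SurfInt.isInvertible_idealMod isEffCartier_one)).mul_left_cancel
    (h.symm.trans (mul_one _).symm)

theorem cl_idealMod_pow {X : Scheme.{u}} {I : X.IdealSheafData} (hI : BlowUp.IsEffCartierIdeal I) :
    ∀ n : ℕ, PicF.cl (ClSub.idealMod (I ^ n)) = PicF.cl (ClSub.idealMod I) ^ n
  | 0 => by rw [pow_zero, pow_zero, cl_idealMod_one]
  | n + 1 => by rw [pow_succ, pow_succ, cl_idealMod_mul (isEffCartier_pow hI n) hI, cl_idealMod_pow hI n]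

variable {R : Type u} [CommRing R] [IsDedekindDomain R]

theorem stk_comap_span (π : R) {X : Scheme.{u}} (f : X ⟶ Spec (CommRingCat.of R)) (V : X.affineOpens) {x : X}
    (hx : x ∈ V.1) :
    stk ((Curv2.idealSheaf R (Ideal.span {π})).comap f) V hx = Ideal.span {rho f x π} := by
  rw [stk, ModPairLib.ideal_comap _ f (⟨⊤, isAffineOpen_top _⟩ : (Spec (CommRingCat.of R)).affineOpens) V le_top,
    Curv2.idealSheaf, Scheme.IdealSheafData.ofIdealTop_ideal, Ideal.map_map, Ideal.map_map, Ideal.map_map,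
    Ideal.map_span, Set.image_singleton]
  congr 2
  simp only [RingHom.comp_apply, Scheme.Hom.appLE, CommRingCat.comp_apply, TopCat.Presheaf.germ_res_apply]
  rfl

theorem isEffCartier_span {π : R} (hπ : π ≠ 0) : BlowUp.IsEffCartierIdeal (Curv2.idealSheaf R (Ideal.span {π})) := by
  intro y
  refine ⟨(⟨⊤, isAffineOpen_top _⟩ : (Spec (CommRingCat.of R)).affineOpens), trivial,
    (Scheme.ΓSpecIso (CommRingCat.of R)).inv π, ?_, ?_⟩
  · refine mem_nonZeroDivisors_of_ne_zero fun h => hπ ?_
    exact (Scheme.ΓSpecIso (CommRingCat.of R)).symm.commRingCatIsoToRingEquiv.injective (h.trans (map_zero _).symm)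
  · rw [Curv2.idealSheaf, Scheme.IdealSheafData.ofIdealTop_ideal, Ideal.map_map, Ideal.map_span, Set.image_singleton]
    congr 2

variable {X : Over (Spec (CommRingCat.of R))}

/-- An exceptional curve in a closed fibre meets another curve of that fibre. -/
theorem exists_other_of_excCurve (hX : ArSurf.IsArithSurface R X) {E : Scheme.{u}} (ι : E ⟶ X.left)
    [IsClosedImmersion ι] (hE : Models.IsExcCurve ι) {s : Spec (CommRingCat.of R)}
    (hs : s.asIdeal ≠ ⊥) (hr : ∀ c, X.hom.base (ι c) = s) :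
    ∃ ξ ξ' w : X.left, X.hom.base ξ = s ∧ X.hom.base ξ' = s ∧ ξ ⤳ w ∧ ξ ≠ w ∧ ξ' ⤳ w ∧ ξ' ≠ w ∧ ξ' ≠ ξ := by
  haveI := hX.2.1; haveI := hX.2.2.2.1
  haveI := isProper_of_isArithSurface hX
  haveI : IsLocallyNoetherian X.left := LocallyOfFiniteType.isLocallyNoetherian X.hom
  have hreg := hX.1
  have hdim := hX.2.2.1.le
  obtain ⟨hK, k, hk, e, ⟨α⟩⟩ := hE
  letI := hk
  haveI : IsIntegral (CohB1.ProjSpace 1 k) := H23.PnChart.isIntegral_projSpace 1 k
  haveI : Nonempty E := ⟨e.hom (genericPoint _)⟩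
  haveI : IsIntegral E := isIntegral_of_isOpenImmersion e.inv
  have hdimE : topologicalKrullDim E = 1 := by
    rw [← e.hom.homeomorph.isHomeomorph.topologicalKrullDim_eq]
    simpa using S10829.result k 1
  obtain ⟨a, b, hab, hne⟩ := exists_specializes_ne_of_dim_pos (Y := E) (by rw [hdimE]; exact zero_lt_one)
  let ξ := ι (genericPoint E)
  have hgen : IsGenericPoint ξ (Set.range ι) := by
    have h := (genericPoint_spec E).image ι.continuous
    rwa [Set.image_univ, ι.isClosedEmbedding.isClosed_range.closure_eq] at h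
  have hξs : X.hom.base ξ = s := hr _
  have hξ0 : (X.hom.base ξ).asIdeal ≠ ⊥ := hξs ▸ hs
  have hξb : ξ ⤳ ι b := hgen.specializes ⟨b, rfl⟩
  have hξne : ξ ≠ ι b := fun h => hne (by
    have hb : genericPoint E = b := ι.isClosedEmbedding.injective h
    exact (hab.antisymm (hb ▸ genericPoint_specializes a)).eq)
  by_contra hcon
  push Not at hcon
  have hd : ringKrullDim (X.left.presheaf.stalk ξ) = 1 := by
    rw [ringKrullDim_stalk_eq_coheight]
    have h1 : Order.coheight ξ = 1 := by
      refine le_antisymm ?_ (Order.one_le_iff_pos.2 (Order.coheight_pos.2 fun h => ne_genericPoint X.hom hξ0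
        ((genericPoint_specializes ξ).antisymm (Scheme.le_iff_specializes.1 (h (Scheme.le_iff_specializes.2
          (genericPoint_specializes ξ))))).eq))
      rw [← Nat.cast_one, Order.coheight_le_coe_iff]
      intro y hy
      have : Order.coheight y = 0 := by
        rw [Order.coheight_eq_zero]
        intro w hw
        refine Scheme.le_iff_specializes.2 ?_
        by_cases e' : y = genericPoint X.left
        · exact e' ▸ genericPoint_specializes w
        · exact absurd (middle_eq_of_chain hdim (genericPoint_specializes y) (Ne.symm e')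
            (Scheme.le_iff_specializes.1 hy.le) hξb hξne) hy.ne'
      rw [this]
      exact Nat.cast_pos.2 one_pos
    rw [h1]
    rfl
  have hsupp : (ι.ker.support : Set X.left) = Set.range ι := by
    rw [Scheme.Hom.support_ker, ι.isClosedEmbedding.isClosed_range.closure_eq]
  obtain ⟨π, hπs, hπ0⟩ := Submodule.exists_mem_ne_zero_of_ne_bot hs
  set D := (Curv2.idealSheaf R (Ideal.span {π})).comap X.hom
  have hπη : π ∉ (X.hom.base (genericPoint X.left)).asIdeal := by
    rw [asIdeal_eq_bot_genericPoint X.hom, Ideal.mem_bot]; exact hπ0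
  have hDsupp : ∀ x, x ∈ (D.support : Set X.left) ↔ π ∈ (X.hom.base x).asIdeal := fun x => by
    obtain ⟨V, hV⟩ := exists_affine x
    rw [CDivEq.mem_support_iff _ V hV, stk_comap_span, Ne, Ideal.span_singleton_eq_top, ← mem_nonunits_iff,
      ← mem_maximalIdeal, rho_mem_maximalIdeal_iff]
  have hD : BlowUp.IsEffCartierIdeal D := by
    refine isEffCartier_comap_of_not_mem X.hom (isEffCartier_span hπ0) fun h => hπη ?_
    refine (hDsupp _).1 ?_
    rw [Scheme.IdealSheafData.support_comap]
    exact h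
  haveI := hreg ξ
  haveI := (RegUFD.ufd (X.left.presheaf.stalk ξ)).1
  haveI := (RegUFD.ufd (X.left.presheaf.stalk ξ)).2
  haveI := CDiv6.isDVR_of_dim_eq_one _ hd
  obtain ⟨W, hW⟩ := exists_affine ξ
  obtain ⟨ϖ, hϖ⟩ := IsDiscreteValuationRing.exists_irreducible (X.left.presheaf.stalk ξ)
  have hKne : stk ι.ker W hW ≠ ⊤ := (CDivEq.mem_support_iff _ W hW).1 (by rw [hsupp]; exact ⟨_, rfl⟩)
  have hrad : (stk ι.ker W hW).IsRadical := by
    have h1 : (ι.ker.ideal W).radical = ι.ker.ideal W := by
      conv_rhs => rw [ker_eq_vanishingIdeal ι, Scheme.IdealSheafData.vanishingIdeal_support,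
        Scheme.IdealSheafData.radical_ideal]
    letI := X.left.presheaf.algebra_section_stalk (U := W.1) ⟨_, hW⟩
    haveI := W.2.isLocalization_stalk ⟨_, hW⟩
    show ((ι.ker.ideal W).map (algebraMap Γ(X.left, W.1) _)).IsRadical
    rw [← Ideal.radical_eq_iff, ← IsLocalization.map_radical
      (W.2.primeIdealOf ⟨_, hW⟩).asIdeal.primeCompl, h1]
  have hKmax : stk ι.ker W hW = maximalIdeal _ := by
    obtain ⟨g, hg, hgen'⟩ := CDivEq.exists_gen _ hK W hW
    obtain ⟨n, hn⟩ := IsDiscreteValuationRing.ideal_eq_span_pow_irreducible (s := stk ι.ker W hW) (by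
      rw [hgen', Ne, Ideal.span_singleton_eq_bot]; exact nonZeroDivisors.ne_zero hg) hϖ
    rw [hn, ← Ideal.span_singleton_pow, ← hϖ.maximalIdeal_eq] at hKne hrad ⊢
    rcases n with _ | n
    · simp at hKne
    · exact le_antisymm (Ideal.pow_le_self (Nat.succ_ne_zero n)) fun c hc => hrad ⟨n + 1, Ideal.pow_mem_pow hc _⟩
  obtain ⟨g, hg, hDgen⟩ := CDivEq.exists_gen _ hD W hW
  obtain ⟨m, hm⟩ := IsDiscreteValuationRing.ideal_eq_span_pow_irreducible (s := stk D W hW) (by
      rw [hDgen, Ne, Ideal.span_singleton_eq_bot]; exact nonZeroDivisors.ne_zero hg) hϖ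
  rw [← Ideal.span_singleton_pow, ← hϖ.maximalIdeal_eq] at hm
  have hm0 : m ≠ 0 := fun h => (CDivEq.mem_support_iff _ W hW).1 ((hDsupp ξ).2 (by rw [hξs]; exact hπs))
    (by rw [hm, h, pow_zero, Ideal.one_eq_top])
  have hle : D ≤ ι.ker ^ m := le_of_stk_codim_one hreg hD (isEffCartier_pow hK m) fun y V hy hyd => by
    rw [stk_pow]
    by_cases hyT : y ∈ Set.range ι
    · obtain rfl : y = ξ := by
        by_contra hne'
        have h1 := two_le_coheight X.hom hξ0 (hgen.specializes hyT) (Ne.symm hne')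
        rw [ringKrullDim_stalk_eq_coheight] at hyd
        rw [show Order.coheight y = 1 by exact_mod_cast hyd] at h1
        exact absurd h1 (by decide)
      rw [CDivEq.stk_congr D V W hy hW, CDivEq.stk_congr ι.ker V W hy hW, hKmax, hm]
    · rw [stk_eq_top_of_notMem ι.ker V hy (by rw [← SetLike.mem_coe, hsupp]; exact hyT), Ideal.top_pow]
      exact le_top
  set E' := ModPairLib.colon D (ι.ker ^ m) (ModPairLib.isLocPrincipal_of_isEffCartier (isEffCartier_pow hK m))
  have hEJ : E' * ι.ker ^ m = D := ModPairLib.colon_mul (isEffCartier_pow hK m) hle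
  have hE' : BlowUp.IsEffCartierIdeal E' :=
    ModPairLib.isEffCartier_of_mul (isEffCartier_pow hK m) (hEJ.symm ▸ hD)
  have hξE' : ξ ∉ E'.support := fun h => by
    have h1 : stk (E' * ι.ker ^ m) W hW = stk D W hW := by rw [hEJ]
    rw [stk_mul, stk_pow, hKmax, hm] at h1
    refine pow_ne_zero m (IsDiscreteValuationRing.not_a_field _ : maximalIdeal (X.left.presheaf.stalk ξ) ≠ ⊥) ?_
    exact Submodule.eq_bot_of_le_smul_of_le_jacobson_bot (stk E' W hW) _ (IsNoetherian.noetherian _)
      h1.ge ((le_maximalIdeal ((CDivEq.mem_support_iff _ W hW).1 h)).trans (IsLocalRing.maximalIdeal_le_jacobson _))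
  have hdisj : ∀ c, ι c ∉ E'.support := fun c hc => by
    set w := ι c with hw
    obtain ⟨V, hV⟩ := exists_affine w
    obtain ⟨g', hg', hEgen⟩ := CDivEq.exists_gen _ hE' V hV
    have hne' : stk E' V hV ≠ ⊤ := (CDivEq.mem_support_iff _ V hV).1 hc
    haveI := hreg w
    haveI := (RegUFD.ufd (X.left.presheaf.stalk w)).1
    obtain ⟨P, hP, -⟩ := Ideal.exists_minimalPrimes_le (le_maximalIdeal hne')
    haveI := hP.1.1
    rw [hEgen] at hP
    have hP1 := Ideal.height_le_one_of_isPrincipal_of_mem_minimalPrimes (Ideal.span {g'}) _ hP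
    have hg'P : g' ∈ P := hP.1.2 (Ideal.mem_span_singleton_self g')
    have hP0 : P.height ≠ 0 := fun h0 => by
      haveI : (⊥ : Ideal (X.left.presheaf.stalk w)).IsPrime := Ideal.isPrime_bot
      have h5 := Ideal.height_strict_mono_of_isPrime (J := P) (bot_lt_iff_ne_bot.2 fun h => by
        rw [h, Ideal.mem_bot] at hg'P; exact nonZeroDivisors.ne_zero hg' hg'P)
      rw [h0] at h5
      exact not_lt_bot h5
    obtain ⟨y, hyw, hpy⟩ := H23.StalkPrimes.exists_point P
    have hyV : y ∈ V.1 := hyw.mem_open V.1.isOpen hV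
    have hyd : ringKrullDim (X.left.presheaf.stalk y) = 1 := by
      letI := (X.left.presheaf.stalkSpecializes hyw).hom.toAlgebra
      haveI : IsLocalization.AtPrime (X.left.presheaf.stalk y) P := by
        have := H23.StalkPrimes.isLocalization_primeOf hyw
        simp only [IsLocalization.AtPrime, hpy] at this ⊢
        exact this
      rw [IsLocalization.AtPrime.ringKrullDim_eq_height P (X.left.presheaf.stalk y),
        le_antisymm hP1 (Order.one_le_iff_pos.2 (pos_iff_ne_zero.2 hP0))]
      rfl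
    have hyE : y ∈ (E'.support : Set X.left) := by
      rw [CDivEq.mem_support_iff _ V hyV]
      have e1 : stk E' V hyV = (stk E' V hV).map (X.left.presheaf.stalkSpecializes hyw).hom := by
        rw [stk, stk, Ideal.map_map, ← CommRingCat.hom_comp, X.left.presheaf.germ_stalkSpecializes]
      rw [e1, hEgen, Ideal.map_span, Set.image_singleton, Ne, Ideal.span_singleton_eq_top]
      exact fun hu => (CDiv6.mem_primeOf hyw g').1 (by rw [hpy]; exact hg'P) hu
    have hyπ : π ∈ (X.hom.base y).asIdeal := by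
      refine (hDsupp y).1 ((CDivEq.mem_support_iff _ V hyV).2 fun h => (CDivEq.mem_support_iff _ V hyV).1 hyE ?_)
      rw [← hEJ, stk_mul] at h
      exact eq_top_iff.2 (h ▸ Ideal.mul_le_left)
    have hy0 : (X.hom.base y).asIdeal ≠ ⊥ := fun h => hπ0 (by rwa [h, Ideal.mem_bot] at hyπ)
    have hys : X.hom.base y = s := (eq_of_base_specializes (hyw.map X.hom.continuous) hy0).trans (hr c)
    have hξw : ξ ≠ w := fun h => hξE' (show ξ ∈ E'.support from h ▸ hc)
    have hyw' : y ≠ w := fun h => by
      have h1 := two_le_coheight X.hom hξ0 (hgen.specializes ⟨c, rfl⟩) hξw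
      rw [ringKrullDim_stalk_eq_coheight, h] at hyd
      rw [show Order.coheight w = 1 by exact_mod_cast hyd] at h1
      exact absurd h1 (by decide)
    have hyξ := hcon ξ y w hξs hys (hgen.specializes ⟨c, rfl⟩) hξw hyw hyw'
    exact hξE' (hyξ ▸ hyE)
  -- pull back to the curve
  let j := e.hom ≫ ι
  have hjK : (PicF.cl (ClSub.idealMod ι.ker)) ^ m * PicF.cl (ClSub.idealMod E') = PicF.cl (ClSub.idealMod D) := by
    rw [← cl_idealMod_pow hK, ← cl_idealMod_mul (isEffCartier_pow hK m) hE', mul_comm (ι.ker ^ m), hEJ]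
  have htw : pullHom j (PicF.cl (ClSub.idealMod ι.ker)) = PicF.cl (Twist.twistProjSpace 1 k 1) :=
    cl_eq_iff.2 ⟨α⟩
  have hE'1 : pullHom j (PicF.cl (ClSub.idealMod E')) = 1 := by
    have htop : E'.comap j = 1 := by
      refine Scheme.IdealSheafData.ext (funext fun V => ?_)
      rw [CDivEq.ideal_eq_top _ _ (Set.disjoint_left.2 fun q hq _ => hdisj (e.hom q) (by
        rw [Scheme.IdealSheafData.support_comap] at hq
        exact hq))]
      simp
    obtain ⟨φ⟩ := nonempty_pullback_idealMod j E' hE' (htop ▸ isEffCartier_one)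
    refine (cl_eq_iff.2 ⟨φ⟩).trans ?_
    rw [htop, cl_idealMod_one]
  have hD1 : pullHom j (PicF.cl (ClSub.idealMod D)) = 1 := by
    obtain ⟨φ⟩ := nonempty_pullback_idealMod X.hom _ (isEffCartier_span hπ0) hD
    obtain ⟨ψ⟩ := pullback_trivial_of_range_subset (j ≫ X.hom) (SurfInt.isInvertible_idealMod (isEffCartier_span hπ0))
      (y := s) (by rintro _ ⟨q, rfl⟩; exact hr _)
    rw [H23.PicMul.one_def]
    exact cl_eq_iff.2 ⟨(Scheme.Modules.pullback j).mapIso φ.symm ≪≫
      (Scheme.Modules.pullbackComp j X.hom).app _ ≪≫ ψ⟩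
  have h := congrArg (pullHom j) hjK
  rw [map_mul, map_pow, htw, hE'1, mul_one, hD1] at h
  exact pow_twist_ne_one k hm0 h

end Groth.Agent.ArSurfBase
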