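import Groth.Agent.ResSurf.BlowP1

/-! # The exceptional divisor as a projective space over the centre

`exists_iso_exceptional` of `ResSurf.BlowP1`, remembering the structure map to the centre. -/

universe u

open CategoryTheory AlgebraicGeometry HomogeneousLocalization MvPolynomial TopologicalSpace Opposite
open scoped HomogeneousIdeal

set_option backward.isDefEq.respectTransparency false
set_option backward.isDefEq.respectTransparency.types false

namespace Groth.Agent.ArSurfBase

open Groth.Agent
open BlowUpLib ResSurf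

variable {A : Type u} [CommRing A] {n : ℕ} {x : Fin (n + 1) → A} {T : Scheme.{u}}

theorem fibreMap_toBase (hx : IsQuasiReg x) :
    fibreMap hx ≫ toBase (seqIdeal x) = CohB1.ProjSpace.toSpec n (A ⧸ seqIdeal x) ≫
      Spec.map (CommRingCat.ofHom (Ideal.Quotient.mk (seqIdeal x))) := by
  refine (Proj.mapAffineOpenCover _ (irrelevant_le_map_reesToFibre hx)).openCover.hom_ext _ _ fun s => ?_
  simp only [Scheme.AffineOpenCover.openCover_f, Proj.mapAffineOpenCover_f, fibreMap, toBase,
    CohB1.ProjSpace.toSpec]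
  rw [Category.assoc, Proj.awayι_comp_map_assoc (reesToFibre hx) (irrelevant_le_map_reesToFibre hx) s.1.2 _ s.2.2,
    Proj.awayι_toSpecZero_assoc, Proj.awayι_toSpecZero_assoc]
  rw [← Spec.map_comp, ← Spec.map_comp, ← Spec.map_comp, ← Spec.map_comp]
  congr 1
  ext c
  simp only [CommRingCat.hom_comp, CommRingCat.hom_ofHom, RingHom.comp_apply]
  simp only [fromZeroRingHom, RingHom.coe_mk, MonoidHom.coe_mk, OneHom.coe_mk, Away.map, HomogeneousLocalization.map_mk, HomogeneousLocalization.val_mk]
  congr 1
  · exact reesToFibre_algebraMap hx c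
  · exact Subtype.ext (map_one _)

/-- The exceptional divisor is a projective space over `A/I` with conormal sheaf `O(1)`. -/
theorem exists_iso_exceptional_over (hx : IsQuasiReg x) (b : T ⟶ Spec (CommRingCat.of A))
    (σ : T ⟶ localBlowUp (seqIdeal x)) [IsIso σ] (hσ : σ ≫ toBase (seqIdeal x) = b)
    (hE : BlowUp.IsEffCartierIdeal (BlowUp.exceptional b (centre (seqIdeal x)))) :
    ∃ e : CohB1.ProjSpace n (A ⧸ seqIdeal x) ≅ (BlowUp.exceptional b (centre (seqIdeal x))).subscheme,
      e.hom ≫ (BlowUp.exceptional b (centre (seqIdeal x))).subschemeι ≫ b =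
        CohB1.ProjSpace.toSpec n (A ⧸ seqIdeal x) ≫
          Spec.map (CommRingCat.ofHom (Ideal.Quotient.mk (seqIdeal x))) ∧
      Nonempty ((Scheme.Modules.pullback
          (e.hom ≫ (BlowUp.exceptional b (centre (seqIdeal x))).subschemeι)).obj
          (ClSub.idealMod (BlowUp.exceptional b (centre (seqIdeal x)))) ≅
        Twist.twistProjSpace n (A ⧸ seqIdeal x) 1) := by
  set E := BlowUp.exceptional b (centre (seqIdeal x)) with hEdef
  let j : CohB1.ProjSpace n (A ⧸ seqIdeal x) ⟶ T := fibreMap hx ≫ inv σ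
  have hj : E.subschemeι.ker = j.ker := by
    rw [Scheme.IdealSheafData.ker_subschemeι, Scheme.Hom.ker_comp, ker_fibreMap hx, hEdef,
      BlowUp.exceptional, ← hσ, Scheme.IdealSheafData.comap_comp]
    set J := (centre (seqIdeal x)).comap (toBase (seqIdeal x))
    refine le_antisymm ?_ ?_
    · rw [Scheme.IdealSheafData.le_map_iff_comap_le, ← Scheme.IdealSheafData.comap_comp,
        IsIso.inv_hom_id, Scheme.IdealSheafData.comap_id]
    · calc J.map (inv σ) = ((J.map (inv σ)).comap (inv σ)).comap σ := by
            rw [← Scheme.IdealSheafData.comap_comp, IsIso.hom_inv_id, Scheme.IdealSheafData.comap_id]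
        _ ≤ J.comap σ := Scheme.IdealSheafData.comap_mono _ (Scheme.IdealSheafData.comap_map_le _ _)
  have : IsIso (IsClosedImmersion.lift E.subschemeι j hj.le) := IsClosedImmersion.isIso_lift _ _ hj
  refine ⟨asIso (IsClosedImmersion.lift E.subschemeι j hj.le), ?_, ?_⟩
  · rw [asIso_hom, IsClosedImmersion.lift_fac_assoc, ← fibreMap_toBase hx, ← hσ]
    simp only [j, Category.assoc, IsIso.inv_hom_id_assoc]
  rw [asIso_hom, IsClosedImmersion.lift_fac]
  obtain ⟨e₁⟩ := nonempty_pullback_twist_exceptional x b σ hσ hE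
  let χ := (reesToFibre hx).comp (polyToRees x)
  let hχ : (CohB1.polyGrading n (A ⧸ seqIdeal x))₊ ≤ ((CohB1.polyGrading n A)₊).map χ :=
    irrelevant_le_map_of_surjective χ fun q => by
      obtain ⟨p, rfl⟩ := reesToFibre_surjective hx q
      obtain ⟨P, rfl⟩ := polyToRees_surjective x p
      exact ⟨P, rfl⟩
  have hjr : j ≫ σ ≫ polyMap x = Proj.map χ hχ := by
    simp only [j, Category.assoc, IsIso.inv_hom_id_assoc, fibreMap, polyMap]
    exact (Proj.map_comp (polyToRees x) (reesToFibre hx) (irrelevant_le_map_polyToRees x)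
      (irrelevant_le_map_reesToFibre hx)).symm
  refine ⟨(Scheme.Modules.pullback j).mapIso e₁.symm ≪≫ (Scheme.Modules.pullbackComp j (σ ≫ polyMap x)).app _ ≪≫
    (Scheme.Modules.pullbackCongr hjr).app _ ≪≫ Nonempty.some ?_⟩
  refine nonempty_pullback_twist_one_iso (N := Twist.twistProjSpace n (A ⧸ seqIdeal x) 1)
    (CohB1.polyGrading n A) (Proj.map χ hχ) (fun i : ULift.{u} (Fin (n + 1)) => X i.down)
    (fun i => isHomogeneous_X A i.down) (fun p => ?_)
    (fun i => Twist.globalOf (CohB1.polyGrading n (A ⧸ seqIdeal x))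
      ⟨χ (X i.down), Graded.map_mem χ (isHomogeneous_X A i.down)⟩)
    (fun i => TwistX.isFrame_res_globalOf (Graded.map_mem χ (isHomogeneous_X A i.down)) fun y => y.2)
    fun i k => ?_
  · have hcov : (⨆ i : Fin (n + 1), Proj.basicOpen (CohB1.polyGrading n (A ⧸ seqIdeal x)) (χ (X i))) = ⊤ :=
      Proj.iSup_basicOpen_eq_top' _ _ (fun i => ⟨1, Graded.map_mem χ (isHomogeneous_X A i)⟩) (by
        rw [eq_top_iff]
        intro P _
        have hχX : ∀ i, χ (X i) = X i := fun i => by
          show reesToFibre hx (polyToRees x (X i)) = X i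
          rw [reesToFibre_polyToRees, map_X]
        simp only [hχX]
        induction P using MvPolynomial.induction_on with
        | C c => exact Subalgebra.algebraMap_mem _ (⟨C c, isHomogeneous_C _ c⟩ : CohB1.polyGrading n (A ⧸ seqIdeal x) 0)
        | add p q hp hq => exact add_mem (hp trivial) (hq trivial)
        | mul_X p i hp => exact mul_mem (hp trivial) (Algebra.subset_adjoin ⟨i, rfl⟩))
    obtain ⟨i, hi⟩ := TopologicalSpace.Opens.mem_iSup.1 (hcov.ge (Set.mem_univ p))
    exact ⟨⟨i⟩, hi⟩
  · have h := congr($(Proj.awayToSection_comp_appLE χ hχ (isHomogeneous_X A i.down))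
      (Away.mk (CohB1.polyGrading n A) (isHomogeneous_X A i.down) 1 (X k.down)
        (by simpa using isHomogeneous_X A k.down)))
    simp only [CommRingCat.hom_comp, CommRingCat.hom_ofHom, RingHom.comp_apply] at h
    refine (res_globalOf_eq (CohB1.polyGrading n (A ⧸ seqIdeal x))
      (Graded.map_mem χ (isHomogeneous_X A i.down)) (Graded.map_mem χ (isHomogeneous_X A k.down))).trans
      (congrArg (· • _) ?_)
    refine Eq.trans ?_ (h.symm.trans ?_)
    · exact (congrArg _ (Away.map_mk χ _ (isHomogeneous_X A i.down) 1 (X k.down) _)).symm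
    · rw [Scheme.Hom.app_eq_appLE]
      rfl

end Groth.Agent.ArSurfBase
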