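import Groth.Agent.ArSurfBase.ExcP1
import Groth.Agent.ArSurfBase.BlowPoint
import Groth.Agent.ArSurfBase.PullIdeal
import Groth.Agent.H23.RatExtend
import Groth.Agent.ResSurf.ReesPoly
import Mathlib.RingTheory.Flat.FaithfullyFlat.Algebra

/-! # The exceptional divisor of the blowing up of a regular point of dimension two -/

set_option autoImplicit false
set_option linter.style.haveILetI false
set_option linter.unusedSectionVars false
set_option backward.isDefEq.respectTransparency false
set_option backward.isDefEq.respectTransparency.types false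

universe u

open CategoryTheory CategoryTheory.Limits AlgebraicGeometry IsLocalRing TopologicalSpace

namespace Groth.Agent.ArSurfBase

open Groth.Agent.CDivEq (stk)

/-- A flat preimmersion that is surjective is an isomorphism. -/
theorem isIso_of_flat_preimmersion {X Y : Scheme.{u}} (f : X ⟶ Y) [IsPreimmersion f] [Flat f]
    (hs : Function.Surjective f) : IsIso f := by
  haveI hiso : ∀ x, IsIso (f.stalkMap x) := fun x => by
    rw [ConcreteCategory.isIso_iff_bijective]
    refine ⟨?_, f.stalkMap_surjective x⟩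
    letI := (f.stalkMap x).hom.toAlgebra
    haveI : Module.Flat (Y.presheaf.stalk (f x)) (X.presheaf.stalk x) := Flat.stalkMap f x
    haveI : IsLocalHom (algebraMap (Y.presheaf.stalk (f x)) (X.presheaf.stalk x)) := f.toLRSHom.prop x
    haveI : Module.FaithfullyFlat (Y.presheaf.stalk (f x)) (X.presheaf.stalk x) :=
      Module.FaithfullyFlat.of_flat_of_isLocalHom
    exact FaithfulSMul.algebraMap_injective (Y.presheaf.stalk (f x)) (X.presheaf.stalk x)
  haveI : IsOpenImmersion f :=
    IsOpenImmersion.of_isIso_stalkMap f ⟨f.isEmbedding, by rw [hs.range_eq]; exact isOpen_univ⟩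
  haveI : Surjective f := ⟨hs⟩
  exact (isIso_iff_isOpenImmersion_and_surjective f).2 ⟨inferInstance, inferInstance⟩

variable {Y Y' : Scheme.{u}}

theorem comap_fromSpecStalk_point {y : Y} (hy : IsClosed ({y} : Set Y)) :
    (Scheme.IdealSheafData.vanishingIdeal ⟨{y}, hy⟩).comap (Y.fromSpecStalk y) =
      BlowUpLib.centre (maximalIdeal (Y.presheaf.stalk y)) := by
  obtain ⟨U, hU⟩ := exists_affine y
  rw [← U.2.fromSpecStalk_eq_fromSpecStalk hU, IsAffineOpen.fromSpecStalk, Scheme.IdealSheafData.comap_comp,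
    BlowUpLib.comap_fromSpec, ← CommRingCat.ofHom_hom (Y.presheaf.germ _ _ _)]
  refine (CIntLib.centre_comap_specMap _ _).trans (congrArg _ ?_)
  exact stk_vanishingIdeal_point hy U hU

/-- The exceptional divisor is the projective line over the residue field, with conormal sheaf `O(1)`. -/
theorem exists_exceptional [IsLocallyNoetherian Y] {y : Y} (hy : IsClosed ({y} : Set Y))
    (hreg : IsRegularLocalRing (Y.presheaf.stalk y)) (hd : ringKrullDim (Y.presheaf.stalk y) = 2)
    (π : Y' ⟶ Y) (hπ : BlowUp.IsBlowUp π (Scheme.IdealSheafData.vanishingIdeal ⟨{y}, hy⟩)) :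
    ∃ e : CohB1.ProjSpace 1 (Y.residueField y) ≅
        ((Scheme.IdealSheafData.vanishingIdeal ⟨{y}, hy⟩).comap π).subscheme,
      e.hom ≫ ((Scheme.IdealSheafData.vanishingIdeal ⟨{y}, hy⟩).comap π).subschemeι ≫ π =
        CohB1.ProjSpace.toSpec 1 (Y.residueField y) ≫ Y.fromSpecResidueField y ∧
      Nonempty ((Scheme.Modules.pullback
          (e.hom ≫ ((Scheme.IdealSheafData.vanishingIdeal ⟨{y}, hy⟩).comap π).subschemeι)).obj
          (ClSub.idealMod ((Scheme.IdealSheafData.vanishingIdeal ⟨{y}, hy⟩).comap π)) ≅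
        Twist.twistProjSpace 1 (Y.residueField y) 1) := by
  set I := Scheme.IdealSheafData.vanishingIdeal (⟨{y}, hy⟩ : Closeds Y)
  set J := I.comap π
  let q := Y.fromSpecStalk y
  haveI : Flat q := H23.RatExtend.flat_fromSpecStalk Y y
  let p := pullback.fst π q
  let b := pullback.snd π q
  have hI := comap_fromSpecStalk_point hy
  have hb : BlowUp.IsBlowUp b (BlowUpLib.centre (maximalIdeal (Y.presheaf.stalk y))) :=
    hI ▸ BlowUpLib.isBlowUp_of_isPullback (IsPullback.of_hasPullback π q).flip hπ
  obtain ⟨x, hx, hxm⟩ := ResSurf.exists_isQuasiReg_pair (Y.presheaf.stalk y) hd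
  have hK : BlowUp.exceptional b (BlowUpLib.centre (maximalIdeal (Y.presheaf.stalk y))) = J.comap p := by
    refine (congrArg (fun C => Scheme.IdealSheafData.comap C b) hI.symm).trans ?_
    rw [← Scheme.IdealSheafData.comap_comp, ← Scheme.IdealSheafData.comap_comp, pullback.condition]
  have key : ∀ M : Ideal (Y.presheaf.stalk y), M = ResSurf.seqIdeal x →
      BlowUp.IsBlowUp b (BlowUpLib.centre M) →
      ∀ K, K = BlowUp.exceptional b (BlowUpLib.centre M) →
      ∃ e : CohB1.ProjSpace 1 (Y.presheaf.stalk y ⧸ M) ≅ K.subscheme,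
        e.hom ≫ K.subschemeι ≫ b = CohB1.ProjSpace.toSpec 1 (Y.presheaf.stalk y ⧸ M) ≫
            Spec.map (CommRingCat.ofHom (Ideal.Quotient.mk M)) ∧
          Nonempty ((Scheme.Modules.pullback (e.hom ≫ K.subschemeι)).obj (ClSub.idealMod K) ≅
            Twist.twistProjSpace 1 (Y.presheaf.stalk y ⧸ M) 1) := by
    rintro M rfl hM K rfl
    obtain ⟨σ, hσ⟩ := BlowUpLib.exists_iso hM (BlowUpLib.isBlowUp_local _)
    exact exists_iso_exceptional_over hx b σ.hom hσ hM.1
  obtain ⟨e, he, ⟨α⟩⟩ := key _ hxm.symm hb _ hK.symm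
  haveI : IsPreimmersion p := inferInstanceAs (IsPreimmersion (pullback.fst π q))
  haveI : Flat p := inferInstanceAs (Flat (pullback.fst π q))
  haveI : IsIso (pullback.snd p J.subschemeι) := by
    refine isIso_of_flat_preimmersion _ (Set.range_eq_univ.1 (Set.eq_univ_of_forall fun c => ?_))
    rw [Scheme.Pullback.range_snd, Set.mem_preimage, Scheme.Pullback.range_fst]
    refine ⟨closedPoint (Y.presheaf.stalk y), ?_⟩
    have h1 : J.subschemeι c ∈ Set.range J.subschemeι := ⟨c, rfl⟩
    rw [Scheme.IdealSheafData.range_subschemeι] at h1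
    have h2 : J.subschemeι c ∈ (J.support : Set Y') := h1
    rw [Scheme.IdealSheafData.support_comap] at h2
    have h3 : π (J.subschemeι c) ∈ (I.support : Set Y) := h2
    rw [Scheme.fromSpecStalk_closedPoint]
    simpa [I] using Eq.symm (show π (J.subschemeι c) = y by simpa [I] using h3)
  let e' : CohB1.ProjSpace 1 (Y.residueField y) ≅ J.subscheme :=
    e ≪≫ J.comapIso p ≪≫ asIso (pullback.snd p J.subschemeι)
  have he' : e'.hom ≫ J.subschemeι = (e.hom ≫ (J.comap p).subschemeι) ≫ p := by
    simp only [e', Iso.trans_hom, asIso_hom, Category.assoc]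
    rw [← pullback.condition, Scheme.IdealSheafData.comapIso_hom_fst_assoc]
  refine ⟨e', ?_, ?_⟩
  · calc e'.hom ≫ J.subschemeι ≫ π = ((e.hom ≫ (J.comap p).subschemeι) ≫ p) ≫ π := by
          rw [← he', Category.assoc]
      _ = (e.hom ≫ (J.comap p).subschemeι ≫ b) ≫ q := by
          simp only [Category.assoc, p, b, pullback.condition]
      _ = _ := (congrArg (· ≫ q) he).trans (Category.assoc _ _ _)
  · obtain ⟨ψ⟩ := nonempty_pullback_idealMod p J hπ.1 (hK ▸ hb.1)
    exact ⟨(Scheme.Modules.pullbackCongr he').app _ ≪≫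
      ((Scheme.Modules.pullbackComp (e.hom ≫ (J.comap p).subschemeι) p).app _).symm ≪≫
      (Scheme.Modules.pullback _).mapIso ψ ≪≫ α⟩

end Groth.Agent.ArSurfBase
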