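import Groth.Agent.ArSurfBase.Decomp

/-! # The intersection form on vertical prime divisors -/

set_option autoImplicit false
set_option linter.style.haveILetI false
set_option linter.unusedSectionVars false
set_option backward.isDefEq.respectTransparency false
set_option backward.isDefEq.respectTransparency.types false

universe u

open CategoryTheory CategoryTheory.Limits AlgebraicGeometry IsLocalRing

namespace Groth.Agent.ArSurfBase

theorem quad_identity {ι : Type*} [Fintype ι] (B : ι → ι → ℚ) (hB : ∀ i j, B i j = B j i) (m b : ι → ℚ) :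
    ∑ i, ∑ j, (m i * b i) * (m j * b j) * B i j =
      ∑ i, m i * b i ^ 2 * ∑ j, m j * B i j - (∑ i, ∑ j, m i * m j * B i j * (b i - b j) ^ 2) / 2 := by
  have h1 : ∑ i, ∑ j, m i * m j * B i j * b j ^ 2 = ∑ i, ∑ j, m i * m j * B i j * b i ^ 2 := by
    rw [Finset.sum_comm]
    refine Finset.sum_congr rfl fun i _ => Finset.sum_congr rfl fun j _ => ?_
    rw [hB]; ring
  have h2 : ∑ i, ∑ j, m i * m j * B i j * (b i - b j) ^ 2 =
      ∑ i, ∑ j, m i * m j * B i j * b i ^ 2 + ∑ i, ∑ j, m i * m j * B i j * b j ^ 2 -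
        2 * ∑ i, ∑ j, (m i * b i) * (m j * b j) * B i j := by
    simp only [Finset.mul_sum, ← Finset.sum_add_distrib, ← Finset.sum_sub_distrib]
    exact Finset.sum_congr rfl fun i _ => Finset.sum_congr rfl fun j _ => by ring
  have h3 : ∑ i, m i * b i ^ 2 * ∑ j, m j * B i j = ∑ i, ∑ j, m i * m j * B i j * b i ^ 2 := by
    simp only [Finset.mul_sum]
    exact Finset.sum_congr rfl fun i _ => Finset.sum_congr rfl fun j _ => by ring
  rw [h2, h1, h3]
  ring

theorem quad_nonpos {ι : Type*} [Fintype ι] {B : ι → ι → ℚ} (hB : ∀ i j, B i j = B j i) {m : ι → ℚ}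
    (hm : ∀ i, 0 < m i) (hoff : ∀ i j, i ≠ j → 0 ≤ B i j) (hrow : ∀ i, ∑ j, m j * B i j ≤ 0) (a : ι → ℚ) :
    ∑ i, ∑ j, a i * a j * B i j ≤ 0 ∧
    (∑ i, ∑ j, a i * a j * B i j = 0 →
      (∀ i, ∑ j, m j * B i j ≠ 0 → a i = 0) ∧ ∀ i j, i ≠ j → B i j ≠ 0 → a i / m i = a j / m j) := by
  classical
  have key := quad_identity B hB m (fun i => a i / m i)
  simp only [mul_div_cancel₀ _ (hm _).ne'] at key
  have hA : ∀ i, m i * (a i / m i) ^ 2 * ∑ j, m j * B i j ≤ 0 := fun i =>
    mul_nonpos_of_nonneg_of_nonpos (mul_nonneg (hm i).le (sq_nonneg _)) (hrow i)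
  have hC : ∀ i j, 0 ≤ m i * m j * B i j * (a i / m i - a j / m j) ^ 2 := fun i j => by
    rcases eq_or_ne i j with rfl | h
    · simp
    · exact mul_nonneg (mul_nonneg (mul_nonneg (hm i).le (hm j).le) (hoff i j h)) (sq_nonneg _)
  have hA' := Finset.sum_nonpos fun i (_ : i ∈ Finset.univ) => hA i
  have hC' := Finset.sum_nonneg fun i (_ : i ∈ Finset.univ) =>
    Finset.sum_nonneg fun j (_ : j ∈ Finset.univ) => hC i j
  refine ⟨by rw [key]; linarith, fun h => ?_⟩
  rw [key] at h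
  have hA0 := (Finset.sum_eq_zero_iff_of_nonpos fun i _ => hA i).1 (le_antisymm hA' (by linarith))
  have hC0 := (Finset.sum_eq_zero_iff_of_nonneg fun i _ => Finset.sum_nonneg fun j _ => hC i j).1
    (le_antisymm (by linarith) hC')
  refine ⟨fun i hi => ?_, fun i j _ hij => ?_⟩
  · have := hA0 i (Finset.mem_univ i)
    simpa [hi, (hm i).ne'] using this
  · have := (Finset.sum_eq_zero_iff_of_nonneg fun j _ => hC i j).1 (hC0 i (Finset.mem_univ i)) j (Finset.mem_univ j)
    simpa [hij, (hm i).ne', (hm j).ne', sub_eq_zero] using this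

variable {R : Type u} [CommRing R] [IsDomain R] [IsDiscreteValuationRing R]
  {X : Over (Spec (CommRingCat.of R))} [IsProper X.hom] [IsIntegral X.left] [Flat X.hom]
  [IsLocallyNoetherian X.left] (hdim : topologicalKrullDim X.left = 2)
  (hreg : ∀ x : X.left, IsRegularLocalRing (X.left.presheaf.stalk x))

include hdim hreg

/-- The row sums of the intersection matrix. -/
theorem exists_row {ι : Type*} [Fintype ι] (Γ : ι → ArSurf.VertComp R X)
    (hinj : Function.Injective fun i => supp (Γ i)) (L : ι → X.left.Modules)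
    (hL : ∀ j, ClSub.IsInverseOf (L j) (ClSub.idealMod (Γ j).ι.ker)) :
    ∃ E : X.left.IdealSheafData, BlowUp.IsEffCartierIdeal E ∧
      Models.specialFibreIdeal R X = (∏ i, (Γ i).ι.ker ^ Models.mult R X (Γ i)) * E ∧
      (E.support : Set X.left) ⊆ Models.specialFibreSet R X ∧
      ∀ i, ∑ j, (Models.mult R X (Γ j) : ℤ) * ArSurf.inter R X (L j) (Γ i) ≤ 0 ∧
        (∑ j, (Models.mult R X (Γ j) : ℤ) * ArSurf.inter R X (L j) (Γ i) = 0 ↔
          Disjoint (supp (Γ i)) (E.support : Set X.left)) := by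
  obtain ⟨E, hE, heq, hgen, hsupp⟩ := exists_residual hdim hreg Γ hinj
  refine ⟨E, hE, heq, hsupp, fun i => ?_⟩
  obtain ⟨LE, -, ⟨e⟩⟩ := H23.PicInv.exists_inverse (SurfInt.isInvertible_idealMod hE)
  have hLE : ClSub.IsInverseOf LE (ClSub.idealMod E) := ⟨(H23.PicMul.comm _ _).some ≪≫ e⟩
  have hJ := fun j => isEffCartier_ker (Γ j) hdim hreg
  have h0 := inter_specialFibreIdeal (R := R) (X := X) (Γ i)
  rw [heq, inter_idealMod_mul _ (isEffCartier_prod hdim hreg _ _ _) hE,
    inter_idealMod_prod _ _ _ hJ] at h0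
  have h1 : ∀ j, ArSurf.inter R X (L j) (Γ i) = - ArSurf.inter R X (ClSub.idealMod (Γ j).ι.ker) (Γ i) :=
    fun j => inter_eq_neg _ (SurfInt.isInvertible_idealMod (hJ j)) (hL j)
  have h2 : ∑ j, (Models.mult R X (Γ j) : ℤ) * ArSurf.inter R X (L j) (Γ i) = - ArSurf.inter R X LE (Γ i) := by
    rw [inter_eq_neg _ (SurfInt.isInvertible_idealMod hE) hLE, Finset.sum_congr rfl fun j _ => by rw [h1 j, mul_neg],
      Finset.sum_neg_distrib]
    linarith
  rw [h2]
  have h3 := inter_nonneg (Γ i) hE (hgen i) hLE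
  exact ⟨by linarith, neg_eq_zero.trans (inter_eq_finrank (Γ i) hE (hgen i) hLE).2⟩

theorem inter_congr_supp {Γ Γ' : ArSurf.VertComp R X} (h : supp Γ = supp Γ') (Δ : ArSurf.VertComp R X)
    {L : X.left.Modules} (hL : ClSub.IsInverseOf L (ClSub.idealMod Δ.ι.ker)) :
    ArSurf.inter R X L Γ = ArSurf.inter R X L Γ' := by
  by_cases hd : supp Γ = supp Δ
  · have hinj : Function.Injective fun _ : PUnit.{1} => supp Γ := fun _ _ _ => rfl
    obtain ⟨E, hE, heq, hgen, -⟩ := exists_residual hdim hreg (fun _ : PUnit.{1} => Γ) hinj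
    obtain ⟨LE, -, ⟨e⟩⟩ := H23.PicInv.exists_inverse (SurfInt.isInvertible_idealMod hE)
    have hLE : ClSub.IsInverseOf LE (ClSub.idealMod E) := ⟨(H23.PicMul.comm _ _).some ≪≫ e⟩
    have hK := isEffCartier_ker Γ hdim hreg
    have hg : Models.genPtOf R X Γ = Models.genPtOf R X Γ' := (supp_eq_iff_genPtOf_eq Γ).1 h
    have hE1 : ArSurf.inter R X LE Γ = ArSurf.inter R X LE Γ' := by
      rw [inter_eq_lengthH Γ hE (hgen ⟨⟩) hLE, inter_eq_lengthH Γ' hE (hg ▸ hgen ⟨⟩) hLE, ker_congr Γ h]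
    rw [inter_eq_neg _ (SurfInt.isInvertible_idealMod hE) hLE,
      inter_eq_neg _ (SurfInt.isInvertible_idealMod hE) hLE] at hE1
    rw [inter_eq_neg _ (SurfInt.isInvertible_idealMod (isEffCartier_ker Δ hdim hreg)) hL,
      inter_eq_neg _ (SurfInt.isInvertible_idealMod (isEffCartier_ker Δ hdim hreg)) hL, ← ker_congr Γ hd]
    have key : ∀ T : ArSurf.VertComp R X, (Models.mult R X Γ : ℤ) * ArSurf.inter R X (ClSub.idealMod Γ.ι.ker) T =
        - ArSurf.inter R X (ClSub.idealMod E) T := fun T => by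
      have h0 := inter_specialFibreIdeal (R := R) (X := X) T
      rw [heq, inter_idealMod_mul _ (isEffCartier_prod hdim hreg _ _ _) hE,
        inter_idealMod_prod _ _ _ fun _ => hK] at h0
      simp only [Finset.univ_unique, Finset.sum_singleton] at h0
      linarith
    have hm : (Models.mult R X Γ : ℤ) ≠ 0 := by
      exact_mod_cast (map_maximalIdeal_genPtOf hdim hreg Γ).2.ne'
    refine congrArg Neg.neg (mul_left_cancel₀ hm ?_)
    rw [key, key]
    linarith
  · rw [inter_eq_lengthH_of_ne hdim hreg hd hL, inter_eq_lengthH_of_ne hdim hreg (h ▸ hd) hL, ker_congr Γ h]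

/-- The intersection form is non-positive on any family with distinct supports. -/
theorem form_nonpos {ι : Type*} [Fintype ι] (Γ : ι → ArSurf.VertComp R X)
    (hinj : Function.Injective fun i => supp (Γ i)) (L : ι → X.left.Modules)
    (hL : ∀ j, ClSub.IsInverseOf (L j) (ClSub.idealMod (Γ j).ι.ker)) (a : ι → ℤ) :
    ∑ i, ∑ j, a i * a j * ArSurf.inter R X (L j) (Γ i) ≤ 0 ∧
    (∑ i, ∑ j, a i * a j * ArSurf.inter R X (L j) (Γ i) = 0 →
      (∀ i, ∑ j, (Models.mult R X (Γ j) : ℤ) * ArSurf.inter R X (L j) (Γ i) ≠ 0 → a i = 0) ∧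
        ∀ i j, ¬ Disjoint (supp (Γ i)) (supp (Γ j)) →
          a i * (Models.mult R X (Γ j) : ℤ) = a j * Models.mult R X (Γ i)) := by
  obtain ⟨E, -, -, -, hrow⟩ := exists_row hdim hreg Γ hinj L hL
  have hm : ∀ i, (0 : ℚ) < Models.mult R X (Γ i) := fun i =>
    Nat.cast_pos.2 (map_maximalIdeal_genPtOf hdim hreg (Γ i)).2
  have hsym : ∀ i j, (ArSurf.inter R X (L j) (Γ i) : ℚ) = ArSurf.inter R X (L i) (Γ j) := fun i j => by
    rcases eq_or_ne i j with rfl | h
    · rfl
    · rw [inter_symm hdim hreg (fun e => h (hinj e)) (hL i) (hL j)]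
  obtain ⟨h1, h2⟩ := quad_nonpos hsym hm
    (fun i j h => by exact_mod_cast (inter_offDiag_nonneg hdim hreg (fun e => h (hinj e)) (hL j)).1)
    (fun i => by exact_mod_cast (hrow i).1) (fun i => (a i : ℚ))
  refine ⟨by exact_mod_cast h1, fun h => ?_⟩
  obtain ⟨h3, h4⟩ := h2 (by exact_mod_cast h)
  refine ⟨fun i hi => by exact_mod_cast h3 i (by exact_mod_cast hi), fun i j hij => ?_⟩
  rcases eq_or_ne i j with rfl | hne
  · rfl
  · have h5 := h4 i j hne (by
      rw [Ne, Int.cast_eq_zero]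
      exact fun e => hij ((inter_offDiag_nonneg hdim hreg (fun e => hne (hinj e)) (hL j)).2.1 e))
    rw [div_eq_div_iff (hm i).ne' (hm j).ne'] at h5
    exact_mod_cast h5

end Groth.Agent.ArSurfBase
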