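import Groth.Agent.ArSurfBase.Proper
import Groth.Agent.ArSurfBase.Comp
import Groth.Agent.ArSurfBase.Topo
import Groth.Agent.Hensel.QuasiFiniteSplit
import Groth.Agent.CDivEq.Basic
import Mathlib.RingTheory.ZariskisMainTheorem
import Mathlib.RingTheory.Ideal.KrullsHeightTheorem

/-! # Horizontal divisors through a closed point over a henselian discrete valuation ring -/

set_option autoImplicit false
set_option linter.unusedSectionVars false
set_option backward.isDefEq.respectTransparency false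
set_option backward.isDefEq.respectTransparency.types false

universe u

open CategoryTheory CategoryTheory.Limits AlgebraicGeometry TopologicalSpace IsLocalRing

namespace Groth.Agent.ArSurfBase.HorPoint

section Algebra

variable (R : Type u) [CommRing R] [HenselianLocalRing R] {A : Type u} [CommRing A] [Algebra R A]
  [Algebra.FiniteType R A] [IsNoetherianRing A]

/-- A point isolated in the closed fibre of a closed subset is cut out by a finite local algebra. -/
theorem exists_local_quotient (J q : Ideal A) [q.IsMaximal] [q.LiesOver (maximalIdeal R)]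
    (h : q ∈ ((maximalIdeal R).map (algebraMap R A) ⊔ J).minimalPrimes) :
    ∃ s : A, s ∉ q ∧ 1 - s ∈ q ∧ s * (1 - s) ∈ J ∧
      Module.Finite R (A ⧸ J ⊔ Ideal.span {1 - s}) ∧
      ∀ P : Ideal A, P.IsPrime → J ⊔ Ideal.span {1 - s} ≤ P →
        P.comap (algebraMap R A) = maximalIdeal R → P = q := by
  classical
  set M := (maximalIdeal R).map (algebraMap R A) ⊔ J with hM
  have hJq : J ≤ q := le_sup_right.trans h.1.2
  let π := Ideal.Quotient.mk J
  let qb : Ideal (A ⧸ J) := q.map π
  have hker : RingHom.ker π ≤ q := by rw [Ideal.mk_ker]; exact hJq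
  haveI hqb : qb.IsPrime := Ideal.map_isPrime_of_surjective Ideal.Quotient.mk_surjective hker
  have hcomap : qb.comap π = q := by
    rw [Ideal.comap_map_of_surjective _ Ideal.Quotient.mk_surjective, ← RingHom.ker_eq_comap_bot,
      sup_eq_left.mpr hker]
  haveI : qb.LiesOver (maximalIdeal R) := ⟨by
    rw [q.over_def (maximalIdeal R)]
    show q.comap (algebraMap R A) = qb.comap (π.comp (algebraMap R A))
    rw [← Ideal.comap_comap, hcomap]⟩
  haveI : Algebra.QuasiFiniteAt R qb := by
    refine Algebra.QuasiFiniteAt.of_isOpen_singleton_fiber ⟨qb, hqb⟩ ?_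
    have hfin := M.finite_minimalPrimes_of_isNoetherianRing
    have hex : ∃ t, t ∉ q ∧ ∀ P ∈ M.minimalPrimes, P ≠ q → t ∈ P := by
      have : ∀ P ∈ M.minimalPrimes, P ≠ q → ∃ t ∈ P, t ∉ q := fun P hP hne => by
        by_contra hall
        push Not at hall
        exact hne (le_antisymm hall (h.2 ⟨hP.1.1, hP.1.2⟩ hall))
      choose! t ht htq using this
      refine ⟨∏ P ∈ hfin.toFinset.erase q, t P, fun hmem => ?_, fun P hP hne => ?_⟩
      · obtain ⟨P, hP, hPt⟩ := ((inferInstance : q.IsPrime).prod_mem_iff).1 hmem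
        rw [Finset.mem_erase, Set.Finite.mem_toFinset] at hP
        exact htq P hP.2 hP.1 hPt
      · exact P.mem_of_dvd (Finset.dvd_prod_of_mem t (Finset.mem_erase.2 ⟨hne, hfin.mem_toFinset.2 hP⟩)) (ht P hP hne)
    obtain ⟨t, htq, ht⟩ := hex
    refine ⟨PrimeSpectrum.basicOpen (π t), (PrimeSpectrum.basicOpen (π t)).isOpen, ?_⟩
    ext ⟨P, hP⟩
    constructor
    · intro htP
      have hP' : P.asIdeal.comap (algebraMap R (A ⧸ J)) = maximalIdeal R := by
        have e : PrimeSpectrum.comap (algebraMap R (A ⧸ J)) P =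
            PrimeSpectrum.comap (algebraMap R (A ⧸ J)) ⟨qb, hqb⟩ := hP
        exact (congrArg PrimeSpectrum.asIdeal e).trans (qb.over_def (maximalIdeal R)).symm
      have hMP : M ≤ P.asIdeal.comap π := by
        refine sup_le (Ideal.map_le_iff_le_comap.2 ?_) (le_of_eq_of_le (Ideal.mk_ker).symm
          (Ideal.ker_le_comap π))
        rw [← hP']
        exact le_of_eq rfl
      obtain ⟨P', hP'm, hP'le⟩ := Ideal.exists_minimalPrimes_le hMP
      have hP'q : P' = q := by
        by_contra hne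
        exact htP (hP'le (ht P' hP'm hne))
      refine Subtype.ext (PrimeSpectrum.ext ?_)
      have e1 : P.asIdeal.comap π = qb.comap π := by
        rw [hcomap]
        exact ((inferInstance : q.IsMaximal).eq_of_le (P.isPrime.comap π).ne_top (hP'q ▸ hP'le)).symm
      exact Ideal.comap_injective_of_surjective π Ideal.Quotient.mk_surjective e1
    · intro he
      rw [Set.mem_singleton_iff, Subtype.ext_iff] at he
      show π t ∉ P.asIdeal
      rw [show P.asIdeal = qb from congrArg PrimeSpectrum.asIdeal he]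
      exact fun hh => htq (hcomap.le hh)
  obtain ⟨e, he, heq, hfinB, hloc⟩ := Hensel.exists_idempotent_of_quasiFiniteAt R qb
  obtain ⟨s, rfl⟩ := Ideal.Quotient.mk_surjective e
  have hs1 : s * (1 - s) ∈ J := by
    refine Ideal.Quotient.eq_zero_iff_mem.1 ?_
    rw [map_mul, map_sub, map_one, mul_sub, mul_one, he.eq, sub_self]
  have hsq : s ∉ q := fun hs => heq (Ideal.mem_map_of_mem _ hs)
  have h1sq : 1 - s ∈ q := ((inferInstance : q.IsPrime).mem_or_mem (hJq hs1)).resolve_left hsq
  let E : ((A ⧸ J) ⧸ (Ideal.span {1 - s}).map (Ideal.Quotient.mkₐ R J)) ≃ₐ[R]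
      A ⧸ J ⊔ Ideal.span {1 - s} := DoubleQuot.quotQuotEquivQuotSupₐ R J _
  have hspan : (Ideal.span {1 - s}).map (Ideal.Quotient.mkₐ R J) = Ideal.span {1 - π s} := by
    rw [Ideal.map_span, Set.image_singleton, map_sub, map_one]
    rfl
  rw [← hspan] at hfinB hloc
  refine ⟨s, hsq, h1sq, hs1, Module.Finite.equiv E.toLinearEquiv, fun P hP hle hPm => ?_⟩
  haveI := hfinB
  haveI := hloc
  set Q := (Ideal.span {1 - s}).map (Ideal.Quotient.mkₐ R J)
  let θ : A →ₐ[R] (A ⧸ J) ⧸ Q := (Ideal.Quotient.mkₐ R Q).comp (Ideal.Quotient.mkₐ R J)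
  have hθ : Function.Surjective θ := Ideal.Quotient.mk_surjective.comp Ideal.Quotient.mk_surjective
  have hθker : RingHom.ker θ.toRingHom = J ⊔ Ideal.span {1 - s} := by
    refine (DoubleQuot.ker_quotQuotMk J (Ideal.span {1 - s})).symm.trans ?_ |>.symm
    rfl
  have hmax : ∀ T : Ideal A, T.IsPrime → J ⊔ Ideal.span {1 - s} ≤ T →
      T.comap (algebraMap R A) = maximalIdeal R →
      T = (maximalIdeal ((A ⧸ J) ⧸ Q)).comap θ.toRingHom := fun T hT hTle hTm => by
    have hk : RingHom.ker θ.toRingHom ≤ T := hθker.trans_le hTle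
    haveI hT' : (T.map θ.toRingHom).IsPrime := Ideal.map_isPrime_of_surjective hθ hk
    have hc : (T.map θ.toRingHom).comap θ.toRingHom = T := by
      rw [Ideal.comap_map_of_surjective θ.toRingHom hθ, ← RingHom.ker_eq_comap_bot, sup_eq_left.mpr hk]
    have : (T.map θ.toRingHom).IsMaximal := by
      refine Ideal.isMaximal_of_isIntegral_of_isMaximal_comap (R := R) _ ?_
      rw [show algebraMap R ((A ⧸ J) ⧸ Q) = θ.toRingHom.comp (algebraMap R A) from
        (θ.comp_algebraMap).symm, ← Ideal.comap_comap, hc, hTm]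
      infer_instance
    rw [← IsLocalRing.eq_maximalIdeal this, hc]
  rw [hmax P hP hle hPm, hmax q inferInstance (sup_le hJq
    ((Ideal.span_singleton_le_iff_mem _).2 h1sq)) (q.over_def (maximalIdeal R)).symm]

end Algebra

/-- The kernel of the projection of a localization on a direct factor of a quotient. -/
theorem ker_away_lift {A S : Type u} [CommRing A] [CommRing S] [Algebra A S] (J : Ideal A) (s : A)
    [IsLocalization.Away s S] (hs : s * (1 - s) ∈ J) (ψ : S →+* A ⧸ J ⊔ Ideal.span {1 - s})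
    (hψ : ψ.comp (algebraMap A S) = Ideal.Quotient.mk _) :
    RingHom.ker ψ = J.map (algebraMap A S) := by
  refine le_antisymm (fun z hz => ?_) (Ideal.map_le_iff_le_comap.2 fun a ha => ?_)
  · obtain ⟨a, t, rfl⟩ := IsLocalization.exists_mk'_eq (Submonoid.powers s) z
    refine (IsLocalization.mk'_mem_map_algebraMap_iff (Submonoid.powers s) _ _ _ _).2 ?_
    have ha : a ∈ J ⊔ Ideal.span {1 - s} := by
      rw [← Ideal.Quotient.eq_zero_iff_mem, ← hψ, RingHom.comp_apply,
        ← IsLocalization.mk'_spec S a t, map_mul, RingHom.mem_ker.1 hz, zero_mul]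
    obtain ⟨j, hj, b, hb, rfl⟩ := Submodule.mem_sup.1 ha
    obtain ⟨c, rfl⟩ := Ideal.mem_span_singleton'.1 hb
    refine ⟨s, Submonoid.mem_powers s, ?_⟩
    rw [mul_add]
    exact J.add_mem (J.mul_mem_left _ hj) (by rw [mul_left_comm]; exact J.mul_mem_left _ hs)
  · rw [Ideal.mem_comap, RingHom.mem_ker, ← RingHom.comp_apply, hψ]
    exact Ideal.Quotient.eq_zero_iff_mem.2 (Ideal.mem_sup_left ha)

section Scheme

variable {R : Type u} [CommRing R] {X : Over (Spec (CommRingCat.of R))}

/-- The ideal of the image of an affine scheme in an affine open. -/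
theorem ker_ideal_eq {Y : Scheme.{u}} (V : Y.affineOpens) {B : CommRingCat.{u}} (ψ : Γ(Y, V.1) ⟶ B)
    (d : Spec B ⟶ Y) (hd : d = Spec.map ψ ≫ V.2.fromSpec) [QuasiCompact d] :
    d.ker.ideal V = RingHom.ker ψ.hom := by
  have htop : d ⁻¹ᵁ V.1 = ⊤ := by
    rw [hd, Scheme.Hom.comp_preimage, V.2.fromSpec_preimage_self]
    rfl
  have key : d.appLE V.1 ⊤ htop.ge ≫ (Scheme.ΓSpecIso _).hom = ψ := by
    subst hd
    rw [Scheme.Hom.comp_appLE, V.2.fromSpec_app_self, Category.assoc, Category.assoc,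
      Scheme.Hom.map_appLE_assoc]
    erw [Scheme.Hom.appLE]
    simp
  rw [Scheme.Hom.ker_apply]
  conv_rhs => rw [← key]
  haveI : IsIso ((Spec B).presheaf.map (homOfLE htop.ge).op) := by
    rw [show homOfLE htop.ge = eqToHom htop.symm from rfl]
    infer_instance
  rw [CommRingCat.hom_comp, RingHom.ker_comp_of_injective, Scheme.Hom.appLE, CommRingCat.hom_comp,
    RingHom.ker_comp_of_injective]
  · exact (ConcreteCategory.bijective_of_isIso _).1
  · exact (ConcreteCategory.bijective_of_isIso _).1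

/-- The closed subscheme given by a finite algebra on an affine open. -/
theorem exists_piece [IsSeparated X.hom] (U : X.left.affineOpens) (φ : CommRingCat.of R ⟶ Γ(X.left, U.1))
    (hφ : U.2.fromSpec ≫ X.hom = Spec.map φ) (J : Ideal Γ(X.left, U.1)) (s : Γ(X.left, U.1))
    (hs : s * (1 - s) ∈ J) (hfin : ((Ideal.Quotient.mk (J ⊔ Ideal.span {1 - s})).comp φ.hom).Finite) :
    ∃ (d : Spec (CommRingCat.of (Γ(X.left, U.1) ⧸ J ⊔ Ideal.span {1 - s})) ⟶ X.left),
      IsClosedImmersion d ∧
      d = Spec.map (CommRingCat.ofHom (Ideal.Quotient.mk (J ⊔ Ideal.span {1 - s}))) ≫ U.2.fromSpec ∧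
      d.ker.ideal (X.left.affineBasicOpen s) =
        J.map (X.left.presheaf.map (homOfLE (X.left.basicOpen_le s)).op).hom := by
  set I := J ⊔ Ideal.span {1 - s} with hI
  let m := CommRingCat.ofHom (Ideal.Quotient.mk I)
  let d := Spec.map m ≫ U.2.fromSpec
  haveI : IsClosedImmersion (Spec.map m) := IsClosedImmersion.spec_of_surjective _ Ideal.Quotient.mk_surjective
  haveI : IsPreimmersion d := by dsimp only [d]; infer_instance
  haveI : IsFinite (d ≫ X.hom) := by
    rw [Category.assoc, hφ, ← Spec.map_comp]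
    exact (IsFinite.SpecMap_iff _).2 hfin
  haveI : IsProper d := IsProper.of_comp d X.hom
  haveI : IsClosedImmersion d := .of_isPreimmersion d d.isClosedMap.isClosed_range
  refine ⟨d, inferInstance, rfl, ?_⟩
  have hu : IsUnit (Ideal.Quotient.mk I s) := by
    have : Ideal.Quotient.mk I s = 1 := by
      rw [← map_one (Ideal.Quotient.mk I), Ideal.Quotient.eq]
      rw [← neg_sub]
      exact I.neg_mem (Ideal.mem_sup_right (Ideal.mem_span_singleton_self _))
    rw [this]; exact isUnit_one
  haveI := U.2.isLocalization_basicOpen s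
  obtain ⟨ψ, hψ⟩ : ∃ ψ : Γ(X.left, X.left.basicOpen s) ⟶ CommRingCat.of (Γ(X.left, U.1) ⧸ I),
      X.left.presheaf.map (homOfLE (X.left.basicOpen_le s)).op ≫ ψ = m :=
    ⟨CommRingCat.ofHom (IsLocalization.Away.lift (S := Γ(X.left, X.left.basicOpen s)) s hu),
      CommRingCat.hom_ext (IsLocalization.Away.lift_comp (S := Γ(X.left, X.left.basicOpen s)) s hu)⟩
  have hd : d = Spec.map ψ ≫ (X.left.affineBasicOpen s).2.fromSpec := by
    rw [← U.2.map_fromSpec (X.left.affineBasicOpen s).2 (homOfLE (X.left.basicOpen_le s)).op,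
      ← Category.assoc]
    erw [← Spec.map_comp, hψ]
  rw [ker_ideal_eq (X.left.affineBasicOpen s) ψ d hd]
  exact ker_away_lift (S := Γ(X.left, X.left.basicOpen s)) J s hs ψ.hom (congrArg CommRingCat.Hom.hom hψ)

end Scheme

section Main

variable {R : Type u} [CommRing R] [IsDomain R] [IsDiscreteValuationRing R] [HenselianLocalRing R]
  {X : Over (Spec (CommRingCat.of R))} [IsIntegral X.left] [Flat X.hom]

/-- A horizontal effective Cartier divisor meeting the closed fibre in one given closed point. -/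
theorem exists_horizontal_through (hdim : topologicalKrullDim X.left = 2)
    (hproj : Neron.IsProjectiveOver R X) {x : X.left} (hx : IsClosed ({x} : Set X.left))
    (hxs : x ∈ Models.specialFibreSet R X) :
    ∃ (D : Scheme.{u}) (d : D ⟶ X.left), IsClosedImmersion d ∧ BlowUp.IsEffCartierIdeal d.ker ∧
      (∀ p : D, ∃ q : D, q ⤳ p ∧ ((d ≫ X.hom).base q).asIdeal = ⊥) ∧
      Set.range d.base ∩ Models.specialFibreSet R X = {x} := by
  classical
  haveI := isProper_of_isProjectiveOver hproj
  haveI : IsLocallyNoetherian X.left := LocallyOfFiniteType.isLocallyNoetherian X.hom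
  obtain ⟨U₀, hU₀, hxU, -⟩ := exists_isAffineOpen_mem_and_subset (X := X.left) (x := x) (U := ⊤) trivial
  let U : X.left.affineOpens := ⟨U₀, hU₀⟩
  set A := Γ(X.left, U₀) with hA
  haveI : Nonempty U₀ := ⟨⟨x, hxU⟩⟩
  haveI : IsNoetherianRing A := IsLocallyNoetherian.component_noetherian U
  obtain ⟨φ, hφ'⟩ := Spec.map_surjective (hU₀.fromSpec ≫ X.hom)
  have hφ : hU₀.fromSpec ≫ X.hom = Spec.map φ := hφ'.symm
  have hftφ : φ.hom.FiniteType := by
    have : LocallyOfFiniteType (Spec.map φ) := hφ ▸ inferInstance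
    exact (HasRingHomProperty.Spec_iff (P := @LocallyOfFiniteType)).1 this
  letI : Algebra R A := φ.hom.toAlgebra
  haveI : Algebra.FiniteType R A := hftφ
  let fs := hU₀.fromSpec
  have hfs : Function.Injective fs := fs.isOpenEmbedding.injective
  have hbase : ∀ P : PrimeSpectrum A, (X.hom.base (fs P)).asIdeal = P.asIdeal.comap (algebraMap R A) :=
    fun P => by
      rw [← Scheme.Hom.comp_apply, hφ]
      rfl
  obtain ⟨q₀, hq₀⟩ : ∃ P : PrimeSpectrum A, fs P = x := ⟨_, hU₀.fromSpec_primeIdealOf ⟨x, hxU⟩⟩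
  set q := q₀.asIdeal
  haveI hqmax : q.IsMaximal := by
    refine (PrimeSpectrum.isClosed_singleton_iff_isMaximal q₀).1 ?_
    have : ({q₀} : Set (PrimeSpectrum A)) = fs ⁻¹' {x} := by
      ext P; simp [← hq₀, hfs.eq_iff]
    rw [this]
    exact hx.preimage fs.continuous
  haveI : q.LiesOver (maximalIdeal R) := ⟨by
    have h := hbase q₀
    rw [hq₀, show X.hom.base x = closedPoint R from hxs] at h
    exact h⟩
  have hclosedPt : ∀ P : PrimeSpectrum A, fs P ∈ Models.specialFibreSet R X ↔
      P.asIdeal.comap (algebraMap R A) = maximalIdeal R := fun P => by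
    rw [← hbase]
    exact ⟨fun h => congrArg PrimeSpectrum.asIdeal (show X.hom.base (fs P) = closedPoint R from h),
      fun h => PrimeSpectrum.ext h⟩
  have hm0 : (maximalIdeal R).map (algebraMap R A) ≠ ⊥ := fun h0 => by
    have h1 : X.hom.base (fs ⟨⊥, Ideal.isPrime_bot⟩) = closedPoint R := by
      refine PrimeSpectrum.ext ((hbase _).trans ((maximalIdeal.isMaximal R).eq_of_le
        (Ideal.comap_ne_top _ bot_ne_top) ?_).symm)
      exact Ideal.map_le_iff_le_comap.1 h0.le
    have hη : fs ⟨⊥, Ideal.isPrime_bot⟩ = genericPoint X.left := by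
      have hs : fs ⟨⊥, Ideal.isPrime_bot⟩ ⤳ fs (hU₀.primeIdealOf ⟨genericPoint X.left,
          ((genericPoint_spec X.left).mem_open_set_iff U₀.isOpen).2 (by simpa using ⟨x, hxU⟩)⟩) :=
        ((PrimeSpectrum.le_iff_specializes _ _).1 bot_le).map fs.continuous
      rw [hU₀.fromSpec_primeIdealOf] at hs
      exact hs.antisymm (genericPoint_specializes _) |>.eq
    have h2 := asIdeal_eq_bot_genericPoint X.hom
    rw [← hη, h1] at h2
    exact IsDiscreteValuationRing.not_a_field R h2
  have hqm : (maximalIdeal R).map (algebraMap R A) ≤ q :=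
    Ideal.map_le_iff_le_comap.2 (q.over_def (maximalIdeal R)).le
  -- the point is not isolated in the closed fibre
  have hnot : q ∉ ((maximalIdeal R).map (algebraMap R A)).minimalPrimes := fun hmin => by
    obtain ⟨s, hsq, -, hs, hfin, huniq⟩ := exists_local_quotient R (⊥ : Ideal A) q (by rwa [sup_bot_eq])
    have hs1 : s = 1 := by
      rcases mul_eq_zero.1 (by simpa using hs : s * (1 - s) = 0) with h | h
      · exact absurd (h ▸ q.zero_mem) hsq
      · exact (sub_eq_zero.1 h).symm
    have hbot : (⊥ : Ideal A) ⊔ Ideal.span {1 - s} = ⊥ := by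
      rw [hs1, sub_self, bot_sup_eq, Ideal.span_singleton_eq_bot]
    obtain ⟨d, hd, hdeq, -⟩ := exists_piece U φ hφ ⊥ s hs (RingHom.finite_algebraMap.2 hfin)
    have hdeq' : (Set.range d : Set X.left) = U₀ := by
      rw [hdeq, Scheme.Hom.comp_base, TopCat.coe_comp, Set.range_comp]
      erw [range_comap_of_surjective _ _ Ideal.Quotient.mk_surjective]
      rw [Ideal.mk_ker, hbot, PrimeSpectrum.zeroLocus_bot, Set.image_univ]
      exact hU₀.range_fromSpec
    have hclopen : IsClopen (U₀ : Set X.left) := ⟨hdeq' ▸ d.isClosedEmbedding.isClosed_range, U₀.isOpen⟩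
    have huniv : (U₀ : Set X.left) = Set.univ :=
      (isClopen_iff.1 hclopen).resolve_left (Set.nonempty_iff_ne_empty.1 ⟨x, hxU⟩)
    haveI : Algebra.IsIntegral R A := by
      haveI := hfin
      haveI : Algebra.IsIntegral R (A ⧸ (⊥ : Ideal A) ⊔ Ideal.span {1 - s}) := Algebra.IsIntegral.of_finite R _
      exact Algebra.IsIntegral.of_injective (Ideal.Quotient.mkₐ R _)
        (fun a b e => by
          have h := hbot.le ((Ideal.Quotient.eq).1 e)
          exact sub_eq_zero.1 (by simpa using h))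
    have hle : topologicalKrullDim X.left ≤ 1 := by
      have e : topologicalKrullDim (PrimeSpectrum A) = topologicalKrullDim X.left :=
        IsHomeomorph.topologicalKrullDim_eq fs ⟨fs.continuous, fs.isOpenEmbedding.isOpenMap, hfs,
          Set.range_eq_univ.1 (hU₀.range_fromSpec.trans huniv)⟩
      rw [← e, PrimeSpectrum.topologicalKrullDim_eq_ringKrullDim]
      refine Order.krullDim_le_one_iff.2 fun P => ?_
      by_cases hP : P.asIdeal = ⊥
      · exact Or.inl fun Q _ => (hP ▸ bot_le : P.asIdeal ≤ Q.asIdeal)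
      refine Or.inr fun Q hQ => ?_
      have key : ∀ T : PrimeSpectrum A, T.asIdeal ≠ ⊥ → T.asIdeal = q := fun T hT =>
        huniq _ T.isPrime (hbot.trans_le bot_le) (IsLocalRing.eq_maximalIdeal
          ((Ideal.IsPrime.comap (algebraMap R A)).isMaximal fun h0 => hT (Ideal.eq_bot_of_comap_eq_bot h0)))
      have hQ' : Q.asIdeal ≠ ⊥ := fun h0 => hP (le_bot_iff.1 (h0 ▸ hQ))
      exact (key Q hQ').le.trans (key P hP).ge
    rw [hdim] at hle
    exact absurd hle (by decide)
  -- three primes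
  have hchain : ∀ P Q : Ideal A, P.IsPrime → Q.IsPrime → P ≠ ⊥ → P < Q → Q ≤ q → Q = q := by
    intro P Q hP hQ hP0 hPQ hQq
    have sp : ∀ a b : PrimeSpectrum A, a.asIdeal ≤ b.asIdeal → fs a ⤳ fs b := fun a b h =>
      ((PrimeSpectrum.le_iff_specializes a b).1 h).map fs.continuous
    by_contra hne
    refine absurd ((three_le_dim (sp ⟨⊥, Ideal.isPrime_bot⟩ ⟨P, hP⟩ bot_le)
      (fun e => hP0 (congrArg PrimeSpectrum.asIdeal (hfs e)).symm) (sp ⟨P, hP⟩ ⟨Q, hQ⟩ hPQ.le)
      (fun e => hPQ.ne (congrArg PrimeSpectrum.asIdeal (hfs e))) (sp ⟨Q, hQ⟩ q₀ hQq)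
      (fun e => hne (congrArg PrimeSpectrum.asIdeal (hfs e)))).trans hdim.le) (by decide)
  -- a function cutting the fibre in the point
  obtain ⟨g, hgq, hg⟩ : ∃ g ∈ q, ∀ P ∈ ((maximalIdeal R).map (algebraMap R A)).minimalPrimes, g ∉ P := by
    have hfin := ((maximalIdeal R).map (algebraMap R A)).finite_minimalPrimes_of_isNoetherianRing
    by_contra hcon
    push Not at hcon
    have hsub : (q : Set A) ⊆ ⋃ P ∈ (hfin.toFinset : Set (Ideal A)), (P : Set A) := fun g hgq => by
      obtain ⟨P, hP, hgP⟩ := hcon g hgq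
      exact Set.mem_biUnion (hfin.mem_toFinset.2 hP) hgP
    obtain ⟨P, hP, hle⟩ := (Ideal.subset_union_prime (f := id) ⊥ ⊥ fun P hP _ _ =>
      (hfin.mem_toFinset.1 hP).1.1).1 hsub
    rw [Set.Finite.mem_toFinset] at hP
    exact hnot (hqmax.eq_of_le hP.1.1.ne_top hle ▸ hP)
  obtain ⟨P₀, hP₀, hP₀q⟩ := Ideal.exists_minimalPrimes_le hqm
  have hP₀ne : P₀ ≠ q := fun e => hnot (e ▸ hP₀)
  have hP₀bot : P₀ ≠ ⊥ := fun e => hm0 (le_bot_iff.1 (e ▸ hP₀.1.2))
  have hg0 : g ≠ 0 := fun e => hg P₀ hP₀ (e ▸ P₀.zero_mem)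
  have hmin : q ∈ ((maximalIdeal R).map (algebraMap R A) ⊔ Ideal.span {g}).minimalPrimes := by
    refine ⟨⟨inferInstance, sup_le hqm ((Ideal.span_singleton_le_iff_mem _).2 hgq)⟩, fun P hP hPq => ?_⟩
    obtain ⟨P', hP', hP'P⟩ := haveI := hP.1; Ideal.exists_minimalPrimes_le (le_sup_left.trans hP.2)
    have hgP : g ∈ P := hP.2 (Ideal.mem_sup_right (Ideal.mem_span_singleton_self g))
    have hlt : P' < P := lt_of_le_of_ne hP'P fun e => hg P' hP' (e ▸ hgP)
    exact (hchain P' P hP'.1.1 hP.1 (fun e => hm0 (le_bot_iff.1 (e ▸ hP'.1.2))) hlt hPq).ge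
  obtain ⟨s, hsq, h1sq, hs, hfin, huniq⟩ := exists_local_quotient R (Ideal.span {g}) q hmin
  set I := Ideal.span {g} ⊔ Ideal.span {1 - s} with hI
  obtain ⟨d, hd, hdeq, hdker⟩ := exists_piece U φ hφ (Ideal.span {g}) s hs (RingHom.finite_algebraMap.2 hfin)
  haveI := hd
  have hrange : (Set.range d : Set X.left) = fs '' PrimeSpectrum.zeroLocus I := by
    rw [hdeq, Scheme.Hom.comp_base, TopCat.coe_comp, Set.range_comp]
    erw [range_comap_of_surjective _ _ Ideal.Quotient.mk_surjective]
    rw [Ideal.mk_ker]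
    rfl
  have hIq : I ≤ q := sup_le ((Ideal.span_singleton_le_iff_mem _).2 hgq) ((Ideal.span_singleton_le_iff_mem _).2 h1sq)
  have hxr : x ∈ (Set.range d : Set X.left) := hrange ▸ ⟨q₀, hIq, hq₀⟩
  refine ⟨_, d, hd, fun y => ?_, fun p => ?_, ?_⟩
  · by_cases hy : y ∈ (Set.range d : Set X.left)
    · obtain ⟨P, hP, rfl⟩ := hrange.le hy
      have hsP : s ∉ P.asIdeal := fun hs' => P.isPrime.ne_top ((Ideal.eq_top_iff_one _).2 (by
        simpa using P.asIdeal.add_mem hs' (hP (Ideal.mem_sup_right (Ideal.mem_span_singleton_self _)))))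
      have hyV : fs P ∈ X.left.basicOpen s := by
        have : P ∈ PrimeSpectrum.basicOpen s := hsP
        rw [← hU₀.fromSpec_preimage_basicOpen] at this
        exact this
      haveI : Nonempty (X.left.basicOpen s) := ⟨⟨_, hyV⟩⟩
      haveI : IsDomain Γ(X.left, (X.left.affineBasicOpen (U := U) s).1) :=
        (inferInstance : IsDomain Γ(X.left, X.left.basicOpen (U := U₀) s))
      refine ⟨X.left.affineBasicOpen (U := U) s, hyV,
        X.left.presheaf.map (homOfLE (X.left.basicOpen_le (U := U₀) s)).op g,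
        mem_nonZeroDivisors_of_ne_zero ?_, ?_⟩
      · intro e
        have h' := map_injective_of_isIntegral X.left (homOfLE (X.left.basicOpen_le (U := U₀) s))
        exact hg0 (h' (e.trans (map_zero _).symm))
      · rw [hdker, Ideal.map_span, Set.image_singleton]
        rfl
    · obtain ⟨W, hW, hyW, hWsub⟩ := exists_isAffineOpen_mem_and_subset (X := X.left) (x := y)
        (U := ⟨(Set.range d)ᶜ, d.isClosedEmbedding.isClosed_range.isOpen_compl⟩) hy
      refine ⟨⟨W, hW⟩, hyW, 1, one_mem _, ?_⟩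
      rw [Ideal.span_singleton_one]
      refine CDivEq.ideal_eq_top d.ker ⟨W, hW⟩ ?_
      rw [Scheme.Hom.support_ker, d.isClosedEmbedding.isClosed_range.closure_eq]
      exact Set.disjoint_left.2 fun z hz hzW => hWsub hzW hz
  · set mk := Ideal.Quotient.mk I
    obtain ⟨P', hP', hP'p⟩ := haveI := p.isPrime; Ideal.exists_minimalPrimes_le (bot_le (a := p.asIdeal))
    haveI := hP'.1.1
    refine ⟨⟨P', hP'.1.1⟩, (PrimeSpectrum.le_iff_specializes _ _).1 hP'p, ?_⟩
    have hbq : ((d ≫ X.hom).base (⟨P', hP'.1.1⟩ : PrimeSpectrum (A ⧸ I))).asIdeal =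
        (P'.comap mk).comap (algebraMap R A) := by
      rw [hdeq, Scheme.Hom.comp_apply, Scheme.Hom.comp_apply]
      exact hbase _
    rw [hbq]
    by_contra hne
    have hP'' : P'.comap mk = q := huniq _ (Ideal.IsPrime.comap mk)
      ((Ideal.mk_ker).ge.trans (Ideal.ker_le_comap _))
      (IsLocalRing.eq_maximalIdeal ((Ideal.IsPrime.comap (algebraMap R A)).isMaximal hne))
    have hqmin : q ∈ (Ideal.span {g}).minimalPrimes := by
      refine ⟨⟨inferInstance, (Ideal.span_singleton_le_iff_mem _).2 hgq⟩, fun T hT hTq => ?_⟩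
      have h1sT : 1 - s ∈ T := (hT.1.mem_or_mem (hT.2 hs)).resolve_left fun h => hsq (hTq h)
      have hIT : I ≤ T := sup_le hT.2 ((Ideal.span_singleton_le_iff_mem _).2 h1sT)
      haveI := hT.1
      haveI : (T.map mk).IsPrime :=
        Ideal.map_isPrime_of_surjective Ideal.Quotient.mk_surjective (Ideal.mk_ker.trans_le hIT)
      have h2 : P' ≤ T.map mk := hP'.2 ⟨inferInstance, bot_le⟩ (by
        rw [← Ideal.map_comap_of_surjective mk Ideal.Quotient.mk_surjective P']
        exact Ideal.map_mono (hP''.symm ▸ hTq))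
      calc q = P'.comap mk := hP''.symm
        _ ≤ (T.map mk).comap mk := Ideal.comap_mono h2
        _ = T := by rw [Ideal.comap_map_of_surjective _ Ideal.Quotient.mk_surjective,
              ← RingHom.ker_eq_comap_bot, sup_eq_left.mpr (Ideal.mk_ker.trans_le hIT)]
    have hh := Ideal.height_le_one_of_isPrincipal_of_mem_minimalPrimes (Ideal.span {g}) q hqmin
    haveI := hP₀.1.1
    have hlt₀ : P₀ < q := lt_of_le_of_ne hP₀q hP₀ne
    have h1 : P₀.height < q.height := Ideal.height_strict_mono_of_isPrime hlt₀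
    have h0 : P₀.height = 0 := ENat.lt_one_iff_eq_zero.1 (h1.trans_le hh)
    exact hP₀bot (Ideal.height_eq_zero_iff_eq_bot.1 h0)
  · refine Set.Subset.antisymm (fun z hz => ?_) (Set.singleton_subset_iff.2 ⟨hxr, hxs⟩)
    obtain ⟨P, hP, rfl⟩ := hrange.le hz.1
    rw [Set.mem_singleton_iff, ← hq₀]
    exact congrArg fs (PrimeSpectrum.ext (huniq _ P.isPrime hP ((hclosedPt P).1 hz.2)))

end Main

end Groth.Agent.ArSurfBase.HorPoint
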