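import Groth.Agent.ArSurfBase.BaseSection
import Groth.Agent.ArSurfBase.Projective
import Groth.Agent.SurfInt.DivSection
import Groth.Agent.SurfInt.Degrees
import Groth.Agent.SurfInt.Curve
import Groth.Agent.AmpleX.Sect
import Groth.Agent.InvX.GenEpi

/-! # Large powers of a horizontal divisor are globally generated -/

set_option autoImplicit false
set_option linter.style.haveILetI false
set_option linter.unusedSectionVars false
set_option backward.isDefEq.respectTransparency false
set_option backward.isDefEq.respectTransparency.types false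

universe u

open CategoryTheory CategoryTheory.Limits AlgebraicGeometry TopologicalSpace
open Groth.Agent.H23 Groth.Agent.H23.PicMul

namespace Groth.Agent.ArSurfBase.HorSemi

/-- Some section of the `n`-th power generates on `U`. -/
def GenOn {X : Scheme.{u}} (L : X.Modules) (U : X.Opens) (n : ℕ) : Prop :=
  ∃ t : Coh.structureModule X ⟶ CohB1.tensorPow L n, U ≤ CohB1.genLocus _ t

theorem GenOn.add {X : Scheme.{u}} {L : X.Modules} (hL : PicF.IsInvertible L) {U : X.Opens} {i j : ℕ}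
    (hi : GenOn L U i) (hj : GenOn L U j) : GenOn L U (i + j) := by
  obtain ⟨a, ha⟩ := hi
  obtain ⟨b, hb⟩ := hj
  obtain ⟨c, hc⟩ := AmpleX.exists_locus_cl (N := CohB1.tensorPow L (i + j))
    (show PicF.cl (CohB1.tensorMod (CohB1.tensorPow L i) (CohB1.tensorPow L j)) = _ by
      rw [cl_tensor, cl_tensorPow, cl_tensorPow, cl_tensorPow, pow_add]) (InvX.tmul (InvX.one a) (InvX.one b))
  refine ⟨InvX.ofSect c, ?_⟩
  rw [AmpleX.genLocus_eq_locus, InvX.one_ofSect, hc,
    AmpleX.locus_tmul (InvX.isInvertible_tensorPow hL _) (InvX.isInvertible_tensorPow hL _),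
    ← AmpleX.genLocus_eq_locus, ← AmpleX.genLocus_eq_locus]
  exact le_inf ha hb

theorem GenOn.of_two {X : Scheme.{u}} {L : X.Modules} (hL : PicF.IsInvertible L) {U : X.Opens} {N : ℕ}
    (h₀ : GenOn L U N) (h₁ : GenOn L U (N + 1)) (hN : 0 < N) :
    ∀ m, N * (N + 1) ≤ m → GenOn L U m := by
  have hmul : ∀ {i : ℕ}, GenOn L U i → ∀ a, 0 < a → GenOn L U (a * i) := fun {i} hi a ha => by
    induction a with
    | zero => exact absurd ha (lt_irrefl 0)
    | succ a ih =>
      rcases Nat.eq_zero_or_pos a with rfl | ha'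
      · rwa [Nat.zero_add, Nat.one_mul]
      · rw [Nat.succ_mul]; exact (ih ha').add hL hi
  intro m hm
  obtain ⟨q, r, hr, rfl⟩ : ∃ q r, r < N ∧ m = q * N + r :=
    ⟨m / N, m % N, Nat.mod_lt _ hN, (Nat.div_add_mod' m N).symm⟩
  have hq : N + 1 ≤ q := by nlinarith
  obtain ⟨d, rfl⟩ := Nat.exists_eq_add_of_le (show r + 1 ≤ q by omega)
  rcases Nat.eq_zero_or_pos r with rfl | hr'
  · rw [Nat.add_zero]; exact hmul h₀ _ (by omega)
  · have e : (r + 1 + d) * N + r = (d + 1) * N + r * (N + 1) := by ring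
    rw [e]
    exact (hmul h₀ _ d.succ_pos).add hL (hmul h₁ r hr')

variable (A : Type u) [CommRing A] [IsNoetherianRing A]

/-- Generation by global sections of all large powers. -/
theorem exists_generated {X : Scheme.{u}} [X.Over (Spec (CommRingCat.of A))]
    [IsProper (X ↘ Spec (CommRingCat.of A))] [IsIntegral X] {L : X.Modules} (hL : PicF.IsInvertible L)
    (s : Coh.structureModule X ⟶ L) [Mono s]
    (hZ : ∀ (Z : Scheme.{u}) (i : Z ⟶ X), IsClosedImmersion i → IsIntegral Z →
      Set.range i ⊆ (CohB1.genLocus L s : Set X)ᶜ → IsAffine Z) :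
    ∃ m₀ : ℕ, 1 ≤ m₀ ∧ ∀ m, m₀ ≤ m → Curv2.IsGloballyGenerated (CohB1.tensorPow L m) := by
  classical
  haveI := VarBase.isNoetherian_of_proper' A (X := X)
  have hT : VarBase.TwistVanOn L ((CohB1.genLocus L s : Set X)ᶜ) :=
    VarBase.twistVanOn_of_ample A hL fun Z i hi hZi hr => by
      haveI := hZ Z i hi hZi hr
      exact AmpleX.isAmple_of_isQuasiAffine (PicClLib.isInvertible_pullback i hL)
  have key : ∀ x : X, ∃ (U : X.Opens) (M : ℕ), x ∈ U ∧ ∀ m, M ≤ m → GenOn L U m := fun x => by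
    obtain ⟨z, hxz, hz⟩ := SchTop.exists_isClosed_specializes x
    obtain ⟨N, hN⟩ := BaseSection.exists_sections_eventually A hL s hT hz
    obtain ⟨a, ha⟩ := hN N le_rfl
    obtain ⟨b, hb⟩ := hN (N + 1) N.le_succ
    refine ⟨CohB1.genLocus _ (InvX.ofSect a) ⊓ CohB1.genLocus _ (InvX.ofSect b), (N + 1) * (N + 2),
      hxz.mem_open (CohB1.genLocus _ _ ⊓ CohB1.genLocus _ _).isOpen
        ⟨PosAmple.mem_genLocus_ofSect ha, PosAmple.mem_genLocus_ofSect hb⟩, ?_⟩
    exact GenOn.of_two hL ⟨_, inf_le_left⟩ ⟨_, inf_le_right⟩ N.succ_pos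
  choose U M hxU hM using key
  obtain ⟨F, hF⟩ := isCompact_univ.elim_finite_subcover (fun x => (U x : Set X)) (fun x => (U x).isOpen)
    (fun x _ => Set.mem_iUnion.2 ⟨x, hxU x⟩)
  refine ⟨F.sup M + 1, Nat.le_add_left _ _, fun m hm => ?_⟩
  choose t ht using fun i : F => hM i.1 m ((Finset.le_sup i.2).trans (by omega))
  refine InvX.isGloballyGenerated_of_generated (s := fun i : ULift.{u} (Fin F.card) =>
    InvX.one (t (F.equivFin.symm i.down))) (AVAmple.generatedBy_of_locus _ fun x => ?_)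
  obtain ⟨i, hi⟩ := Set.mem_iUnion.1 (hF (Set.mem_univ x))
  obtain ⟨hiF, hx⟩ := Set.mem_iUnion.1 hi
  refine ⟨⟨F.equivFin ⟨i, hiF⟩⟩, ?_⟩
  show x ∈ CohB1.genLocus _ (InvX.ofSect _)
  rw [AVAmple.ofSect_one]
  simp only [Equiv.symm_apply_apply]
  exact ht ⟨i, hiF⟩ hx

/-- A horizontal divisor. -/
theorem exists_gg_of_horizontal {R : Type u} [CommRing R] [IsDedekindDomain R]
    (hR : ¬ IsField R) (X : Over (Spec (CommRingCat.of R))) [IsIntegral X.left]
    (hdim : topologicalKrullDim X.left = 2) [Flat X.hom] (hproj : Neron.IsProjectiveOver R X)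
    (D : Scheme.{u}) (d : D ⟶ X.left) [IsClosedImmersion d] (hD : BlowUp.IsEffCartierIdeal d.ker)
    (hhor : ∀ p : D, ∃ q : D, q ⤳ p ∧ ((d ≫ X.hom).base q).asIdeal = ⊥)
    (L : X.left.Modules) (hL : ClSub.IsInverseOf L (ClSub.idealMod d.ker)) :
    ∃ m₀ : ℕ, 1 ≤ m₀ ∧ ∀ m : ℕ, m₀ ≤ m → Curv2.IsGloballyGenerated (CohB1.tensorPow L m) := by
  letI : X.left.Over (Spec (CommRingCat.of R)) := ⟨X.hom⟩
  haveI := isProper_of_isProjectiveOver hproj
  haveI : IsProper (X.left ↘ Spec (CommRingCat.of R)) := ‹IsProper X.hom›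
  haveI : IsLocallyNoetherian X.left := LocallyOfFiniteType.isLocallyNoetherian X.hom
  have hLi : PicF.IsInvertible L := SurfInt.isInvertible_of_inverseOf_right ((S8914.result d.ker).2 hD) hL
  obtain ⟨s, hs⟩ := SurfInt.exists_divisor_section d.ker hD hLi hL
  have hηD : genericPoint X.left ∉ d.ker.support := SurfInt.genericPoint_notMem_support hD
  have hloc : ∀ x, x ∈ CohB1.genLocus L (InvX.ofSect s) ↔ x ∉ d.ker.support := fun x => by
    rw [AmpleX.genLocus_eq_locus, InvX.one_ofSect]; exact hs x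
  haveI : Mono (InvX.ofSect s) := Projective.mono_of_mem_genLocus hLi _ ((hloc _).2 hηD)
  refine exists_generated R hLi (InvX.ofSect s) fun Z i hi hZi hr => ?_
  haveI := hi
  refine Projective.isAffine_of_forall_fibre (i ≫ X.hom) fun a b hab he => i.isClosedEmbedding.injective ?_
  have hsupp : ∀ c, i c ∈ Set.range d := fun c => by
    have h1 : i c ∈ d.ker.support := by
      by_contra h
      exact hr ⟨c, rfl⟩ ((hloc _).2 h)
    rw [← SetLike.mem_coe, Scheme.Hom.support_ker, d.isClosedEmbedding.isClosed_range.closure_eq] at h1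
    exact h1
  have hne : ∀ v, d v ≠ genericPoint X.left := fun v e => hηD (by
    rw [← SetLike.mem_coe, Scheme.Hom.support_ker]; exact e ▸ subset_closure ⟨v, rfl⟩)
  by_contra hab'
  obtain ⟨v, hv⟩ := hsupp a
  obtain ⟨q, hqv, hq⟩ := hhor v
  have hsp : i a ⤳ i b := hab.map i.continuous
  have hq' : (X.hom.base (d q)).asIdeal = ⊥ := hq
  have hqa : d q ⤳ i a := hv ▸ hqv.map d.continuous
  by_cases hb : (X.hom.base (i b)).asIdeal = ⊥
  · obtain ⟨c, hbc, hc⟩ := SchTop.exists_isClosed_specializes (i b)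
    have hcb : i b ≠ c := fun e => asIdeal_ne_bot_of_isClosed X.hom hR hc (e ▸ hb)
    exact hab' (middle_eq_of_chain hdim.le (genericPoint_specializes _) (hv ▸ hne v).symm hsp hbc hcb)
  · have haq : d q ≠ i a := fun e => hb (by
      rw [show X.hom.base (i b) = X.hom.base (i a) from he.symm, ← e]; exact hq')
    exact haq (middle_eq_of_chain hdim.le (genericPoint_specializes _) (hne q).symm hqa hsp hab')

end Groth.Agent.ArSurfBase.HorSemi
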