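import Groth.Agent.ArSurfBase.DedBirat
import Groth.Prelude.Def_ArSurf

/-! # Criterion for relative minimality -/

set_option autoImplicit false
set_option linter.style.haveILetI false
set_option linter.unusedSectionVars false
set_option backward.isDefEq.respectTransparency false
set_option backward.isDefEq.respectTransparency.types false

universe u

open CategoryTheory CategoryTheory.Limits AlgebraicGeometry IsLocalRing

namespace Groth.Agent.ArSurfBase

variable {R : Type u} [CommRing R] [IsDomain R]

theorem range_genPt (s : Spec (CommRingCat.of R)) :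
    s ∈ Set.range (Neron.genPt R) ↔ s.asIdeal = ⊥ := by
  have key : ∀ q : Spec (CommRingCat.of (FractionRing R)), (Neron.genPt R q).asIdeal = ⊥ := fun q => by
    show q.asIdeal.comap (algebraMap R (FractionRing R)) = ⊥
    rw [((Ideal.eq_bot_or_top q.asIdeal).resolve_right q.isPrime.ne_top),
      ← RingHom.ker_eq_comap_bot, (RingHom.injective_iff_ker_eq_bot _).1 (IsFractionRing.injective R (FractionRing R))]
  refine ⟨fun ⟨q, hq⟩ => hq ▸ key q, fun hs => ⟨closedPoint _, PrimeSpectrum.ext ((key _).trans hs.symm)⟩⟩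

theorem normal_of_regular {S : Scheme.{u}} (h : ∀ x : S, IsRegularLocalRing (S.presheaf.stalk x)) (x : S) :
    IsDomain (S.presheaf.stalk x) ∧ IsIntegrallyClosed (S.presheaf.stalk x) := by
  haveI := h x
  haveI := (RegUFD.ufd (S.presheaf.stalk x)).1
  haveI := (RegUFD.ufd (S.presheaf.stalk x)).2
  exact ⟨inferInstance, inferInstance⟩

variable {X Y : Over (Spec (CommRingCat.of R))} (g : X ⟶ Y)

/-- An isomorphism of generic fibres: the target is integral and the map is birational. -/
theorem birational_of_genericFibre [IsIntegral X.left] [Flat X.hom] [Flat Y.hom]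
    (hredY : ∀ y : Y.left, IsDomain (Y.left.presheaf.stalk y)) (hiso : IsIso ((Neron.genericFibre R).map g)) :
    IsIntegral Y.left ∧
    (∀ a b : X.left, (X.hom.base a).asIdeal = ⊥ → (X.hom.base b).asIdeal = ⊥ → g.left a = g.left b → a = b) ∧
    ∃ e : g.left (genericPoint X.left) = g.left (genericPoint X.left),
      (∀ y : Y.left, g.left (genericPoint X.left) ⤳ y) ∧ IsIso (g.left.stalkMap (genericPoint X.left)) := by
  let φ := ((Neron.genericFibre R).map g).left
  haveI : IsIso φ := inferInstanceAs (IsIso ((Over.forget _).map ((Neron.genericFibre R).map g)))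
  let jX := pullback.fst X.hom (Neron.genPt R)
  let jY := pullback.fst Y.hom (Neron.genPt R)
  haveI : IsPreimmersion (Neron.genPt R) := IsPreimmersion.of_isLocalization (nonZeroDivisors R)
  haveI : IsPreimmersion jY := MorphismProperty.pullback_fst _ _ inferInstance
  haveI : IsPreimmersion jX := MorphismProperty.pullback_fst _ _ inferInstance
  have hcomm : φ ≫ jY = jX ≫ g.left := by
    show ((Over.pullback (Neron.genPt R)).map g).left ≫ pullback.fst Y.hom (Neron.genPt R) = _
    simp [jX]
  have hrX : ∀ a : X.left, (X.hom.base a).asIdeal = ⊥ → ∃ q, jX q = a := fun a ha => by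
    rw [← Set.mem_range, Scheme.Pullback.range_fst]
    exact (range_genPt _).2 ha
  have hrY : ∀ b : Y.left, (Y.hom.base b).asIdeal = ⊥ → ∃ q, g.left (jX q) = b := fun b hb => by
    obtain ⟨q, rfl⟩ : ∃ q, jY q = b := by
      rw [← Set.mem_range, Scheme.Pullback.range_fst]; exact (range_genPt _).2 hb
    obtain ⟨q', rfl⟩ := φ.surjective q
    exact ⟨q', (congr($hcomm q')).symm⟩
  have hgen : ∀ y : Y.left, g.left (genericPoint X.left) ⤳ y := fun y => by
    obtain ⟨y₁, hy₁, hb⟩ := Flat.generalizingMap Y.hom
      (show (⟨⊥, Ideal.isPrime_bot⟩ : PrimeSpectrum R) ⤳ Y.hom y from (PrimeSpectrum.le_iff_specializes _ _).1 bot_le)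
    obtain ⟨q, rfl⟩ := hrY y₁ (congrArg PrimeSpectrum.asIdeal hb)
    exact ((genericPoint_specializes (jX q)).map g.left.continuous).trans hy₁
  haveI : IrreducibleSpace Y.left := by
    have h : closure {g.left (genericPoint X.left)} = Set.univ :=
      Set.eq_univ_of_forall fun y => specializes_iff_mem_closure.1 (hgen y)
    exact { isPreirreducible_univ := h ▸ (isIrreducible_singleton.closure).isPreirreducible
            toNonempty := ⟨g.left (genericPoint X.left)⟩ }
  haveI : ∀ y, _root_.IsReduced (Y.left.presheaf.stalk y) := fun y =>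
    haveI := hredY y
    inferInstance
  haveI : IsReduced Y.left := isReduced_of_isReduced_stalk Y.left
  haveI hY : IsIntegral Y.left := isIntegral_of_irreducibleSpace_of_isReduced Y.left
  refine ⟨hY, fun a b ha hb hab => ?_, rfl, hgen, ?_⟩
  · obtain ⟨qa, rfl⟩ := hrX a ha
    obtain ⟨qb, rfl⟩ := hrX b hb
    refine congrArg jX (φ.homeomorph.injective (jY.isEmbedding.injective ?_))
    show jY (φ qa) = jY (φ qb)
    exact (congr($hcomm qa)).trans (hab.trans (congr($hcomm qb)).symm)
  · obtain ⟨q, hq⟩ := hrX (genericPoint X.left) (asIdeal_eq_bot_genericPoint X.hom)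
    have h1 : Function.Surjective ((φ ≫ jY).stalkMap q).hom := by
      rw [Scheme.Hom.stalkMap_comp]
      exact (ConcreteCategory.bijective_of_isIso (φ.stalkMap q)).2.comp (jY.stalkMap_surjective _)
    have h1' : Function.Surjective ((jX ≫ g.left).stalkMap q).hom := by
      rw [Scheme.Hom.stalkMap_congr_hom _ _ hcomm.symm q]
      exact h1.comp (ConcreteCategory.bijective_of_isIso (Y.left.presheaf.stalkCongr _).hom).2
    rw [Scheme.Hom.stalkMap_comp] at h1'
    have hfield : ∀ (x : X.left), x = genericPoint X.left → IsField (X.left.presheaf.stalk x) := by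
      rintro x rfl
      exact Field.toIsField X.left.functionField
    have hfieldY : ∀ (y : Y.left), y = genericPoint Y.left → IsField (Y.left.presheaf.stalk y) := by
      rintro y rfl
      exact Field.toIsField Y.left.functionField
    have key : IsIso (g.left.stalkMap (jX q)) := by
      letI := (hfield _ hq).toField
      letI := (hfieldY (g.left (jX q)) (by rw [hq]; exact ((hgen _).antisymm (genericPoint_specializes _)).eq)).toField
      rw [ConcreteCategory.isIso_iff_bijective]
      refine ⟨RingHom.injective (g.left.stalkMap (jX q)).hom, fun c => ?_⟩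
      obtain ⟨d, hd⟩ := h1' ((jX.stalkMap q).hom c)
      exact ⟨d, RingHom.injective (jX.stalkMap q).hom hd⟩
    exact hq ▸ key

/-- An arithmetic surface in whose closed fibres distinct curves do not meet is relatively minimal. -/
theorem isRelMinimal_of_disjoint [IsDedekindDomain R] (hX : ArSurf.IsArithSurface R X)
    (hdisj : ∀ ξ ξ' z : X.left, (X.hom.base ξ).asIdeal ≠ ⊥ → (X.hom.base ξ').asIdeal ≠ ⊥ →
      ξ ⤳ z → ξ ≠ z → ξ' ⤳ z → ξ' ≠ z → ξ = ξ') :
    Neron.IsRelMinimalRegularModel R X := by
  refine ⟨hX.1, hX.2.2.2.2, hX.2.2.2.1, fun Z hregZ hprojZ hflatZ f hf => ?_⟩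
  haveI := hX.2.1; haveI := hX.2.2.2.1; haveI := hflatZ
  haveI := isProper_of_isArithSurface hX
  haveI := isProper_of_isProjectiveOver hprojZ
  obtain ⟨hintZ, hinj, -, hgen, hstalk⟩ :=
    birational_of_genericFibre f (fun y => (normal_of_regular hregZ y).1) hf
  haveI := hintZ; haveI := hstalk
  haveI : IsLocallyNoetherian X.left := LocallyOfFiniteType.isLocallyNoetherian X.hom
  haveI : CompactSpace X.left := QuasiCompact.compactSpace_of_compactSpace X.hom
  haveI : IsLocallyNoetherian Z.left := LocallyOfFiniteType.isLocallyNoetherian Z.hom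
  haveI : IsProper (f.left ≫ Z.hom) := by rw [Over.w]; infer_instance
  haveI : IsProper f.left := IsProper.of_comp f.left Z.hom
  have e : f.left (genericPoint X.left) = genericPoint Z.left :=
    ((hgen _).antisymm (genericPoint_specializes _)).eq
  haveI := BirNormal.isIso_stalkSpecializes_of_eq e (specializes_of_eq e)
  have hbir := ConcreteCategory.bijective_of_isIso
    (Z.left.presheaf.stalkSpecializes (specializes_of_eq e) ≫ f.left.stalkMap (genericPoint X.left))
  have hn := fun y => (normal_of_regular hregZ y).2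
  haveI : IsIso f.left := by
    refine isIso_of_no_contraction f.left hn e hbir fun ξ z h heq => by_contra fun hne => ?_
    by_cases hξ : (X.hom.base ξ).asIdeal = ⊥
    · refine hne (hinj ξ z hξ ?_ heq)
      rw [← Over.w f, Scheme.Hom.comp_apply, ← heq, ← Scheme.Hom.comp_apply, Over.w f]
      exact hξ
    · obtain ⟨ξ', w, hξ', h1, h2, h3, h4, h5⟩ :=
        exists_other_curve X.hom Z.hom hX.2.2.1.le f.left (Over.w f) hn e hbir hξ h hne heq
      exact h5 (hdisj ξ' ξ w hξ' hξ h3 h4 h1 h2)
  haveI : IsIso ((Over.forget (Spec (CommRingCat.of R))).map f) := inferInstanceAs (IsIso f.left)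
  exact isIso_of_reflects_iso f (Over.forget _)

/-- In a smooth family distinct curves of a fibre do not meet. -/
theorem disjoint_of_smooth {S : Scheme.{u}} {T : Scheme.{u}} [IsIntegral S] (f : S ⟶ T) [Smooth f]
    {ξ ξ' z : S} (hmax : ∀ x, f x = f ξ → (x ⤳ ξ → x = ξ) ∧ (x ⤳ ξ' → x = ξ'))
    (hs : f ξ' = f ξ) (hz : f z = f ξ) (h : ξ ⤳ z) (h' : ξ' ⤳ z) : ξ = ξ' := by
  let j := f.fiberι (f ξ)
  have hr : ∀ x, f x = f ξ → ∃ q, j q = x := fun x hx => by
    rw [← Set.mem_range, f.range_fiberι]; exact hx
  obtain ⟨a, ha⟩ := hr ξ rfl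
  obtain ⟨b, hb⟩ := hr ξ' hs
  obtain ⟨c, hc⟩ := hr z hz
  have hac : a ⤳ c := j.isEmbedding.isInducing.specializes_iff.1 (by rwa [ha, hc])
  have hbc : b ⤳ c := j.isEmbedding.isInducing.specializes_iff.1 (by rwa [hb, hc])
  haveI : IsRegularLocalRing ((f.fiber (f ξ)).presheaf.stalk c) :=
    haveI : Smooth (f.fiberToSpecResidueField (f ξ)) := MorphismProperty.pullback_snd _ _ inferInstance
    GrpSchLib.isRegularLocalRing_stalk_of_smooth (f.fiberToSpecResidueField (f ξ)) c
  haveI := (RegUFD.ufd ((f.fiber (f ξ)).presheaf.stalk c)).1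
  haveI : (⊥ : Ideal ((f.fiber (f ξ)).presheaf.stalk c)).IsPrime := Ideal.isPrime_bot
  obtain ⟨ω, hω, hωp⟩ := H23.StalkPrimes.exists_point (⊥ : Ideal ((f.fiber (f ξ)).presheaf.stalk c))
  have hωa' : j ω ⤳ j a := (((H23.StalkPrimes.primeOf_le_iff hac hω).1 (hωp.le.trans bot_le)).map j.continuous)
  have hωb' : j ω ⤳ j b := (((H23.StalkPrimes.primeOf_le_iff hbc hω).1 (hωp.le.trans bot_le)).map j.continuous)
  have hωa := (specializes_of_eq ha).trans' hωa'
  have hωb := (specializes_of_eq hb).trans' hωb'
  have hω' : f (j ω) = f ξ := by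
    have : j ω ∈ f ⁻¹' {f ξ} := by rw [← f.range_fiberι]; exact ⟨ω, rfl⟩
    exact this
  exact ((hmax _ hω').1 hωa).symm.trans ((hmax _ hω').2 hωb)

end Groth.Agent.ArSurfBase
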