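import Groth.Agent.ArSurfBase.SemiAmple
import Groth.Agent.ArSurfBase.HorSemi
import Groth.Agent.ArSurfBase.HorPoint
import Groth.Agent.ArSurfBase.ExcCurve
import Groth.Agent.ArSurfBase.ModelsSurf
import Groth.Agent.ArSurfBase.Decomp

/-! # Contraction of a proper subset of the components of the closed fibre, henselian base -/

set_option autoImplicit false
set_option linter.style.haveILetI false
set_option linter.unusedSectionVars false
set_option backward.isDefEq.respectTransparency false
set_option backward.isDefEq.respectTransparency.types false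

universe u

open CategoryTheory CategoryTheory.Limits AlgebraicGeometry TopologicalSpace
open Groth.Agent.H23 Groth.Agent.H23.PicMul

namespace Groth.Agent.ArSurfBase.HorContraction

theorem mem_support_prod {S : Scheme.{u}} {ι : Type*} (s : Finset ι) (I : ι → S.IdealSheafData) (x : S) :
    x ∈ (∏ i ∈ s, I i).support ↔ ∃ i ∈ s, x ∈ (I i).support := by
  classical
  induction s using Finset.induction_on with
  | empty =>
    rw [Finset.prod_empty, Scheme.IdealSheafData.one_eq_top, Scheme.IdealSheafData.support_top]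
    simp [← SetLike.mem_coe]
  | insert a s ha ih =>
    rw [Finset.prod_insert ha, Scheme.IdealSheafData.support_mul, ← SetLike.mem_coe, Closeds.coe_sup,
      Set.mem_union, SetLike.mem_coe, SetLike.mem_coe, ih]
    simp

theorem isInverseOf_pull {X Y : Scheme.{u}} (f : Y ⟶ X) {L M : X.Modules} (h : ClSub.IsInverseOf L M) :
    ClSub.IsInverseOf ((Scheme.Modules.pullback f).obj L) ((Scheme.Modules.pullback f).obj M) := by
  obtain ⟨e⟩ := pull f L M
  obtain ⟨e'⟩ := PicClLib.nonempty_pullback_structureModule f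
  exact ⟨e.symm ≪≫ (Scheme.Modules.pullback f).mapIso h.some ≪≫ e'⟩

theorem curveDeg_tensorPow {k : Type u} [Field k] {Y : Scheme.{u}} [Y.Over (Spec (CommRingCat.of k))]
    [IsIntegral Y] [IsProper (Y ↘ Spec (CommRingCat.of k))] (hdim : topologicalKrullDim Y = 1)
    {L : Y.Modules} (hL : PicF.IsInvertible L) :
    ∀ n : ℕ, ArSurf.curveDeg k Y (CohB1.tensorPow L n) = n * ArSurf.curveDeg k Y L
  | 0 => by rw [Nat.cast_zero, zero_mul]; exact curveDeg_eq_zero_of_iso (Iso.refl _)
  | n + 1 => by
    show ArSurf.curveDeg k Y (CohB1.tensorMod (CohB1.tensorPow L n) L) = _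
    rw [curveDeg_tensor hdim (isInvertible_tensorPow hL n) hL, curveDeg_tensorPow hdim hL n]
    push_cast; ring

section Fibre

variable {R : Type u} [CommRing R] [IsDomain R] {X : Over (Spec (CommRingCat.of R))}
  [IsIntegral X.left] [Flat X.hom]

theorem range_genPt' : Set.range (Neron.genPt R) = {(⟨⊥, Ideal.isPrime_bot⟩ : PrimeSpectrum R)} := by
  refine Set.eq_singleton_iff_unique_mem.2 ⟨⟨⟨⊥, Ideal.isPrime_bot⟩, PrimeSpectrum.ext ?_⟩, ?_⟩
  · exact Ideal.comap_bot_of_injective _ (IsFractionRing.injective R (FractionRing R))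
  · rintro _ ⟨q, rfl⟩
    refine PrimeSpectrum.ext ?_
    show q.asIdeal.comap _ = ⊥
    rw [show q.asIdeal = ⊥ from q.asIdeal.eq_bot_of_prime]
    exact Ideal.comap_bot_of_injective _ (IsFractionRing.injective R (FractionRing R))

theorem range_genFst' :
    Set.range (pullback.fst X.hom (Neron.genPt R)) = {x | (X.hom.base x).asIdeal = ⊥} := by
  rw [Scheme.Pullback.range_fst]
  ext z
  show X.hom.base z ∈ Set.range (Neron.genPt R) ↔ _
  rw [range_genPt']
  exact ⟨fun h => congrArg PrimeSpectrum.asIdeal h, fun h => PrimeSpectrum.ext h⟩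

theorem isIntegral_fst : IsIntegral (pullback X.hom (Neron.genPt R)) := by
  set π := pullback.fst X.hom (Neron.genPt R)
  haveI : IsPreimmersion (Neron.genPt R) := IsPreimmersion.of_isLocalization (nonZeroDivisors R)
  haveI : IsPreimmersion π := MorphismProperty.pullback_fst _ _ inferInstance
  haveI : Flat (Neron.genPt R) :=
    Flat.SpecMap_iff.2 (RingHom.flat_algebraMap_iff.2 (IsLocalization.flat (FractionRing R) (nonZeroDivisors R)))
  haveI : Flat π := MorphismProperty.pullback_fst _ _ inferInstance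
  obtain ⟨q₀, hq₀⟩ := range_genFst'.ge (asIdeal_eq_bot_genericPoint X.hom)
  have hq : ∀ q, q₀ ⤳ q := fun q => π.isEmbedding.isInducing.specializes_iff.1 (by
    rw [show π q₀ = genericPoint X.left from hq₀]; exact genericPoint_specializes _)
  haveI : IrreducibleSpace ↥(pullback X.hom (Neron.genPt R)) := by
    have h : closure {q₀} = Set.univ := Set.eq_univ_of_forall fun q => specializes_iff_mem_closure.1 (hq q)
    exact { isPreirreducible_univ := h ▸ (isIrreducible_singleton.closure).isPreirreducible
            toNonempty := ⟨q₀⟩ }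
  haveI : ∀ q, _root_.IsReduced ((pullback X.hom (Neron.genPt R)).presheaf.stalk q) := fun q => by
    haveI := H23.RatExtend.isIso_stalkMap π q
    exact isReduced_of_injective (inv (π.stalkMap q)).hom
      (ConcreteCategory.bijective_of_isIso (inv (π.stalkMap q))).1
  haveI : AlgebraicGeometry.IsReduced (pullback X.hom (Neron.genPt R)) := isReduced_of_isReduced_stalk _
  exact isIntegral_of_irreducibleSpace_of_isReduced _

/-- The generic fibre of a fibred surface is a curve. -/
theorem dim_fst [UniversallyClosed X.hom] [CompactSpace X.left] [IsLocallyNoetherian X.left] (hR : ¬ IsField R)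
    (hdim : topologicalKrullDim X.left = 2) {q : X.left} (hq : (X.hom.base q).asIdeal = ⊥)
    (hqη : q ≠ genericPoint X.left) :
    topologicalKrullDim ↥(pullback X.hom (Neron.genPt R)) = 1 := by
  set π := pullback.fst X.hom (Neron.genPt R)
  haveI : IsPreimmersion (Neron.genPt R) := IsPreimmersion.of_isLocalization (nonZeroDivisors R)
  haveI : IsPreimmersion π := MorphismProperty.pullback_fst _ _ inferInstance
  haveI := isIntegral_fst (X := X)
  apply le_antisymm
  · refine Order.krullDim_le_one_iff.2 fun T => ?_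
    by_contra hT
    simp only [not_or, not_isMin_iff, not_isMax_iff] at hT
    obtain ⟨⟨S, hS⟩, ⟨W, hW⟩⟩ := hT
    have gp : ∀ {S' T' : IrreducibleCloseds ↥(pullback X.hom (Neron.genPt R))}, S' < T' →
        π T'.2.genericPoint ⤳ π S'.2.genericPoint ∧ π T'.2.genericPoint ≠ π S'.2.genericPoint := by
      intro S' T' h
      have hsp : T'.2.genericPoint ⤳ S'.2.genericPoint := by
        rw [specializes_iff_mem_closure, T'.2.isGenericPoint_genericPoint T'.3]
        exact h.le (S'.2.isGenericPoint_genericPoint S'.3).mem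
      refine ⟨hsp.map π.continuous, fun e => h.ne (IrreducibleCloseds.ext ?_)⟩
      exact ((S'.2.isGenericPoint_genericPoint S'.3).symm.trans
        ((congrArg (fun x => closure {x}) (π.isEmbedding.injective e).symm).trans
          (T'.2.isGenericPoint_genericPoint T'.3)))
    obtain ⟨c, hc, hcc⟩ := SchTop.exists_isClosed_specializes (π S.2.genericPoint)
    have hne : π S.2.genericPoint ≠ c := fun e => asIdeal_ne_bot_of_isClosed X.hom hR hcc
      (e ▸ range_genFst'.le ⟨_, rfl⟩)
    exact absurd ((three_le_dim (gp hW).1 (gp hW).2 (gp hS).1 (gp hS).2 hc hne).trans hdim.le) (by decide)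
  · obtain ⟨a, ha⟩ := range_genFst'.ge (asIdeal_eq_bot_genericPoint X.hom)
    obtain ⟨b, hb⟩ := range_genFst'.ge hq
    have hab : a ⤳ b := π.isEmbedding.isInducing.specializes_iff.1 (by
      rw [show π a = genericPoint X.left from ha]; exact genericPoint_specializes _)
    let s : LTSeries (IrreducibleCloseds ↥(pullback X.hom (Neron.genPt R))) := ⟨1, ![clo b, clo a], fun i => by
      fin_cases i
      exact clo_lt hab fun e => hqη (by rw [← hb, ← ha, e])⟩
    exact Order.LTSeries.length_le_krullDim s

end Fibre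

variable {R : Type u} [CommRing R] [IsDomain R] [IsDiscreteValuationRing R] [HenselianLocalRing R]
  {X : Over (Spec (CommRingCat.of R))} [IsIntegral X.left] [Flat X.hom]

set_option maxHeartbeats 1600000 in
theorem exists_contraction (hnor : ∀ x : X.left, IsIntegrallyClosed (X.left.presheaf.stalk x))
    (hdim : topologicalKrullDim X.left = 2) (hproj : Neron.IsProjectiveOver R X)
    {r : ℕ} (Γ : Fin r → ArSurf.VertComp R X) (Γ' : ArSurf.VertComp R X) (hΓ' : ∀ i, supp Γ' ≠ supp (Γ i)) :
    ∃ (Y : Over (Spec (CommRingCat.of R))) (f : X ⟶ Y),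
      IsIntegral Y.left ∧ (∀ q : Y.left, IsIntegrallyClosed (Y.left.presheaf.stalk q)) ∧
      topologicalKrullDim Y.left = 2 ∧ Flat Y.hom ∧ Neron.IsProjectiveOver R Y ∧
      (∀ i, ∃ y : Y.left, Set.range (((Γ i).ι ≫ f.left).base : (Γ i).curve.left → Y.left) = {y}) ∧
      f.left.base ⁻¹' (f.left.base '' ⋃ i, Set.range (Γ i).ι.base) = ⋃ i, Set.range (Γ i).ι.base ∧
      ∀ V : Y.left.Opens, (V : Set Y.left) ∩ f.left.base '' (⋃ i, Set.range (Γ i).ι.base) = ∅ →
        IsIso (f.left ∣_ V) := by
  classical
  haveI := isProper_of_isProjectiveOver hproj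
  haveI : IsLocallyNoetherian X.left := LocallyOfFiniteType.isLocallyNoetherian X.hom
  haveI : CompactSpace X.left := QuasiCompact.compactSpace_of_compactSpace X.hom
  haveI : IsNoetherian X.left := {}
  have hR := IsDiscreteValuationRing.not_isField R
  -- the remaining components
  let T : Set (Set X.left) := {S | ∃ E : ArSurf.VertComp R X, supp E = S ∧ ∀ i, supp E ≠ supp (Γ i)}
  have hTfin : T.Finite := by
    obtain ⟨Z, hZ, hZc, hZi, hsp⟩ := NoetherianSpace.exists_finite_set_isClosed_irreducible
      (Models.isClosed_specialFibreSet R X)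
    refine hZ.subset ?_
    rintro S ⟨E, rfl, -⟩
    obtain ⟨W, hW, hle⟩ := isIrreducible_iff_sUnion_isClosed.1 (isGenericPoint_genPtOf E).isIrreducible
      hZ.toFinset (fun z hz => hZc z (hZ.mem_toFinset.1 hz))
      (by rw [hZ.coe_toFinset, ← hsp]; exact supp_subset_specialFibreSet E)
    rw [hZ.mem_toFinset] at hW
    have hge : W ⊆ supp E := (supp_mem_fibreComponents E hdim).2
      ⟨hZi W hW, hsp ▸ Set.subset_sUnion_of_mem hW⟩ hle
    rwa [Set.Subset.antisymm hle hge]
  haveI := hTfin.fintype
  have hpt : ∀ S : T, ∃ x ∈ (S : Set X.left), IsClosed ({x} : Set X.left) ∧ ∀ i, x ∉ supp (Γ i) := by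
    rintro ⟨S, E, rfl, hE⟩
    haveI := isProper_curve E
    haveI : JacobsonSpace E.curve.left :=
      LocallyOfFiniteType.jacobsonSpace (E.curve.left ↘ Spec (CommRingCat.of (IsLocalRing.ResidueField R)))
    have hcl : IsClosed (⋃ i, supp (Γ i)) := isClosed_iUnion_of_finite fun i => isClosed_supp (Γ i)
    obtain ⟨c, hc, hcc⟩ := nonempty_inter_closedPoints
      (Z := E.ι.base ⁻¹' (⋃ i, supp (Γ i))ᶜ)
      ⟨genericPoint E.curve.left, fun h => by
        obtain ⟨i, hi⟩ := Set.mem_iUnion.1 h
        exact genPtOf_notMem_supp hdim (hE i) hi⟩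
      (hcl.isOpen_compl.preimage E.ι.continuous).isLocallyClosed
    refine ⟨E.ι.base c, ⟨c, rfl⟩, ?_, fun i hi => hc (Set.mem_iUnion.2 ⟨i, hi⟩)⟩
    have := E.ι.isClosedEmbedding.isClosedMap _ hcc
    rwa [Set.image_singleton] at this
  choose x hxS hxc hxΓ using hpt
  have hxs : ∀ S : T, x S ∈ Models.specialFibreSet R X := fun S => by
    obtain ⟨E, hE, -⟩ := S.2
    exact supp_subset_specialFibreSet E (hE.ge (hxS S))
  choose D d hd hcart hhor hmeet using fun S : T =>
    HorPoint.exists_horizontal_through hdim hproj (hxc S) (hxs S)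
  set I := ∏ S : T, (d S).ker with hIdef
  have hI : BlowUp.IsEffCartierIdeal I := Finset.prod_induction _ BlowUp.IsEffCartierIdeal
    (fun _ _ => ModPairLib.isEffCartier_mul) isEffCartier_one fun S _ => hcart S
  have hsuppI : ∀ z, z ∈ I.support ↔ ∃ S, z ∈ Set.range (d S) := fun z => by
    rw [hIdef, mem_support_prod]
    refine exists_congr fun S => ?_
    haveI := hd S
    simp [← SetLike.mem_coe, Scheme.Hom.support_ker, (d S).isClosedEmbedding.isClosed_range.closure_eq]
  have hnot : ∀ E : ArSurf.VertComp R X, Models.genPtOf R X E ∉ I.support := fun E h => by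
    obtain ⟨S, hS⟩ := (hsuppI _).1 h
    have hx : Models.genPtOf R X E = x S :=
      (hmeet S).le ⟨hS, supp_subset_specialFibreSet E (genPtOf_mem E)⟩
    obtain ⟨z, hz, -, hne⟩ := exists_specializes_ne E
    have hc : IsClosed ({Models.genPtOf R X E} : Set X.left) := by rw [hx]; exact hxc S
    exact hne (((isGenericPoint_genPtOf E).specializes hz).mem_closed hc rfl).symm
  -- the divisor is horizontal
  have hhorI : ∀ p : I.subscheme, ∃ q : I.subscheme, q ⤳ p ∧ ((I.subschemeι ≫ X.hom).base q).asIdeal = ⊥ := by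
    intro p
    obtain ⟨S, v, hv⟩ := (hsuppI _).1 (I.range_subschemeι.le ⟨p, rfl⟩)
    obtain ⟨w, hw, hw0⟩ := hhor S v
    obtain ⟨q, hq⟩ := I.range_subschemeι.ge ((hsuppI _).2 ⟨S, w, rfl⟩)
    refine ⟨q, I.subschemeι.isEmbedding.isInducing.specializes_iff.1 ?_, ?_⟩
    · rw [hq, ← hv]; exact hw.map (d S).continuous
    · rw [Scheme.Hom.comp_apply, hq]; exact hw0
  obtain ⟨L, hL, hLI⟩ : ∃ L : X.left.Modules, PicF.IsInvertible L ∧ ClSub.IsInverseOf L (ClSub.idealMod I) := by
    obtain ⟨L, hL, ⟨e⟩⟩ := PicInv.exists_inverse (SurfInt.isInvertible_idealMod hI)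
    obtain ⟨c⟩ := comm L (ClSub.idealMod I)
    exact ⟨L, hL, ⟨c ≪≫ e⟩⟩
  obtain ⟨m, hm, hgg⟩ := HorSemi.exists_gg_of_horizontal hR X hdim hproj I.subscheme I.subschemeι
    (by rw [Scheme.IdealSheafData.ker_subschemeι]; exact hI) hhorI L
    (by rw [Scheme.IdealSheafData.ker_subschemeι]; exact hLI)
  have hinter : ∀ (E : ArSurf.VertComp R X) (n : ℕ),
      ArSurf.inter R X (CohB1.tensorPow L n) E = n * ArSurf.inter R X L E := fun E n => by
    induction n with
    | zero => rw [Nat.cast_zero, zero_mul]; exact inter_structureModule E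
    | succ n ih =>
      show ArSurf.inter R X (CohB1.tensorMod (CohB1.tensorPow L n) L) E = _
      rw [inter_tensor E (isInvertible_tensorPow hL n) hL, ih]
      push_cast; ring
  refine SemiAmple.exists_contraction hnor hdim hproj Γ (CohB1.tensorPow L m) (isInvertible_tensorPow hL m)
    (hgg m le_rfl) ?_ fun E => ⟨fun ⟨e⟩ => ?_, fun ⟨i, hi⟩ => ?_⟩
  · -- positive degree on the generic fibre
    obtain ⟨E₀, hE₀⟩ : ∃ S : T, (S : Set X.left) = supp Γ' := ⟨⟨_, Γ', rfl, hΓ'⟩, rfl⟩
    obtain ⟨v, -⟩ : x E₀ ∈ Set.range (d E₀) := ((hmeet E₀).ge rfl).1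
    obtain ⟨w, -, hw⟩ := hhor E₀ v
    have hwI : d E₀ w ∈ I.support := (hsuppI _).2 ⟨E₀, w, rfl⟩
    have hη := SurfInt.genericPoint_notMem_support hI
    set π := pullback.fst X.hom (Neron.genPt R)
    haveI : IsIntegral ((Neron.genericFibre R).obj X).left := isIntegral_fst (X := X)
    haveI : IsProper (((Neron.genericFibre R).obj X).left ↘ Spec (CommRingCat.of (FractionRing R))) :=
      (inferInstance : IsProper (pullback.snd X.hom (Neron.genPt R)))
    have hd1 : topologicalKrullDim ((Neron.genericFibre R).obj X).left = 1 :=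
      dim_fst (X := X) hR hdim hw fun e => hη (e ▸ hwI)
    haveI : IsPreimmersion (Neron.genPt R) := IsPreimmersion.of_isLocalization (nonZeroDivisors R)
    haveI : IsPreimmersion π := MorphismProperty.pullback_fst _ _ inferInstance
    haveI : IsIntegral (pullback X.hom (Neron.genPt R)) := isIntegral_fst (X := X)
    obtain ⟨b, hb⟩ := range_genFst'.ge (show (X.hom.base (d E₀ w)).asIdeal = ⊥ from hw)
    have hηK : π (genericPoint ↥(pullback X.hom (Neron.genPt R))) = genericPoint X.left := by
      obtain ⟨a, ha⟩ := range_genFst'.ge (asIdeal_eq_bot_genericPoint X.hom)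
      haveI := isIntegral_fst (X := X)
      exact ((genericPoint_specializes a).map π.continuous |>.antisymm
        (ha ▸ genericPoint_specializes _) |>.eq).trans ha
    have hηK' : π (genericPoint ↥(pullback X.hom (Neron.genPt R))) ∉ I.support := by rw [hηK]; exact hη
    have hJ : BlowUp.IsEffCartierIdeal (I.comap π) :=
      isEffCartier_comap_of_not_mem (Y := ((Neron.genericFibre R).obj X).left) π hI hηK'
    obtain ⟨eI⟩ := nonempty_pullback_idealMod π I hI hJ
    have hLK : ClSub.IsInverseOf ((Scheme.Modules.pullback π).obj L) (ClSub.idealMod (I.comap π)) :=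
      ⟨(SurfInt.tMapR _ eI).symm ≪≫ (isInverseOf_pull π hLI).some⟩
    obtain ⟨h1, h2⟩ := curveDeg_inverse_idealMod (k := FractionRing R)
      (Y := ((Neron.genericFibre R).obj X).left) hd1 hJ
      (by rw [Scheme.IdealSheafData.support_comap]; exact hηK') hLK
    have hpos : 0 < ArSurf.curveDeg (FractionRing R) ((Neron.genericFibre R).obj X).left
        ((Scheme.Modules.pullback π).obj L) := by
      refine lt_of_le_of_ne (h1 ▸ Int.natCast_nonneg _) fun h0 => ?_
      have h3 := h2.1 h0.symm
      rw [Scheme.IdealSheafData.support_comap] at h3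
      exact h3.le (show π b ∈ I.support by rw [hb]; exact hwI)
    obtain ⟨eP⟩ := VarBase.nonempty_pullback_tensorPow π L m
    refine lt_of_lt_of_eq ?_ ((curveDeg_congr (Y := ((Neron.genericFibre R).obj X).left) eP).trans
      (curveDeg_tensorPow hd1 (PicClLib.isInvertible_pullback π hL) m)).symm
    exact mul_pos (by exact_mod_cast hm) hpos
  · -- curves with trivial restriction
    by_contra hcon
    push Not at hcon
    let S : T := ⟨supp E, E, rfl, hcon⟩
    have h0 : ArSurf.inter R X (CohB1.tensorPow L m) E = 0 := by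
      haveI := isProper_curve E
      exact curveDeg_eq_zero_of_iso e
    rw [hinter] at h0
    have h1 : ArSurf.inter R X L E = 0 :=
      (mul_eq_zero.1 h0).resolve_left (by exact_mod_cast (show m ≠ 0 by omega))
    refine Set.disjoint_left.1 ((inter_eq_finrank E hI (hnot E) hLI).2.1 h1) (hxS S) ?_
    exact (hsuppI _).2 ⟨S, ((hmeet S).ge rfl).1⟩
  · -- the given curves
    have hdis : ((I.comap E.ι).support : Set E.curve.left) = ∅ := by
      rw [Scheme.IdealSheafData.support_comap]
      refine Set.eq_empty_iff_forall_notMem.2 fun c hc => ?_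
      obtain ⟨S, hS⟩ := (hsuppI _).1 hc
      have hmem : E.ι.base c ∈ supp E := ⟨c, rfl⟩
      have hx : E.ι.base c = x S := (hmeet S).le ⟨hS, supp_subset_specialFibreSet E hmem⟩
      exact hxΓ S i (hx ▸ hi.le hmem)
    have hJ := isEffCartier_comap_of_not_mem E.ι hI (hnot E)
    obtain ⟨eI⟩ := nonempty_pullback_idealMod E.ι I hI hJ
    have htop : I.comap E.ι = 1 := by
      rw [Scheme.IdealSheafData.one_eq_top, ← Scheme.IdealSheafData.support_eq_bot_iff]
      exact SetLike.coe_injective hdis
    have h1 := cl_eq_iff.2 ⟨(SurfInt.tMapR _ eI).symm ≪≫ (isInverseOf_pull E.ι hLI).some⟩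
    rw [cl_tensor, htop, cl_idealMod_one, mul_one, ← PicMul.one_def] at h1
    obtain ⟨eP⟩ := VarBase.nonempty_pullback_tensorPow E.ι L m
    refine cl_eq_iff.1 ?_
    rw [cl_eq_iff.2 ⟨eP⟩, cl_tensorPow, h1, one_pow]
    rfl

end Groth.Agent.ArSurfBase.HorContraction
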