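import Groth.Agent.ArSurfBase.BaseSection
import Groth.Agent.SurfInt.Restrict
import Groth.Agent.AmpleVan.Mul
import Groth.Agent.CurveVA.Vanish
import Groth.Agent.ArSurfBase.ExcCurve

/-! # Multiplying an ideal by that of a projective line: surjectivity on first cohomology -/

set_option autoImplicit false
set_option linter.style.haveILetI false
set_option linter.unusedSectionVars false
set_option backward.isDefEq.respectTransparency false
set_option backward.isDefEq.respectTransparency.types false

universe u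

open CategoryTheory CategoryTheory.Limits AlgebraicGeometry TopologicalSpace
open Groth.Agent.PnCoh.Finite (mapLin)

noncomputable section

namespace Groth.Agent.ArSurfBase.IdealStep

variable {X : Scheme.{u}}

/-- `(r, e) ↦ r • e`. -/
def scalarBilin (L : X.Modules) : H23.TensorDesc.Bilin (Coh.structureModule X) L L where
  b U r e := (show Γ(X, U) from r) • e
  add_left U m m' n := add_smul _ _ _
  smul_left U r m n := mul_smul _ _ _
  add_right U m n n' := smul_add _ _ _
  smul_right U r m n := smul_comm _ _ _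
  res {U V} h m n := AModX.res_smul h _ n

/-- `O ⊗ L ⟶ L`. -/
def scalarMap (L : X.Modules) : CohB1.tensorMod (Coh.structureModule X) L ⟶ L :=
  H23.TensorDesc.desc (scalarBilin L)

theorem scalarMap_tmul (L : X.Modules) (U : X.Opens) (r : Γ(X, U)) (e : Γ(L, U)) :
    (scalarMap L).app U (InvX.tmul (show Γ(Coh.structureModule X, U) from r) e) = r • e :=
  H23.TensorDesc.desc_tmul (scalarBilin L) U r e

theorem isIso_scalarMap {L : X.Modules} (hL : PicF.IsInvertible L) : IsIso (scalarMap L) := by
  choose U hU e he using InvX.exists_frame hL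
  refine SurfInt.isIso_of_frames (scalarMap L) U hU (fun x => InvX.tmul (show Γ(Coh.structureModule X, U x) from (1 : Γ(X, U x))) (e x))
    (fun x => InvX.isFrame_tmul (InvX.isFrame_one (U x)) (he x)) fun x => ?_
  rw [scalarMap_tmul, one_smul]
  exact he x

/-- The inclusion `J I → I`, surjective on `H¹` as soon as `(O/J) ⊗ I` is acyclic. -/
theorem exists_incl {A : Type u} [CommRing A] [X.Over (Spec (CommRingCat.of A))] {I J : X.IdealSheafData}
    (hI : BlowUp.IsEffCartierIdeal I) (hJ : BlowUp.IsEffCartierIdeal J) :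
    ∃ incl : ClSub.idealMod (J * I) ⟶ ClSub.idealMod I, incl ≫ ClSub.idealModι I = ClSub.idealModι (J * I) ∧
      (Subsingleton (Coh.HH X (CohB1.tensorMod (ClSub.quotMod J) (ClSub.idealMod I)) 1) →
        Function.Surjective (mapLin A incl 1)) := by
  have hL := SurfInt.isInvertible_idealMod hI
  haveI := isIso_scalarMap hL
  haveI hmul : IsIso (SurfInt.mulMap J I) := by
    obtain ⟨e⟩ := SurfInt.nonempty_idealMod_mul hJ hI
    choose U hU a b ha hb using ModPairLib.exists_chart (ModPairLib.isLocPrincipal_of_isEffCartier hJ)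
      (ModPairLib.isLocPrincipal_of_isEffCartier hI)
    choose e he using fun x => OmegaLib.exists_of_mem J (U x) (a x) (ha x ▸ Ideal.mem_span_singleton_self _)
    choose f hf using fun x => OmegaLib.exists_of_mem I (U x) (b x) (hb x ▸ Ideal.mem_span_singleton_self _)
    exact SurfInt.isIso_of_frames (SurfInt.mulMap J I) (fun x => (U x).1) hU (fun x => InvX.tmul (e x) (f x))
      (fun x => InvX.isFrame_tmul (SurfInt.isFrame_of_generator hJ (ha x) (he x))
        (SurfInt.isFrame_of_generator hI (hb x) (hf x)))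
      fun x => by
        refine SurfInt.isFrame_of_generator (ModPairLib.isEffCartier_mul hJ hI) (U := U x) (g := a x * b x) ?_ ?_
        · rw [Scheme.IdealSheafData.ideal_mul, Pi.mul_apply, ha x, hb x, Ideal.span_singleton_mul_span_singleton]
        · rw [SurfInt.idealSect_mulMap_tmul, he, hf]
  let t := (AmpleVan.tw (ClSub.idealMod I)).map (ClSub.idealModι J)
  let g : CohB1.tensorMod (ClSub.idealMod J) (ClSub.idealMod I) ⟶ ClSub.idealMod I :=
    t ≫ scalarMap (ClSub.idealMod I)
  have hg : g ≫ ClSub.idealModι I = SurfInt.mulMap J I ≫ ClSub.idealModι (J * I) := by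
    refine AmpleVan.hom_ext_tmul fun U a b => ?_
    show OmegaSh.idealSect I U ((scalarMap (ClSub.idealMod I)).app U (t.app U (InvX.tmul a b))) =
      OmegaSh.idealSect (J * I) U ((SurfInt.mulMap J I).app U (InvX.tmul a b))
    rw [SurfInt.idealSect_mulMap_tmul, AmpleVan.map_tmul_left]
    refine (congrArg (OmegaSh.idealSect I U) (scalarMap_tmul _ U _ b)).trans ?_
    rw [OmegaLib.idealSect_smul]
    rfl
  refine ⟨inv (SurfInt.mulMap J I) ≫ g, by rw [Category.assoc, IsIso.inv_comp_eq, hg], fun hv => ?_⟩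
  haveI := AmpleVan.isEquivalence_tw hL
  have hs : Function.Surjective (mapLin A t 1) :=
    BaseSection.surjective_mapLin_f A ((SurfInt.idealSeq_shortExact J).map_of_exact (AmpleVan.tw (ClSub.idealMod I))) hv
  intro y
  obtain ⟨y₁, rfl⟩ := (BaseSection.hhEquiv (A := A) (asIso (scalarMap (ClSub.idealMod I))) 1).surjective y
  obtain ⟨y₂, rfl⟩ := hs y₁
  refine ⟨mapLin A (SurfInt.mulMap J I) 1 y₂, ?_⟩
  rw [FFun.mapLin_comp]
  refine (FFun.mapLin_congr (A := A) (IsIso.hom_inv_id_assoc (SurfInt.mulMap J I) g) 1 y₂).trans ?_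
  exact (FFun.mapLin_comp t (scalarMap (ClSub.idealMod I)) 1 y₂).symm

/-- Invertible modules of degree at least `-1` on the projective line have no first cohomology. -/
theorem subsingleton_h1_line (k : Type u) [Field k] {L : (CohB1.ProjSpace 1 k).Modules} (hL : PicF.IsInvertible L)
    (hdeg : -1 ≤ ArSurf.curveDeg k (CohB1.ProjSpace 1 k) L) : Subsingleton (Coh.HH (CohB1.ProjSpace 1 k) L 1) := by
  let P := CohB1.ProjSpace 1 k
  haveI : IsIntegral P := H23.PnChart.isIntegral_projSpace 1 k
  haveI : IsProper (P ↘ Spec (CommRingCat.of k)) := PnCoh.Chow.isProper_toSpec 1 k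
  haveI := CurveCohLib.isNoetherian_of_proper (k := k) (X := P)
  have hdim : topologicalKrullDim P = 1 := by simpa using S10829.result k 1
  have h0 : Module.finrank k (Coh.HH P (Coh.structureModule P) 0) = 1 := by
    have h0 : ∀ d : ℕ, Module.finrank k (Coh.HH P (Twist.twistProjSpace 1 k (d : ℤ)) 0) = d + 1 := fun d => by
      obtain ⟨φ⟩ := S0843.result k 1 d
      rw [φ.finrank_eq, CurveEmbed.finrank_binary]
    have h1 := CurveEmbed.h0_structure_dvd k (Twist.twistProjSpace 1 k ((1 : ℕ) : ℤ) : P.Modules)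
    have h2 := CurveEmbed.h0_structure_dvd k (Twist.twistProjSpace 1 k ((2 : ℕ) : ℤ) : P.Modules)
    rw [h0] at h1 h2
    exact Nat.dvd_one.1 ((Nat.dvd_add_iff_right h1).2 h2)
  have hg : Curv2.genus k P = 0 := by
    unfold Curv2.genus
    haveI h : Subsingleton (Coh.HH (CohB1.ProjSpace 1 k) (Coh.structureModule (CohB1.ProjSpace 1 k)) (0 + 1)) :=
      PnCoh.subsingleton_HH_structureModule (ι := Fin (1 + 1)) (R := k) (PnCoh.isQCoh_structureModule _) 0
    exact Module.finrank_zero_of_subsingleton (R := k)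
      (M := Coh.HH (CohB1.ProjSpace 1 k) (Coh.structureModule _) (0 + 1))
  refine CurveVA.subsingleton_h1_of_deg k hdim h0 hL ?_
  rw [hg, ← curveDeg_eq_deg hdim.le (CurveDeg.isCoh_of_isInvertible hL).1]
  simpa using hdeg

/-- The degree of an ideal along a map from the projective line. -/
def lineDeg {k : Type u} [Field k] (j : CohB1.ProjSpace 1 k ⟶ X) (I : X.IdealSheafData) : ℤ :=
  ArSurf.curveDeg k (CohB1.ProjSpace 1 k) ((Scheme.Modules.pullback j).obj (ClSub.idealMod I))

theorem lineDeg_mul {k : Type u} [Field k] (j : CohB1.ProjSpace 1 k ⟶ X) {I J : X.IdealSheafData}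
    (hI : BlowUp.IsEffCartierIdeal I) (hJ : BlowUp.IsEffCartierIdeal J) :
    lineDeg j (I * J) = lineDeg j I + lineDeg j J := by
  let P := CohB1.ProjSpace 1 k
  haveI : IsIntegral P := H23.PnChart.isIntegral_projSpace 1 k
  haveI : IsProper (P ↘ Spec (CommRingCat.of k)) := PnCoh.Chow.isProper_toSpec 1 k
  have hdim : topologicalKrullDim P = 1 := by simpa using S10829.result k 1
  obtain ⟨e⟩ := SurfInt.nonempty_idealMod_mul hI hJ
  obtain ⟨e'⟩ := H23.PicMul.pull j (ClSub.idealMod I) (ClSub.idealMod J)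
  rw [lineDeg, curveDeg_congr ((Scheme.Modules.pullback j).mapIso e ≪≫ e'),
    curveDeg_tensor hdim (PicClLib.isInvertible_pullback j (SurfInt.isInvertible_idealMod hI))
      (PicClLib.isInvertible_pullback j (SurfInt.isInvertible_idealMod hJ))]
  rfl

theorem lineDeg_pow {k : Type u} [Field k] (j : CohB1.ProjSpace 1 k ⟶ X) {I : X.IdealSheafData}
    (hI : BlowUp.IsEffCartierIdeal I) {n : ℕ} (hn : n ≠ 0) : lineDeg j (I ^ n) = n * lineDeg j I := by
  induction n with
  | zero => exact absurd rfl hn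
  | succ n ih =>
    rcases eq_or_ne n 0 with rfl | h
    · simp
    · rw [pow_succ, lineDeg_mul j (isEffCartier_pow hI n) hI, ih h]
      push_cast
      ring

/-- The degree of an ideal of a divisor avoiding the generic point of the line is at most zero, and negative if
the divisor meets it. -/
theorem lineDeg_nonpos {k : Type u} [Field k] (j : CohB1.ProjSpace 1 k ⟶ X) {I : X.IdealSheafData}
    (hI : BlowUp.IsEffCartierIdeal I)
    (hη : haveI := H23.PnChart.isIntegral_projSpace 1 k
      j (genericPoint (CohB1.ProjSpace 1 k)) ∉ I.support) :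
    lineDeg j I ≤ 0 ∧ (lineDeg j I = 0 → ∀ q, j q ∉ I.support) := by
  let P := CohB1.ProjSpace 1 k
  haveI : IsIntegral P := H23.PnChart.isIntegral_projSpace 1 k
  haveI : IsProper (P ↘ Spec (CommRingCat.of k)) := PnCoh.Chow.isProper_toSpec 1 k
  have hdim : topologicalKrullDim P = 1 := by simpa using S10829.result k 1
  have hJ := isEffCartier_comap_of_not_mem j hI hη
  obtain ⟨φ⟩ := nonempty_pullback_idealMod j I hI hJ
  have hinv := SurfInt.isInvertible_idealMod hJ
  obtain ⟨L, hL, ⟨ψ⟩⟩ := H23.PicInv.exists_inverse hinv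
  have h1 : ClSub.IsInverseOf L (ClSub.idealMod (I.comap j)) := ⟨SurfInt.tComm _ _ ≪≫ ψ⟩
  have hη' : genericPoint P ∉ (I.comap j).support := by
    rw [Scheme.IdealSheafData.support_comap]; exact hη
  obtain ⟨h2, h3⟩ := curveDeg_inverse_idealMod (k := k) hdim hJ hη' h1
  have h4 := curveDeg_eq_neg_of_inverse (k := k) hdim hL hinv h1
  have h5 : lineDeg j I = - ArSurf.curveDeg k P L := by
    rw [lineDeg, curveDeg_congr φ, h4, neg_neg]
  refine ⟨by rw [h5, h2]; simp, fun h0 q hq => ?_⟩
  have h6 := h3.1 (by omega)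
  have h7 : q ∈ ((I.comap j).support : Set P) := by
    rw [Scheme.IdealSheafData.support_comap]; exact hq
  rw [h6] at h7
  exact h7

theorem subsingleton_quot_tensor {k : Type u} [Field k] {I J : X.IdealSheafData}
    (hI : BlowUp.IsEffCartierIdeal I) (j : CohB1.ProjSpace 1 k ⟶ X) [IsClosedImmersion j] (hj : j.ker = J)
    (hdeg : -1 ≤ lineDeg j I) :
    Subsingleton (Coh.HH X (CohB1.tensorMod (ClSub.quotMod J) (ClSub.idealMod I)) 1) := by
  subst hj
  haveI : IsProper ((CohB1.ProjSpace 1 k) ↘ Spec (CommRingCat.of k)) := PnCoh.Chow.isProper_toSpec 1 k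
  haveI := CurveCohLib.isNoetherian_of_proper (k := k) (X := CohB1.ProjSpace 1 k)
  have hL := PicClLib.isInvertible_pullback j (SurfInt.isInvertible_idealMod hI)
  haveI := subsingleton_h1_line k hL hdeg
  obtain ⟨e⟩ := SurfInt.nonempty_quotMod_ker j
  obtain ⟨e'⟩ := QCoh.HH_push_of_isAffineHom j (CurveDeg.isCoh_of_isInvertible hL).1 1
  haveI : Subsingleton (Coh.HH X ((Coh.push j).obj ((Scheme.Modules.pullback j).obj (ClSub.idealMod I))) 1) :=
    e'.symm.toEquiv.subsingleton
  exact QCoh.subsingleton_HH_of_iso ((SurfInt.tMapL e _ ≪≫ SurfInt.pushTensorIso j _).symm) 1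
    ‹Subsingleton (Coh.HH X ((Coh.push j).obj ((Scheme.Modules.pullback j).obj (ClSub.idealMod I))) 1)›

theorem subsingleton_quot {k : Type u} [Field k] (j : CohB1.ProjSpace 1 k ⟶ X) [IsClosedImmersion j] :
    Subsingleton (Coh.HH X (ClSub.quotMod j.ker) 1) := by
  obtain ⟨e⟩ := SurfInt.nonempty_quotMod_ker j
  obtain ⟨e'⟩ := QCoh.HH_push_of_isAffineHom j (QCoh.isQCoh_structureModule (X := CohB1.ProjSpace 1 k)) 1
  haveI : Subsingleton (Coh.HH (CohB1.ProjSpace 1 k) (Coh.structureModule (CohB1.ProjSpace 1 k)) (0 + 1)) :=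
    PnCoh.subsingleton_HH_structureModule (ι := Fin (1 + 1)) (R := k) (PnCoh.isQCoh_structureModule _) 0
  haveI : Subsingleton (Coh.HH X ((Coh.push j).obj (Coh.structureModule (CohB1.ProjSpace 1 k))) 1) :=
    e'.symm.toEquiv.subsingleton
  exact QCoh.subsingleton_HH_of_iso e.symm 1
    ‹Subsingleton (Coh.HH X ((Coh.push j).obj (Coh.structureModule (CohB1.ProjSpace 1 k))) 1)›

end Groth.Agent.ArSurfBase.IdealStep
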