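import Groth.Agent.FlatLoc6.GeomExt
import Groth.Agent.RG11.Spread
import Groth.Agent.GeomField.Algebra
import Groth.Agent.S2150

/-! # Spreading out geometric irreducibility of the generic fibre, algebraic form -/

set_option autoImplicit false
set_option linter.style.haveILetI false
set_option linter.unusedSectionVars false

universe u

open TensorProduct IntermediateField

namespace Groth.Agent.ArSurfBase.IrredSpread

theorem gr_of_sep_trans (k P E : Type u) [Field k] [Field P] [Field E] [Algebra k P] [Algebra k E] [Algebra P E]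
    [IsScalarTower k P E] [Algebra.IsSeparable P E] (ι : Type u)
    (e : FractionRing (MvPolynomial ι k) ≃ₐ[k] P) : Algebra.IsGeometricallyReduced k E := by
  haveI : Algebra.IsGeometricallyReduced k (MvPolynomial ι k) := by
    rw [GeomField.gr_iff]
    let c := (Algebra.TensorProduct.comm k (MvPolynomial ι k) (AlgebraicClosure k)).toRingEquiv.trans
      (MvPolynomial.scalarRTensorAlgEquiv (R := k) (N := AlgebraicClosure k) (σ := ι)).toRingEquiv
    exact isReduced_of_injective c c.injective
  haveI := GeomField.gr_localization (k := k) (MvPolynomial ι k) (FractionRing (MvPolynomial ι k))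
    (nonZeroDivisors _)
  rw [GeomField.gr_iff]
  haveI : IsReduced (P ⊗[k] AlgebraicClosure k) := by
    haveI := (GeomField.gr_iff (k := k) (FractionRing (MvPolynomial ι k))).1 inferInstance
    let c := Algebra.TensorProduct.congr e.symm (AlgEquiv.refl (R := k) (A₁ := AlgebraicClosure k))
    exact isReduced_of_injective c c.injective
  exact GeomField.isReduced_tensor_of_separable_tower (AlgebraicClosure k) P E

theorem isReduced_tensor_sub (k E : Type u) [Field k] [Field E] [Algebra k E] [Algebra.IsGeometricallyReduced k E]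
    (S : IntermediateField k E) (M : Type u) [Field M] [Algebra k M] : IsReduced (M ⊗[k] S) := by
  haveI := GeomField.isReduced_tensor_field (k := k) E M
  haveI : IsReduced (S ⊗[k] M) :=
    isReduced_of_injective (Algebra.TensorProduct.map S.val (AlgHom.id k M))
      (Module.Flat.rTensor_preserves_injective_linearMap S.val.toLinearMap S.val.injective)
  exact isReduced_of_injective (Algebra.TensorProduct.comm k M S) (Algebra.TensorProduct.comm k M S).injective

/-- If `F'` is algebraic over `F` with all `p^n`-th powers falling into `F`, separable constants stay trivial. -/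
theorem sep_mem {K k' F F' : Type u} [Field K] [Field k'] [Field F] [Field F'] [Algebra K k'] [Algebra K F]
    [Algebra K F'] [Algebra k' F'] [Algebra F F'] [IsScalarTower K k' F'] [IsScalarTower K F F']
    [IsPurelyInseparable K k'] (h : ∀ a : F, IsSeparable K a → a ∈ Set.range (algebraMap K F))
    [IsPurelyInseparable F F'] (a : F') (ha : IsSeparable k' a) : a ∈ Set.range (algebraMap k' F') := by
  let p := ringExpChar K
  haveI : ExpChar F p := expChar_of_injective_algebraMap (algebraMap K F).injective p
  haveI : ExpChar F' p := expChar_of_injective_algebraMap (algebraMap K F').injective p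
  obtain ⟨n, b, hb⟩ := IsPurelyInseparable.pow_mem F p a
  have halg : IsIntegral K a := isIntegral_trans (R := K) (A := k') a ha.isIntegral
  have halgb : IsIntegral K b := (isIntegral_algebraMap_iff (algebraMap F F').injective).1 (by rw [hb]; exact halg.pow _)
  let E := IntermediateField.adjoin K {b}
  haveI : FiniteDimensional K E := adjoin.finiteDimensional halgb
  haveI : Algebra.IsAlgebraic K E := inferInstance
  haveI : ExpChar (separableClosure K E) p :=
    expChar_of_injective_algebraMap (algebraMap K (separableClosure K E)).injective p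
  obtain ⟨m, c, hc⟩ := IsPurelyInseparable.pow_mem (separableClosure K E) p (⟨b, mem_adjoin_simple_self K b⟩ : E)
  have hcs : IsSeparable K (algebraMap E F (c : E)) := by
    rw [IsSeparable, minpoly.algebraMap_eq (algebraMap E F).injective]
    exact mem_separableClosure_iff.1 c.2
  obtain ⟨d, hd⟩ := h _ hcs
  have hbm : b ^ p ^ m = algebraMap K F d := by
    rw [hd, show (c : E) = algebraMap (separableClosure K E) E c from rfl, hc]
    rfl
  have key : a ^ p ^ (n + m) = algebraMap k' F' (algebraMap K k' d) := by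
    rw [pow_add, pow_mul, ← hb, ← map_pow, hbm, ← IsScalarTower.algebraMap_apply, ← IsScalarTower.algebraMap_apply]
  haveI : ExpChar k' p := expChar_of_injective_algebraMap (algebraMap K k').injective p
  let G := IntermediateField.adjoin k' {a}
  haveI : IsPurelyInseparable k' G := (isPurelyInseparable_adjoin_simple_iff_pow_mem k' F' p).2
    ⟨n + m, algebraMap K k' d, key.symm⟩
  haveI : Algebra.IsSeparable k' G := (isSeparable_adjoin_simple_iff_isSeparable k' F').2 ha
  have hG : G = ⊥ := eq_bot_of_isPurelyInseparable_of_isSeparable _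
  exact mem_bot.1 (hG ▸ mem_adjoin_simple_self k' a)

set_option maxHeartbeats 1600000 in
set_option synthInstance.maxHeartbeats 200000 in
/-- The spreading statement. -/
theorem exists_irreducible_fibres {R₁ B : Type u} [CommRing R₁] [IsDomain R₁] [IsNoetherianRing R₁] [CommRing B]
    [IsDomain B] [Algebra R₁ B] [Algebra.FiniteType R₁ B] (hinj : Function.Injective (algebraMap R₁ B))
    (K L : Type u) [Field K] [Field L] [Algebra R₁ K] [IsFractionRing R₁ K] [Algebra B L] [IsFractionRing B L]
    [Algebra R₁ L] [IsScalarTower R₁ B L] [Algebra K L] [IsScalarTower R₁ K L]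
    (hsep : ∀ a : L, IsSeparable K a → a ∈ Set.range (algebraMap K L)) :
    ∃ f : R₁, f ≠ 0 ∧ ∀ (P P' : Ideal B) [P.IsPrime] [P'.IsPrime],
      P.comap (algebraMap R₁ B) = P'.comap (algebraMap R₁ B) → f ∉ P.comap (algebraMap R₁ B) →
      ∃ P₀ : Ideal B, P₀.IsPrime ∧ P₀.comap (algebraMap R₁ B) = P.comap (algebraMap R₁ B) ∧ P₀ ≤ P ∧ P₀ ≤ P' := by
  classical
  haveI : Algebra.EssFiniteType R₁ L := by
    haveI : Algebra.EssFiniteType B L := Algebra.EssFiniteType.of_isLocalization L (nonZeroDivisors B)
    exact Algebra.EssFiniteType.comp R₁ B L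
  haveI : Algebra.EssFiniteType K L := Algebra.EssFiniteType.of_comp R₁ K L
  obtain ⟨k', _, _, Fg, _, _, _, _, K', _, _, _, _, _, _, _, _, hfin, hins, ⟨ι, -, ⟨e⟩⟩, -, hsepK'⟩ :=
    FlatLoc6.exists_insep_model K L
  haveI := hfin; haveI := hins; haveI := hsepK'
  haveI : Algebra.IsGeometricallyReduced k' K' := gr_of_sep_trans k' Fg K' ι e
  let p := ringExpChar K
  haveI : ExpChar k' p := expChar_of_injective_algebraMap (algebraMap K k').injective p
  -- generators of `k'` with powers in `R₁`
  let bs := Module.finBasis K k'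
  choose ni ai hai using fun i => IsPurelyInseparable.pow_mem K p (bs i)
  let N := Finset.univ.sup ni
  let q := p ^ N
  have hq : 0 < q := pow_pos (expChar_pos K p) _
  have ha' : ∀ i, ∃ a : K, algebraMap K k' a = bs i ^ q := fun i => by
    refine ⟨ai i ^ p ^ (N - ni i), ?_⟩
    rw [map_pow, hai, ← pow_mul, ← pow_add, Nat.add_sub_cancel' (Finset.le_sup (Finset.mem_univ i))]
  choose a ha using ha'
  choose u c hc hu using fun i => IsFractionRing.div_surjective R₁ (a i)
  have hc0 : ∀ i, algebraMap R₁ K (c i) ≠ 0 := fun i => IsFractionRing.to_map_ne_zero_of_mem_nonZeroDivisors (hc i)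
  letI : Algebra R₁ k' := ((algebraMap K k').comp (algebraMap R₁ K)).toAlgebra
  haveI : IsScalarTower R₁ K k' := IsScalarTower.of_algebraMap_eq fun _ => rfl
  let β : Fin (Module.finrank K k') → k' := fun i => algebraMap R₁ k' (c i) * bs i
  have hβ : ∀ i, β i ^ q = algebraMap R₁ k' (c i ^ (q - 1) * u i) := fun i => by
    simp only [β, mul_pow, ← ha, map_mul, map_pow]
    rw [IsScalarTower.algebraMap_apply R₁ K k' (u i), show algebraMap R₁ K (u i) = algebraMap R₁ K (c i) * a i by
      rw [← hu i, mul_div_cancel₀ _ (hc0 i)], map_mul, ← IsScalarTower.algebraMap_apply, ← mul_assoc, ← pow_succ,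
      Nat.sub_add_cancel hq]
  let R' : Subalgebra R₁ k' := Algebra.adjoin R₁ (Set.range β)
  haveI : Algebra.FiniteType R₁ R' :=
    R'.fg_iff_finiteType.1 (Subalgebra.fg_def.2 ⟨_, Set.finite_range β, rfl⟩)
  haveI : IsNoetherianRing R' := Algebra.FiniteType.isNoetherianRing R₁ R'
  have hpow : ∀ x : R', ∃ r : R₁, algebraMap R₁ R' r = x ^ q := by
    rintro ⟨x, hx⟩
    suffices h : ∃ r : R₁, algebraMap R₁ k' r = x ^ q by
      obtain ⟨r, hr⟩ := h
      exact ⟨r, Subtype.ext hr⟩
    induction hx using Algebra.adjoin_induction with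
    | mem x hx => obtain ⟨i, rfl⟩ := hx; exact ⟨_, (hβ i).symm⟩
    | algebraMap r => exact ⟨r ^ q, map_pow _ _ _⟩
    | add x y _ _ hx hy =>
      obtain ⟨r, hr⟩ := hx; obtain ⟨s, hs⟩ := hy
      exact ⟨r + s, by rw [map_add, hr, hs, add_pow_expChar_pow]⟩
    | mul x y _ _ hx hy =>
      obtain ⟨r, hr⟩ := hx; obtain ⟨s, hs⟩ := hy
      exact ⟨r * s, by rw [map_mul, hr, hs, mul_pow]⟩
  haveI : FaithfulSMul R' k' := (faithfulSMul_iff_algebraMap_injective _ _).2 Subtype.val_injective
  have hden : ∀ z : k', ∃ d : R₁, d ≠ 0 ∧ algebraMap R₁ k' d * z ∈ R' := fun z => by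
    choose x y hy hxy using fun i => IsFractionRing.div_surjective R₁ (bs.repr z i)
    refine ⟨∏ i, (y i * c i), Finset.prod_ne_zero_iff.2 fun i _ => mul_ne_zero (nonZeroDivisors.ne_zero (hy i))
      (nonZeroDivisors.ne_zero (hc i)), ?_⟩
    rw [← bs.sum_repr z, Finset.mul_sum]
    refine R'.sum_mem fun i _ => ?_
    rw [← Finset.prod_erase_mul _ _ (Finset.mem_univ i), map_mul, Algebra.smul_def, ← hxy, map_div₀,
      ← IsScalarTower.algebraMap_apply, ← IsScalarTower.algebraMap_apply, map_mul (algebraMap R₁ k') (y i)]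
    have hy0 : algebraMap R₁ k' (y i) ≠ 0 := by
      rw [IsScalarTower.algebraMap_apply R₁ K k']
      exact (map_ne_zero _).2 (IsFractionRing.to_map_ne_zero_of_mem_nonZeroDivisors (hy i))
    have : algebraMap R₁ k' (∏ j ∈ Finset.univ.erase i, y j * c j) * (algebraMap R₁ k' (y i) * algebraMap R₁ k' (c i)) *
        (algebraMap R₁ k' (x i) / algebraMap R₁ k' (y i) * bs i) =
        algebraMap R₁ k' (∏ j ∈ Finset.univ.erase i, y j * c j) * algebraMap R₁ k' (x i) * β i := by
      simp only [β]; field_simp
    rw [this]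
    exact R'.mul_mem (R'.mul_mem (R'.algebraMap_mem _) (R'.algebraMap_mem _)) (Algebra.subset_adjoin ⟨i, rfl⟩)
  haveI : IsFractionRing R' k' := IsFractionRing.of_field R' k' fun z => by
    obtain ⟨d, hd, hdz⟩ := hden z
    refine ⟨⟨_, hdz⟩, algebraMap R₁ R' d, ?_⟩
    have hd0 : algebraMap R₁ k' d ≠ 0 := by
      rw [IsScalarTower.algebraMap_apply R₁ K k', map_ne_zero]
      exact (map_ne_zero_iff _ (IsFractionRing.injective R₁ K)).2 hd
    show z = algebraMap R₁ k' d * z / algebraMap R₁ k' d
    rw [mul_div_cancel_left₀ _ hd0]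
  -- the model over `R'`
  letI : Algebra R₁ K' := ((algebraMap K K').comp (algebraMap R₁ K)).toAlgebra
  haveI : IsScalarTower R₁ k' K' := IsScalarTower.of_algebraMap_eq fun r => IsScalarTower.algebraMap_apply K k' K' _
  haveI : IsScalarTower R₁ L K' := IsScalarTower.of_algebraMap_eq fun r => by
    rw [IsScalarTower.algebraMap_apply R₁ K L]
    exact IsScalarTower.algebraMap_apply K L K' _
  letI : Algebra B K' := ((algebraMap L K').comp (algebraMap B L)).toAlgebra
  haveI : IsScalarTower B L K' := IsScalarTower.of_algebraMap_eq fun _ => rfl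
  haveI : IsScalarTower R₁ B K' := IsScalarTower.of_algebraMap_eq fun r => by
    rw [IsScalarTower.algebraMap_apply R₁ L K', IsScalarTower.algebraMap_apply R₁ B L]
    rfl
  obtain ⟨T, hT⟩ := Algebra.FiniteType.out (R := R₁) (A := B)
  let B₁ : Subalgebra R' K' := Algebra.adjoin R' ((algebraMap B K') '' (T : Set B))
  haveI : Algebra.FiniteType R' B₁ :=
    B₁.fg_iff_finiteType.1 (Subalgebra.fg_def.2 ⟨_, T.finite_toSet.image _, rfl⟩)
  have hB : ∀ b : B, algebraMap B K' b ∈ B₁ := fun b => by
    have hb : b ∈ Algebra.adjoin R₁ (T : Set B) := hT ▸ trivial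
    induction hb using Algebra.adjoin_induction with
    | mem x hx => exact Algebra.subset_adjoin ⟨x, hx, rfl⟩
    | algebraMap r =>
      rw [← IsScalarTower.algebraMap_apply, IsScalarTower.algebraMap_apply R₁ R' K']
      exact B₁.algebraMap_mem _
    | add x y _ _ hx hy => rw [map_add]; exact B₁.add_mem hx hy
    | mul x y _ _ hx hy => rw [map_mul]; exact B₁.mul_mem hx hy
  let g : B →+* B₁ := (algebraMap B K').codRestrict B₁.toSubring hB
  letI : Algebra B B₁ := g.toAlgebra
  haveI : IsScalarTower B B₁ K' := IsScalarTower.of_algebraMap_eq fun _ => rfl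
  have hgR : ∀ r : R₁, g (algebraMap R₁ B r) = algebraMap R' B₁ (algebraMap R₁ R' r) := fun r => Subtype.ext <| by
    show algebraMap B K' (algebraMap R₁ B r) = algebraMap R' K' (algebraMap R₁ R' r)
    rw [← IsScalarTower.algebraMap_apply, ← IsScalarTower.algebraMap_apply]
  have hRint : ∀ x : R', IsIntegral B (algebraMap R' K' x) := fun x => by
    obtain ⟨r, hr⟩ := hpow x
    refine IsIntegral.of_pow hq ?_
    rw [← map_pow, ← hr, ← IsScalarTower.algebraMap_apply, IsScalarTower.algebraMap_apply R₁ B K']
    exact isIntegral_algebraMap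
  haveI : Algebra.IsIntegral B B₁ := ⟨fun ⟨x, hx⟩ => by
    refine (isIntegral_algebraMap_iff (R := B) (A := B₁) (B := K') Subtype.val_injective).1 ?_
    show IsIntegral B x
    induction hx using Algebra.adjoin_induction with
    | mem x hx => obtain ⟨b, -, rfl⟩ := hx; exact isIntegral_algebraMap
    | algebraMap r => exact hRint r
    | add x y _ _ hx hy => exact hx.add hy
    | mul x y _ _ hx hy => exact hx.mul hy⟩
  -- the generic fibre of the model is geometrically integral
  have hgen' : ∀ (M : Type u) [Field M] [Algebra k' M], IsDomain (M ⊗[R'] B₁) := by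
    intro M _ _
    let S₀ : IntermediateField L K' := IntermediateField.adjoin L (Set.range (algebraMap k' K'))
    let S : IntermediateField k' K' :=
      { S₀.toSubfield with algebraMap_mem' := fun x => subset_adjoin L _ ⟨x, rfl⟩ }
    haveI : ExpChar L p := expChar_of_injective_algebraMap (algebraMap K L).injective p
    haveI : IsPurelyInseparable L S₀ := (isPurelyInseparable_adjoin_iff_pow_mem L K' p).2 (by
      rintro _ ⟨x, rfl⟩
      obtain ⟨n, y, hy⟩ := IsPurelyInseparable.pow_mem K p x
      refine ⟨n, algebraMap K L y, ?_⟩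
      rw [← IsScalarTower.algebraMap_apply, ← map_pow, ← hy, ← IsScalarTower.algebraMap_apply])
    letI : Algebra L S := (inferInstance : Algebra L S₀)
    haveI : IsPurelyInseparable L S := (inferInstance : IsPurelyInseparable L S₀)
    haveI : IsScalarTower K k' S := IsScalarTower.of_algebraMap_eq fun x => Subtype.ext
      (IsScalarTower.algebraMap_apply K k' K' x)
    haveI : IsScalarTower K L S := IsScalarTower.of_algebraMap_eq fun x => Subtype.ext
      (IsScalarTower.algebraMap_apply K L K' x)
    have hirr : IrreducibleSpace (PrimeSpectrum (M ⊗[k'] S)) :=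
      (S2150.result (k := k') (K := S)).2 (fun α hα => sep_mem (F := L) hsep α hα) M
    haveI := isReduced_tensor_sub k' K' S M
    haveI : IsDomain (M ⊗[k'] S) := by
      haveI := hirr
      have hp : (nilradical (M ⊗[k'] S)).IsPrime := by
        rw [nilradical, ← PrimeSpectrum.vanishingIdeal_zeroLocus_eq_radical, ← PrimeSpectrum.isIrreducible_iff_vanishingIdeal_isPrime]
        simpa using IrreducibleSpace.isIrreducible_univ _
      rw [nilradical_eq_zero] at hp
      exact IsDomain.of_bot_isPrime (M ⊗[k'] S)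
    have hBS : ∀ x : B₁, (x : K') ∈ S := fun ⟨x, hx⟩ => by
      show x ∈ S
      induction hx using Algebra.adjoin_induction with
      | mem x hx => obtain ⟨b, -, rfl⟩ := hx; exact S₀.algebraMap_mem (algebraMap B L b)
      | algebraMap r => rw [IsScalarTower.algebraMap_apply R' k' K']; exact S.algebraMap_mem _
      | add x y _ _ hx hy => exact S.add_mem hx hy
      | mul x y _ _ hx hy => exact S.mul_mem hx hy
    let j : B₁ →ₐ[R'] S :=
      { toFun := fun x => ⟨x, hBS x⟩
        map_one' := rfl
        map_mul' := fun _ _ => rfl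
        map_zero' := rfl
        map_add' := fun _ _ => rfl
        commutes' := fun _ => Subtype.ext (IsScalarTower.algebraMap_apply R' k' K' _) }
    haveI : Module.Flat R' k' := IsLocalization.flat k' (nonZeroDivisors R')
    haveI : Module.Flat R' M := Module.Flat.trans R' k' M
    haveI := IsLocalization.tensorProduct_compatibleSMul (nonZeroDivisors R') k' M S
    let e' := Algebra.TensorProduct.equivOfCompatibleSMul R' k' k' M S
    let φ : M ⊗[R'] B₁ →ₐ[R'] M ⊗[R'] S := Algebra.TensorProduct.map (AlgHom.id R' M) j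
    have hφ : Function.Injective φ :=
      Module.Flat.lTensor_preserves_injective_linearMap j.toLinearMap (fun a b h => Subtype.ext (congrArg (fun z : S => (z : K')) h))
    haveI : IsDomain (M ⊗[R'] S) := e'.symm.toRingEquiv.injective.isDomain e'.symm.toRingEquiv.toRingHom
    exact hφ.isDomain φ.toRingHom
  have hgen : ∀ (M : Type u) [Field M] [Algebra R' M], Function.Injective (algebraMap R' M) →
      IsDomain (M ⊗[R'] B₁) := by
    intro M _ iM hM
    suffices key : ∀ alg : Algebra k' M, (∀ r : R', @algebraMap R' M _ _ iM r = @algebraMap k' M _ _ alg r) →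
        @IsDomain (@TensorProduct R' _ M B₁ _ _ (@Algebra.toModule _ _ _ _ iM) _) _ from
      key ((IsFractionRing.lift (K := k') hM).toAlgebra) fun r => (IsFractionRing.lift_algebraMap hM r).symm
    intro alg he
    clear hM
    obtain rfl : iM = R'.toAlgebra := Algebra.algebra_ext _ _ he
    exact hgen' M
  obtain ⟨f', hf', hspread⟩ := RG11.exists_spread_geomIntegral hgen
  obtain ⟨f, hf⟩ := hpow f'
  refine ⟨f, fun h => hf' ?_, fun P P' _ _ heq hfP => ?_⟩
  · rw [h, map_zero] at hf
    exact eq_zero_of_pow_eq_zero hf.symm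
  have hgi : Function.Injective (algebraMap B B₁) := fun x y hxy => by
    have : algebraMap L K' (algebraMap B L x) = algebraMap L K' (algebraMap B L y) := congrArg Subtype.val hxy
    exact IsFractionRing.injective B L ((algebraMap L K').injective this)
  obtain ⟨Q, -, hQ, hQP⟩ := Ideal.exists_ideal_over_prime_of_isIntegral P (⊥ : Ideal B₁) (by
    rw [← RingHom.ker_eq_comap_bot, (RingHom.injective_iff_ker_eq_bot _).1 hgi]; exact bot_le)
  obtain ⟨Q', -, hQ', hQP'⟩ := Ideal.exists_ideal_over_prime_of_isIntegral P' (⊥ : Ideal B₁) (by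
    rw [← RingHom.ker_eq_comap_bot, (RingHom.injective_iff_ker_eq_bot _).1 hgi]; exact bot_le)
  have hmem : ∀ (W : Ideal B₁) (V : Ideal B), W.IsPrime → W.comap g = V → ∀ x : R',
      x ∈ W.comap (algebraMap R' B₁) ↔ ∃ r : R₁, algebraMap R₁ R' r = x ^ q ∧ r ∈ V.comap (algebraMap R₁ B) := by
    intro W V hW hWV x
    constructor
    · intro hx
      obtain ⟨r, hr⟩ := hpow x
      refine ⟨r, hr, ?_⟩
      rw [← hWV, Ideal.mem_comap, Ideal.mem_comap, hgR, hr, map_pow]
      exact W.pow_mem_of_mem hx q hq
    · rintro ⟨r, hr, hrV⟩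
      rw [← hWV, Ideal.mem_comap, Ideal.mem_comap, hgR, hr, map_pow] at hrV
      exact hW.mem_of_pow_mem q hrV
  let t' := Q.comap (algebraMap R' B₁)
  haveI : t'.IsPrime := Ideal.IsPrime.comap _
  have htt : Q'.comap (algebraMap R' B₁) = t' := Ideal.ext fun x => by
    rw [hmem Q' P' hQ' hQP' x, hmem Q P hQ hQP x, heq]
  have hf't : f' ∉ t' := fun h => hfP (by
    obtain ⟨r, hr, hrP⟩ := (hmem Q P hQ hQP f').1 h
    rw [← hf] at hr
    rwa [(FaithfulSMul.algebraMap_injective R₁ K |> fun hi => show Function.Injective (algebraMap R₁ R') from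
      fun a b hab => hi ((algebraMap K k').injective (congrArg Subtype.val hab))) hr] at hrP)
  let M := t'.ResidueField
  haveI : IsDomain (M ⊗[R'] B₁) := hspread M (by rwa [Ne, Ideal.algebraMap_residueField_eq_zero])
  haveI : Nontrivial (M ⊗[R'] B₁) := IsDomain.toNontrivial
  let ψ : B₁ →ₐ[R'] M ⊗[R'] B₁ := Algebra.TensorProduct.includeRight
  let Q₀ : Ideal B₁ := RingHom.ker ψ
  haveI : Q₀.IsPrime := RingHom.ker_isPrime _
  have hQ₀R : Q₀.comap (algebraMap R' B₁) = t' := Ideal.ext fun x => by
    rw [Ideal.mem_comap, RingHom.mem_ker, AlgHom.commutes, IsScalarTower.algebraMap_apply R' M (M ⊗[R'] B₁),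
      map_eq_zero_iff _ (algebraMap M (M ⊗[R'] B₁)).injective, Ideal.algebraMap_residueField_eq_zero]
  have hle : ∀ W : Ideal B₁, W.IsPrime → W.comap (algebraMap R' B₁) = t' → Q₀ ≤ W := by
    intro W hW hWt x hx
    haveI := hW
    let σ : B₁ →ₐ[R'] W.ResidueField := { algebraMap B₁ W.ResidueField with commutes' := fun r => (IsScalarTower.algebraMap_apply R' B₁ W.ResidueField r).symm }
    let τ : M →ₐ[R'] W.ResidueField :=
      Ideal.ResidueField.mapₐ t' W (Algebra.ofId R' B₁) hWt.symm
    let Φ : M ⊗[R'] B₁ →ₐ[R'] W.ResidueField := Algebra.TensorProduct.lift τ σ fun _ _ => Commute.all _ _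
    have h1 : σ x = 0 := by
      have h2 : Φ (ψ x) = σ x := by
        show Algebra.TensorProduct.lift τ σ _ ((1 : M) ⊗ₜ[R'] x) = _
        rw [Algebra.TensorProduct.lift_tmul, map_one, one_mul]
      rw [← h2, show ψ x = 0 from hx, map_zero]
    exact (Ideal.algebraMap_residueField_eq_zero).1 h1
  refine ⟨Q₀.comap g, Ideal.IsPrime.comap _, ?_, hQP ▸ Ideal.comap_mono (hle Q hQ rfl),
    hQP' ▸ Ideal.comap_mono (hle Q' hQ' htt)⟩
  ext r
  rw [← hQP]
  simp only [Ideal.mem_comap, RingHom.algebraMap_toAlgebra, hgR]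
  exact Ideal.ext_iff.1 hQ₀R (algebraMap R₁ R' r)

end Groth.Agent.ArSurfBase.IrredSpread
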