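import Groth.Agent.ArSurfBase.IdealStep
import Groth.Agent.ArSurfBase.P1Base
import Groth.Agent.ArSurfBase.Decomp
import Groth.Agent.S6540
import Groth.Agent.SurfInt.DivSection
import Groth.Agent.VarBase.GenCurves

/-! # Twisting by a projective line of negative self-intersection -/

set_option autoImplicit false
set_option linter.style.haveILetI false
set_option linter.unusedSectionVars false
set_option backward.isDefEq.respectTransparency false
set_option backward.isDefEq.respectTransparency.types false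

universe u

open CategoryTheory CategoryTheory.Limits AlgebraicGeometry TopologicalSpace
open Groth.Agent.PnCoh.Finite (mapLin)
open Groth.Agent.H23.TrivBasic (locus locus_eq_basicOpen)
open Groth.Agent.H23 Groth.Agent.H23.PicMul

namespace Groth.Agent.ArSurfBase.LineTwist

theorem locus_eq {X : Scheme.{u}} {M : X.Modules} (t : Γ(M, ⊤)) : locus t = AmpleX.locus t := by
  rw [show locus t = CohB1.genLocus M (InvX.ofSect t) from rfl, AmpleX.genLocus_eq_locus, InvX.one_ofSect]

/-- Degrees over a subfield of the field of definition of a projective line. -/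
theorem curveDeg_line {k κ : Type u} [Field k] [Field κ] [Algebra k κ] {E : Scheme.{u}}
    [E.Over (Spec (CommRingCat.of k))] (e : CohB1.ProjSpace 1 κ ≅ E)
    (he : e.hom ≫ (E ↘ Spec (CommRingCat.of k)) =
      CohB1.ProjSpace.toSpec 1 κ ≫ Spec.map (CommRingCat.ofHom (algebraMap k κ)))
    (M : E.Modules) (hM : PicF.IsInvertible M) :
    ArSurf.curveDeg k E M = (Module.finrank k κ : ℤ) *
      ArSurf.curveDeg κ (CohB1.ProjSpace 1 κ) ((Scheme.Modules.pullback e.hom).obj M) := by
  letI ik : (CohB1.ProjSpace 1 κ).Over (Spec (CommRingCat.of k)) :=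
    ⟨CohB1.ProjSpace.toSpec 1 κ ≫ Spec.map (CommRingCat.ofHom (algebraMap k κ))⟩
  haveI : IsProper (CohB1.ProjSpace.toSpec 1 κ) := PnCoh.Chow.isProper_toSpec 1 κ
  haveI : CompactSpace ↥(CohB1.ProjSpace 1 κ) :=
    QuasiCompact.compactSpace_of_compactSpace (CohB1.ProjSpace.toSpec 1 κ)
  haveI : CompactSpace E := e.hom.homeomorph.compactSpace
  haveI : (CohB1.ProjSpace 1 κ).IsSeparated := ⟨by
    rw [← Limits.terminal.comp_from (CohB1.ProjSpace.toSpec 1 κ)]; infer_instance⟩
  haveI : E.IsSeparated := ⟨by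
    rw [← Limits.terminal.comp_from e.inv]; infer_instance⟩
  have hpb : IsPullback e.hom ((CohB1.ProjSpace 1 κ) ↘ Spec (CommRingCat.of k))
      (E ↘ Spec (CommRingCat.of k)) (Spec.map (CommRingCat.ofHom (algebraMap k k))) := by
    have hid : CommRingCat.ofHom (algebraMap k k) = 𝟙 (CommRingCat.of k) := rfl
    haveI : IsIso (Spec.map (CommRingCat.ofHom (algebraMap k k))) := by
      rw [hid]; infer_instance
    refine IsPullback.of_horiz_isIso ⟨?_⟩
    rw [hid, Spec.map_id, Category.comp_id]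
    exact he
  have hres := finrank_HH_restrict (k := k) (κ := κ) (CohB1.ProjSpace 1 κ) rfl
  simp only [ArSurf.curveDeg, FGA.eulerCharLE, Finset.sum_range_succ, Finset.sum_range_zero, zero_add,
    ← CurveBC.finrank_hh k k e.hom hpb M (ProjUPX.isQCoh_of_isInvertible hM),
    ← CurveBC.finrank_hh_unit k k e.hom hpb, hres]
  push_cast
  ring

section Global

variable {X : Scheme.{u}} {A : Type u} [CommRing A] [X.Over (Spec (CommRingCat.of A))]
  {κ : Type u} [Field κ] (j : CohB1.ProjSpace 1 κ ⟶ X) [IsClosedImmersion j]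

theorem subsingleton_quot_tw {M : X.Modules} (hM : PicF.IsInvertible M)
    (hdeg : -1 ≤ ArSurf.curveDeg κ (CohB1.ProjSpace 1 κ) ((Scheme.Modules.pullback j).obj M)) :
    Subsingleton (Coh.HH X (CohB1.tensorMod (ClSub.quotMod j.ker) M) 1) := by
  haveI : IsProper ((CohB1.ProjSpace 1 κ) ↘ Spec (CommRingCat.of κ)) := PnCoh.Chow.isProper_toSpec 1 κ
  haveI := CurveCohLib.isNoetherian_of_proper (k := κ) (X := CohB1.ProjSpace 1 κ)
  have hL := PicClLib.isInvertible_pullback j hM
  haveI := IdealStep.subsingleton_h1_line κ hL hdeg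
  obtain ⟨e⟩ := SurfInt.nonempty_quotMod_ker j
  obtain ⟨e'⟩ := QCoh.HH_push_of_isAffineHom j (CurveDeg.isCoh_of_isInvertible hL).1 1
  haveI : Subsingleton (Coh.HH X ((Coh.push j).obj ((Scheme.Modules.pullback j).obj M)) 1) :=
    e'.symm.toEquiv.subsingleton
  exact QCoh.subsingleton_HH_of_iso ((SurfInt.tMapL e _ ≪≫ SurfInt.pushTensorIso j _).symm) 1
    ‹Subsingleton (Coh.HH X ((Coh.push j).obj ((Scheme.Modules.pullback j).obj M)) 1)›

include A in
theorem subsingleton_step {M : X.Modules} (hM : PicF.IsInvertible M)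
    (h : Subsingleton (Coh.HH X (CohB1.tensorMod (ClSub.idealMod j.ker) M) 1))
    (hdeg : -1 ≤ ArSurf.curveDeg κ (CohB1.ProjSpace 1 κ) ((Scheme.Modules.pullback j).obj M)) :
    Subsingleton (Coh.HH X M 1) := by
  haveI := AmpleVan.isEquivalence_tw hM
  haveI : (AmpleVan.tw M).Additive := Functor.additive_of_preserves_binary_products _
  let t := (AmpleVan.tw M).map (ClSub.idealModι j.ker)
  have hs : Function.Surjective (mapLin A t 1) :=
    BaseSection.surjective_mapLin_f A ((SurfInt.idealSeq_shortExact j.ker).map_of_exact (AmpleVan.tw M))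
      (subsingleton_quot_tw j hM hdeg)
  haveI : Subsingleton (Coh.HH X ((AmpleVan.tw M).obj (Coh.structureModule X)) 1) := by
    haveI : Subsingleton (Coh.HH X ((AmpleVan.tw M).obj (ClSub.idealMod j.ker)) 1) := h
    exact hs.subsingleton
  exact QCoh.subsingleton_HH_of_iso (SurfInt.tUnitL M) 1
    ‹Subsingleton (Coh.HH X ((AmpleVan.tw M).obj (Coh.structureModule X)) 1)›

include A in
theorem exists_locus_of_trivial {M : X.Modules} (hM : PicF.IsInvertible M)
    (h : Subsingleton (Coh.HH X (CohB1.tensorMod (ClSub.idealMod j.ker) M) 1))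
    (e : (Scheme.Modules.pullback j).obj M ≅ Coh.structureModule (CohB1.ProjSpace 1 κ))
    (p : ↥(CohB1.ProjSpace 1 κ)) : ∃ t : Γ(M, ⊤), j p ∈ locus t := by
  haveI := AmpleVan.isEquivalence_tw hM
  haveI : (AmpleVan.tw M).Additive := Functor.additive_of_preserves_binary_products _
  have hS := (SurfInt.idealSeq_shortExact j.ker).map_of_exact (AmpleVan.tw M)
  haveI : Subsingleton (Coh.HH X ((SurfInt.idealSeq j.ker).map (AmpleVan.tw M)).X₁ 1) := h
  have hsurj := BaseSection.app_top_surjective_of_injective A hS (fun a b _ => Subsingleton.elim a b)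
  obtain ⟨q⟩ := SurfInt.nonempty_quotMod_ker j
  let Ψ : CohB1.tensorMod (ClSub.quotMod j.ker) M ≅ (Coh.push j).obj (Coh.structureModule (CohB1.ProjSpace 1 κ)) :=
    SurfInt.tMapL q _ ≪≫ SurfInt.pushTensorIso j M ≪≫ (Coh.push j).mapIso e
  let φ : M ⟶ (Coh.push j).obj (Coh.structureModule (CohB1.ProjSpace 1 κ)) :=
    (SurfInt.tUnitL M).inv ≫ ((SurfInt.idealSeq j.ker).map (AmpleVan.tw M)).g ≫ Ψ.hom
  let one' : Γ((Coh.push j).obj (Coh.structureModule (CohB1.ProjSpace 1 κ)), ⊤) :=
    show Γ(CohB1.ProjSpace 1 κ, j ⁻¹ᵁ ⊤) from 1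
  obtain ⟨u, hu⟩ := hsurj (Ψ.inv.app ⊤ one')
  have hid : ∀ {P Q : X.Modules} (f : P ≅ Q) (W : X.Opens) (z : Γ(Q, W)), f.hom.app W (f.inv.app W z) = z :=
    fun f W z => by
      rw [← ConcreteCategory.comp_apply, ← Scheme.Modules.Hom.comp_app, f.inv_hom_id]
      rfl
  have hφ : φ.app ⊤ ((SurfInt.tUnitL M).hom.app ⊤ u) = one' := by
    show Ψ.hom.app ⊤ (((SurfInt.idealSeq j.ker).map (AmpleVan.tw M)).g.app ⊤
      ((SurfInt.tUnitL M).inv.app ⊤ ((SurfInt.tUnitL M).hom.app ⊤ u))) = one'
    refine Eq.trans (congrArg (fun z => Ψ.hom.app ⊤ (((SurfInt.idealSeq j.ker).map (AmpleVan.tw M)).g.app ⊤ z))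
      (hid (SurfInt.tUnitL M).symm ⊤ u)) ?_
    exact (congrArg (fun z => Ψ.hom.app ⊤ z) hu).trans (hid Ψ ⊤ one')
  refine ⟨(SurfInt.tUnitL M).hom.app ⊤ u, by_contra fun hx => ?_⟩
  set s := (SurfInt.tUnitL M).hom.app ⊤ u
  obtain ⟨U, hxU, f, hf⟩ := InvX.exists_frame hM (j p)
  obtain ⟨g, hg⟩ := hf.exists_coord le_rfl (AModX.res M (le_top : U ≤ ⊤) s)
  rw [AModX.res_self] at hg
  have hng : j p ∉ X.basicOpen g := fun h' => hx (by
    rw [← locus_eq_basicOpen hf hg] at h'
    exact h'.1)
  refine hng ?_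
  have h1 : φ.app U (AModX.res M (le_top : U ≤ ⊤) s) =
      AModX.res _ (le_top : U ≤ ⊤) one' :=
    (AModX.app_res φ (le_top : U ≤ ⊤) s).trans (congrArg _ hφ)
  rw [hg, Scheme.Modules.Hom.app_smul] at h1
  let a : Γ(CohB1.ProjSpace 1 κ, j ⁻¹ᵁ U) := φ.app U f
  have h2 : j.app U g * a = 1 := h1.trans (map_one ((CohB1.ProjSpace 1 κ).presheaf.map
    ((TopologicalSpace.Opens.map j.base).map (homOfLE (le_top : U ≤ ⊤))).op).hom)
  have hu' : IsUnit (j.app U g) := IsUnit.of_mul_eq_one a h2
  have h3 : p ∈ (CohB1.ProjSpace 1 κ).basicOpen (j.app U g) := by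
    rw [Scheme.basicOpen_of_isUnit _ hu']
    exact hxU
  rwa [← Scheme.preimage_basicOpen] at h3

end Global

variable {R : Type u} [CommRing R] [IsDomain R] [IsDiscreteValuationRing R]
  {X : Over (Spec (CommRingCat.of R))}

/-- `H¹`-vanishing and global generation after twisting by multiples of a negative line. -/
theorem twist (hX : ArSurf.IsArithSurface R X) (E : ArSurf.VertComp R X)
    {k' : Type u} [Field k'] [Algebra (IsLocalRing.ResidueField R) k']
    (e : E.curve.left ≅ CohB1.ProjSpace 1 k')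
    (he : e.hom ≫ CohB1.ProjSpace.toSpec 1 k' ≫
        Spec.map (CommRingCat.ofHom (algebraMap (IsLocalRing.ResidueField R) k')) = E.curve.hom)
    {LE : X.left.Modules} (hLEi : ClSub.IsInverseOf LE (ClSub.idealMod E.ι.ker))
    (hneg : ArSurf.inter R X LE E < 0) {LH : X.left.Modules} (hLH : PicF.IsInvertible LH)
    (h1 : Subsingleton (Coh.HH X.left LH 1)) :
    (∀ i : ℕ, (i : ℤ) * (-ArSurf.inter R X LE E) ≤ ArSurf.inter R X LH E →
        Subsingleton (Coh.HH X.left (CohB1.tensorMod LH (CohB1.tensorPow LE i)) 1)) ∧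
      ∀ r : ℕ, Curv2.IsGloballyGenerated LH → ArSurf.inter R X LH E = (r : ℤ) * (-ArSurf.inter R X LE E) →
        Nonempty ((Scheme.Modules.pullback E.ι).obj (CohB1.tensorMod LH (CohB1.tensorPow LE r)) ≅
            Coh.structureModule E.curve.left) ∧
          Curv2.IsGloballyGenerated (CohB1.tensorMod LH (CohB1.tensorPow LE r)) := by
  haveI := hX.2.1
  haveI := hX.2.2.2.1
  haveI := isProper_of_isArithSurface hX
  letI : X.left.Over (Spec (CommRingCat.of R)) := ⟨X.hom⟩
  haveI : IsLocallyNoetherian X.left := LocallyOfFiniteType.isLocallyNoetherian X.hom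
  have hJ : BlowUp.IsEffCartierIdeal E.ι.ker := isEffCartier_ker E hX.2.2.1 hX.1
  have hJi := SurfInt.isInvertible_idealMod hJ
  have hLE := SurfInt.isInvertible_of_inverseOf_right hJi hLEi
  let j : CohB1.ProjSpace 1 k' ⟶ X.left := e.inv ≫ E.ι
  haveI : IsClosedImmersion j := inferInstanceAs (IsClosedImmersion (e.inv ≫ E.ι))
  have hker : j.ker = E.ι.ker := Scheme.Hom.ker_comp_of_isIso e.inv E.ι
  have hinter : ∀ M : X.left.Modules, PicF.IsInvertible M →
      ArSurf.inter R X M E = (Module.finrank (IsLocalRing.ResidueField R) k' : ℤ) *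
        ArSurf.curveDeg k' (CohB1.ProjSpace 1 k') ((Scheme.Modules.pullback j).obj M) := fun M hM => by
    rw [ArSurf.inter, curveDeg_line e.symm (by
      show e.inv ≫ E.curve.hom = _
      rw [← he, e.inv_hom_id_assoc]) _ (PicClLib.isInvertible_pullback E.ι hM),
      curveDeg_congr (M := (Scheme.Modules.pullback e.symm.hom).obj ((Scheme.Modules.pullback E.ι).obj M))
        ((Scheme.Modules.pullbackComp e.inv E.ι).app M)]
  have hf : 0 < (Module.finrank (IsLocalRing.ResidueField R) k' : ℤ) := by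
    rcases Nat.eq_zero_or_pos (Module.finrank (IsLocalRing.ResidueField R) k') with h0 | h0
    · rw [hinter LE hLE, h0] at hneg
      simp at hneg
    · exact_mod_cast h0
  let N : ℕ → X.left.Modules := fun i => CohB1.tensorMod LH (CohB1.tensorPow LE i)
  have hN : ∀ i, PicF.IsInvertible (N i) := fun i => isInvertible_tensor hLH (isInvertible_tensorPow hLE i)
  have hint : ∀ i : ℕ, ArSurf.inter R X (N i) E = ArSurf.inter R X LH E + i * ArSurf.inter R X LE E := fun i => by
    rw [inter_tensor E hLH (isInvertible_tensorPow hLE i)]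
    congr 1
    induction i with
    | zero => rw [Nat.cast_zero, zero_mul]; exact inter_structureModule E
    | succ n ih =>
      show ArSurf.inter R X (CohB1.tensorMod (CohB1.tensorPow LE n) LE) E = _
      rw [inter_tensor E (isInvertible_tensorPow hLE n) hLE, ih]
      push_cast; ring
  have hcl : ∀ i, Nonempty (CohB1.tensorMod (ClSub.idealMod j.ker) (N (i + 1)) ≅ N i) := fun i => by
    refine cl_eq_iff.1 ?_
    have hinv : PicF.cl LE * PicF.cl (ClSub.idealMod E.ι.ker) = 1 := by
      rw [← cl_tensor, PicMul.one_def]; exact cl_eq_iff.2 hLEi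
    rw [hker, cl_tensor, cl_tensor, cl_tensor, cl_tensorPow, cl_tensorPow, pow_succ]
    calc PicF.cl (ClSub.idealMod E.ι.ker) * (PicF.cl LH * (PicF.cl LE ^ i * PicF.cl LE))
        = PicF.cl LH * PicF.cl LE ^ i * (PicF.cl LE * PicF.cl (ClSub.idealMod E.ι.ker)) := by ac_rfl
      _ = _ := by rw [hinv, mul_one]
  have hvan : ∀ i : ℕ, (i : ℤ) * (-ArSurf.inter R X LE E) ≤ ArSurf.inter R X LH E →
      Subsingleton (Coh.HH X.left (N i) 1) := by
    intro i
    induction i with
    | zero =>
      intro _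
      refine QCoh.subsingleton_HH_of_iso (cl_eq_iff.1 ?_).some 1 h1
      rw [cl_tensor, cl_tensorPow, pow_zero, mul_one]
    | succ n ih =>
      intro hle
      push_cast at hle
      have hn : Subsingleton (Coh.HH X.left (N n) 1) := ih (by nlinarith)
      refine subsingleton_step (A := R) j (hN _)
        (QCoh.subsingleton_HH_of_iso (hcl n).some.symm 1 hn) ?_
      have h2 : 0 ≤ ArSurf.inter R X (N (n + 1)) E := by rw [hint]; push_cast; nlinarith
      rw [hinter _ (hN _)] at h2
      have := nonneg_of_mul_nonneg_right (by rwa [mul_comm] at h2) hf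
      omega
  refine ⟨hvan, fun r hgg hr => ?_⟩
  let P := CohB1.ProjSpace 1 k'
  haveI : IsIntegral P := H23.PnChart.isIntegral_projSpace 1 k'
  haveI : IsProper (P ↘ Spec (CommRingCat.of k')) := PnCoh.Chow.isProper_toSpec 1 k'
  haveI := CurveCohLib.isNoetherian_of_proper (k := k') (X := P)
  have hdimP : topologicalKrullDim P = 1 := by simpa using S10829.result k' 1
  obtain ⟨et⟩ : Nonempty ((Scheme.Modules.pullback j).obj (N r) ≅ Coh.structureModule P) := by
    have hd0 : ArSurf.curveDeg k' P ((Scheme.Modules.pullback j).obj (N r)) = 0 := by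
      have h0 : ArSurf.inter R X (N r) E = 0 := by rw [hint, hr]; ring
      rw [hinter _ (hN r)] at h0
      exact (mul_eq_zero.1 h0).resolve_left hf.ne'
    obtain ⟨a0, a1, -, -⟩ := finrank_line k'
    have hinv := PicClLib.isInvertible_pullback j (hN r)
    exact S6540.result k' P hdimP a0 a1 _ hinv
      (by rw [← curveDeg_eq_deg hdimP.le (CurveDeg.isCoh_of_isInvertible hinv).1]; exact hd0)
  refine ⟨?_, ?_⟩
  · obtain ⟨u⟩ := PicClLib.nonempty_pullback_structureModule e.hom
    exact ⟨((Scheme.Modules.pullbackId E.curve.left).symm.app _) ≪≫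
      (Scheme.Modules.pullbackCongr e.hom_inv_id.symm).app _ ≪≫
      ((Scheme.Modules.pullbackComp e.hom e.inv).app _).symm ≪≫
      (Scheme.Modules.pullback e.hom).mapIso (((Scheme.Modules.pullbackComp e.inv E.ι).app (N r)) ≪≫ et) ≪≫ u⟩
  obtain ⟨s, hs⟩ := SurfInt.exists_divisor_section E.ι.ker hJ hLE hLEi
  have key : ∀ x : X.left, ∃ t : Γ(N r, ⊤), x ∈ locus t := by
    intro x
    by_cases hx : x ∈ E.ι.ker.support
    · obtain ⟨c, rfl⟩ : x ∈ supp E := (support_ker E).le hx
      have hc : j (e.hom c) = E.ι c := by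
        rw [← Scheme.Hom.comp_apply]
        show ((e.hom ≫ e.inv ≫ E.ι : _ ⟶ _)) c = _
        rw [e.hom_inv_id_assoc]
      cases r with
      | zero =>
        obtain ⟨t, ht⟩ := VarBase.exists_mem_locus hLH hgg (E.ι c)
        obtain ⟨t', ht'⟩ := AmpleX.exists_locus_cl (N := N 0)
          (show PicF.cl LH = PicF.cl (N 0) by rw [cl_tensor, cl_tensorPow, pow_zero, mul_one]) t
        exact ⟨t', by rw [locus_eq, ht', ← locus_eq]; exact ht⟩
      | succ n =>
        obtain ⟨t, ht⟩ := exists_locus_of_trivial (A := R) j (hN _)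
          (QCoh.subsingleton_HH_of_iso (hcl n).some.symm 1 (hvan n (by push_cast at hr; nlinarith))) et (e.hom c)
        exact ⟨t, hc ▸ ht⟩
    · obtain ⟨t, ht⟩ := VarBase.exists_mem_locus hLH hgg x
      rw [locus_eq] at ht
      have hpow : ∀ i, ∃ w : Γ(CohB1.tensorPow LE i, ⊤), x ∈ AmpleX.locus w := fun i => by
        induction i with
        | zero =>
          refine ⟨(show Γ(X.left, ⊤) from 1), ?_⟩
          exact AmpleX.le_locus (V := (⊤ : X.left.Opens)) _ le_top ((InvX.isFrame_one ⊤).res le_top) trivial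
        | succ i ih =>
          obtain ⟨w, hw⟩ := ih
          refine ⟨InvX.tmul w s, ?_⟩
          rw [AmpleX.locus_tmul (isInvertible_tensorPow hLE i) hLE]
          exact ⟨hw, (hs x).2 hx⟩
      obtain ⟨w, hw⟩ := hpow r
      refine ⟨InvX.tmul t w, ?_⟩
      rw [locus_eq, AmpleX.locus_tmul hLH (isInvertible_tensorPow hLE r)]
      exact ⟨ht, hw⟩
  choose t ht using key
  exact InvX.isGloballyGenerated_of_generated (s := t) (AVAmple.generatedBy_of_locus t fun x => ⟨x, ht x⟩)

end Groth.Agent.ArSurfBase.LineTwist
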