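import Groth.Agent.ArSurfBase.QuadAlg
import Groth.Agent.ArSurfBase.Birat
import Groth.Agent.ArSurfBase.CodimOne
import Groth.Agent.ArSurfBase.Topo
import Groth.Agent.DivX.CodimOne
import Groth.Agent.SchTop.Closed

/-! # A birational morphism with a positive dimensional fibre makes the point ideal invertible -/

set_option autoImplicit false
set_option linter.style.haveILetI false
set_option linter.unusedSectionVars false
set_option backward.isDefEq.respectTransparency false
set_option backward.isDefEq.respectTransparency.types false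

universe u

open CategoryTheory AlgebraicGeometry IsLocalRing TopologicalSpace

namespace Groth.Agent.ArSurfBase

open Groth.Agent.CDivEq (stk)

variable {X Y : Scheme.{u}}

theorem coheight_eq_one_of_middle [IsIntegral X] (hdim : topologicalKrullDim X ≤ 2) {ξ x : X}
    (hξ : ξ ≠ genericPoint X) (h : ξ ⤳ x) (hne : ξ ≠ x) : Order.coheight ξ = 1 := by
  refine le_antisymm ?_ (Order.one_le_iff_pos.2 (Order.coheight_pos.2 fun hm => hξ
    ((genericPoint_specializes ξ).antisymm (Scheme.le_iff_specializes.1 (hm (Scheme.le_iff_specializes.2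
      (genericPoint_specializes ξ))))).eq.symm))
  rw [← Nat.cast_one, Order.coheight_le_coe_iff]
  intro y hy
  have : Order.coheight y = 0 := by
    rw [Order.coheight_eq_zero]
    intro w _
    refine Scheme.le_iff_specializes.2 ?_
    by_cases e : y = genericPoint X
    · exact e ▸ genericPoint_specializes w
    · exact absurd (middle_eq_of_chain hdim (genericPoint_specializes y) (Ne.symm e)
        (Scheme.le_iff_specializes.1 hy.le) h hne) hy.ne'
  rw [this]
  exact Nat.cast_pos.2 one_pos

/-- The ideal of a closed point is the maximal ideal of the stalk there. -/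
theorem stk_vanishingIdeal_point {y : Y} (hy : IsClosed ({y} : Set Y)) (U : Y.affineOpens) (hU : y ∈ U.1) :
    stk (Scheme.IdealSheafData.vanishingIdeal ⟨{y}, hy⟩) U hU = maximalIdeal _ := by
  set I := Scheme.IdealSheafData.vanishingIdeal (⟨{y}, hy⟩ : Closeds Y)
  have hsupp : (I.support : Set Y) = {y} := by simp [I]
  have hrad : (stk I U hU).IsRadical := by
    have h1 : (I.ideal U).radical = I.ideal U := by
      have h2 : Scheme.IdealSheafData.vanishingIdeal I.support = I := by
        congr 1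
      conv_rhs => rw [← h2, Scheme.IdealSheafData.vanishingIdeal_support, Scheme.IdealSheafData.radical_ideal]
    letI := Y.presheaf.algebra_section_stalk (U := U.1) ⟨_, hU⟩
    haveI := U.2.isLocalization_stalk ⟨_, hU⟩
    show ((I.ideal U).map (algebraMap Γ(Y, U.1) _)).IsRadical
    rw [← Ideal.radical_eq_iff, ← IsLocalization.map_radical (U.2.primeIdealOf ⟨_, hU⟩).asIdeal.primeCompl, h1]
  have hne : stk I U hU ≠ ⊤ := (CDivEq.mem_support_iff I U hU).1 (hsupp ▸ rfl)
  refine le_antisymm (le_maximalIdeal hne) ?_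
  rw [← hrad.radical, Ideal.radical_eq_sInf]
  refine le_sInf fun Q hQ => ?_
  haveI := hQ.2
  obtain ⟨z, hz, hzQ⟩ := H23.StalkPrimes.exists_point Q
  have hzU : z ∈ U.1 := hz.mem_open U.1.isOpen hU
  have hzs : z ∈ (I.support : Set Y) := by
    rw [CDivEq.mem_support_iff I U hzU]
    have e1 : stk I U hzU = (stk I U hU).map (Y.presheaf.stalkSpecializes hz).hom := by
      rw [stk, stk, Ideal.map_map, ← CommRingCat.hom_comp, Y.presheaf.germ_stalkSpecializes]
    rw [e1]
    intro htop
    have : (Y.presheaf.stalkSpecializes hz).hom '' (stk I U hU : Set _) ⊆ (maximalIdeal (Y.presheaf.stalk z) : Set _) := by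
      rintro _ ⟨a, ha, rfl⟩
      exact (mem_maximalIdeal _).2 ((CDiv6.mem_primeOf hz a).1 (hzQ.symm ▸ hQ.1 ha))
    have h3 : (stk I U hU).map (Y.presheaf.stalkSpecializes hz).hom ≤ maximalIdeal _ := Ideal.span_le.2 this
    rw [htop] at h3
    exact (maximalIdeal.isMaximal _).ne_top (top_le_iff.1 h3)
  rw [hsupp] at hzs
  obtain rfl : z = y := hzs
  intro a ha
  rw [← hzQ, CDiv6.mem_primeOf, TopCat.Presheaf.stalkSpecializes_refl]
  exact (mem_maximalIdeal _).1 ha

/-- The stalk of an inverse image ideal. -/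
theorem stk_comap (f : X ⟶ Y) (I : Y.IdealSheafData) {x : X} (U : Y.affineOpens) (V : X.affineOpens)
    (e : V.1 ≤ f ⁻¹ᵁ U.1) (hx : x ∈ V.1) :
    stk (I.comap f) V hx = (stk I U (e hx)).map (f.stalkMap x).hom := by
  rw [stk, stk, ModPairLib.ideal_comap I f U V e, Ideal.map_map, Ideal.map_map, ← CommRingCat.hom_comp,
    ← CommRingCat.hom_comp]
  congr 2
  rw [Scheme.Hom.appLE, Category.assoc, TopCat.Presheaf.germ_res]
  exact (Scheme.Hom.germ_stalkMap f U.1 x (e hx)).symm

/-- An ideal sheaf with invertible stalks is invertible. -/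
theorem isEffCartier_of_stk [IsIntegral X] [IsLocallyNoetherian X] (I : X.IdealSheafData)
    (h : ∀ (x : X) (U : X.affineOpens) (hx : x ∈ U.1), ∃ g, g ≠ 0 ∧ stk I U hx = Ideal.span {g}) :
    BlowUp.IsEffCartierIdeal I := by
  intro x
  obtain ⟨U, hxU⟩ := exists_affine x
  haveI : IsNoetherianRing Γ(X, U.1) := IsLocallyNoetherian.component_noetherian U
  letI := X.presheaf.algebra_section_stalk (U := U.1) ⟨x, hxU⟩
  haveI := U.2.isLocalization_stalk ⟨x, hxU⟩
  obtain ⟨g, hg0, hg⟩ := h x U hxU
  have hg' : g ∈ (I.ideal U).map (algebraMap Γ(X, U.1) (X.presheaf.stalk x)) := by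
    show g ∈ stk I U hxU
    rw [hg]
    exact Ideal.mem_span_singleton_self g
  obtain ⟨⟨⟨r, hr⟩, s⟩, hrs⟩ :=
    (IsLocalization.mem_map_algebraMap_iff (U.2.primeIdealOf ⟨x, hxU⟩).asIdeal.primeCompl _).1 hg'
  have hu := IsLocalization.map_units (X.presheaf.stalk x) s
  have hr0 : algebraMap Γ(X, U.1) (X.presheaf.stalk x) r ≠ 0 := hrs ▸ mul_ne_zero hg0 hu.ne_zero
  obtain ⟨a, ha, haS⟩ := DivX.exists_gen_away (I.ideal U) (U.2.primeIdealOf ⟨x, hxU⟩).asIdeal (X.presheaf.stalk x)
    r hr0 hr (by rw [← hrs, Ideal.span_singleton_mul_right_unit hu]; exact hg)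
  haveI := U.2.isLocalization_basicOpen a
  obtain ⟨h1, h2⟩ := haS Γ(X, X.basicOpen a)
  refine ⟨X.affineBasicOpen (U := U) a, (QCoh.mem_basicOpen_iff_notMem U.2 hxU a).2 ha, _, h2, ?_⟩
  rw [← I.map_ideal_basicOpen U a]
  exact h1

theorem exists_pair_of_regular (A : Type u) [CommRing A] [IsRegularLocalRing A] (hA : ringKrullDim A ≤ 2) :
    ∃ s t : A, maximalIdeal A = Ideal.span {s, t} := by
  have h1 : (maximalIdeal A).spanFinrank ≤ 2 := by
    have := IsRegularLocalRing.spanFinrank_maximalIdeal (R := A)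
    rw [← this] at hA
    exact_mod_cast hA
  obtain ⟨S, hS, hSspan⟩ : ∃ S : Finset A, S.card ≤ 2 ∧ Ideal.span (S : Set A) = maximalIdeal A := by
    have hfg : (maximalIdeal A).FG := IsNoetherian.noetherian _
    refine ⟨(Submodule.FG.finite_generators hfg).toFinset, ?_, ?_⟩
    · rw [← Set.ncard_eq_toFinset_card _ (Submodule.FG.finite_generators hfg), Submodule.FG.generators_ncard hfg]
      exact h1
    · rw [Set.Finite.coe_toFinset]
      exact Submodule.span_generators _
  rcases Nat.lt_or_ge S.card 1 with h | h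
  · exact ⟨0, 0, by rw [← hSspan, Finset.card_eq_zero.1 (by omega : S.card = 0)]; simp⟩
  rcases Nat.lt_or_ge S.card 2 with h' | h'
  · obtain ⟨a, rfl⟩ := Finset.card_eq_one.1 (by omega : S.card = 1)
    exact ⟨a, a, by rw [← hSspan]; simp⟩
  · classical
    obtain ⟨a, b, -, rfl⟩ := Finset.card_eq_two.1 (le_antisymm hS h')
    exact ⟨a, b, by rw [← hSspan]; simp⟩

/-- A proper birational morphism of regular surfaces with a fibre of at least two points pulls the
ideal of the point back to an invertible ideal. -/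
theorem isEffCartier_comap_point [IsIntegral X] [IsIntegral Y] [IsLocallyNoetherian X] [IsLocallyNoetherian Y]
    [CompactSpace X] (hregX : ∀ x : X, IsRegularLocalRing (X.presheaf.stalk x))
    (hregY : ∀ y : Y, IsRegularLocalRing (Y.presheaf.stalk y))
    (hdX : topologicalKrullDim X ≤ 2) (hdY : topologicalKrullDim Y ≤ 2)
    (f : X ⟶ Y) [IsProper f] (hbir : ∃ U : Y.Opens, (U : Set Y).Nonempty ∧ IsIso (f ∣_ U))
    {y : Y} (hy : IsClosed ({y} : Set Y)) (hgen : y ≠ genericPoint Y)
    (hbig : ∃ x x' : X, x ≠ x' ∧ f x = y ∧ f x' = y) :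
    BlowUp.IsEffCartierIdeal ((Scheme.IdealSheafData.vanishingIdeal ⟨{y}, hy⟩).comap f) := by
  obtain ⟨e, hbij⟩ := birational_of_isIso_restrict f hbir
  set I := Scheme.IdealSheafData.vanishingIdeal (⟨{y}, hy⟩ : Closeds Y)
  refine isEffCartier_of_stk _ fun x V hxV => ?_
  obtain ⟨U, hxU⟩ := exists_affine (f x)
  obtain ⟨V', hV', hxV', hV'le⟩ := exists_isAffineOpen_mem_and_subset (X := X) (x := x) (U := f ⁻¹ᵁ U.1) hxU
  rw [CDivEq.stk_congr _ V ⟨V', hV'⟩ hxV hxV', stk_comap f I U ⟨V', hV'⟩ hV'le hxV']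
  by_cases hxy : f x = y
  swap
  · refine ⟨1, one_ne_zero, ?_⟩
    have h1 : f x ∉ I.support := fun h => hxy (by
      have h' : f x ∈ (I.support : Set Y) := h
      simpa [I] using h')
    rw [Ideal.span_singleton_one, stk_eq_top_of_notMem I U _ h1, Ideal.map_top]
  subst hxy
  rw [stk_vanishingIdeal_point hy U]
  haveI := hregX x
  haveI := hregY (f x)
  haveI := (RegUFD.ufd (X.presheaf.stalk x)).1
  haveI := (RegUFD.ufd (X.presheaf.stalk x)).2
  haveI := (RegUFD.ufd (Y.presheaf.stalk (f x))).1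
  set φ := (f.stalkMap x).hom
  let αX := (X.presheaf.stalkSpecializes (genericPoint_specializes x)).hom
  let αY := (Y.presheaf.stalkSpecializes (genericPoint_specializes (f x))).hom
  let ψ := (Y.presheaf.stalkSpecializes (specializes_of_eq e) ≫ f.stalkMap (genericPoint X)).hom
  have hsq : ∀ a, αX (φ a) = ψ (αY a) := fun a => by
    have hc : f.stalkMap x ≫ X.presheaf.stalkSpecializes (genericPoint_specializes x) =
        Y.presheaf.stalkSpecializes (genericPoint_specializes (f x)) ≫
          Y.presheaf.stalkSpecializes (specializes_of_eq e) ≫ f.stalkMap (genericPoint X) := by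
      rw [← Category.assoc, TopCat.Presheaf.stalkSpecializes_comp]
      exact (Scheme.Hom.stalkSpecializes_stalkMap f _ _ (genericPoint_specializes x)).symm
    exact congr($hc a)
  have hαX : Function.Injective αX := IsFractionRing.injective (X.presheaf.stalk x) X.functionField
  have hαY : Function.Injective αY := IsFractionRing.injective (Y.presheaf.stalk (f x)) Y.functionField
  have hinj : Function.Injective φ := fun a b h => hαY (hbij.1 (by
    show ψ (αY a) = ψ (αY b)
    rw [← hsq, ← hsq, h]))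
  have hfrac : ∀ b, ∃ a c, c ≠ 0 ∧ b * φ c = φ a := fun b => by
    obtain ⟨k, hk⟩ := hbij.2 (αX b)
    obtain ⟨a, c, hc, rfl⟩ := IsFractionRing.div_surjective (Y.presheaf.stalk (f x)) (K := Y.functionField) k
    refine ⟨a, c, nonZeroDivisors.ne_zero hc, hαX ?_⟩
    have hc0 : αY c ≠ 0 := (map_ne_zero_iff _ hαY).2 (nonZeroDivisors.ne_zero hc)
    rw [map_mul, hsq, hsq, ← hk]
    show ψ (αY a / αY c) * ψ (αY c) = ψ (αY a)
    rw [← map_mul, div_mul_cancel₀ _ hc0]
  have hm0 : (maximalIdeal (Y.presheaf.stalk (f x))).map φ ≠ ⊥ := fun h => by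
    rw [Ideal.map_eq_bot_iff_of_injective hinj, ← IsLocalRing.isField_iff_maximalIdeal_eq] at h
    have h0 := Ideal.height_bot (R := Y.presheaf.stalk (f x))
    have h1 : ringKrullDim (Y.presheaf.stalk (f x)) = 0 := ringKrullDim_eq_zero_of_isField h
    rw [ringKrullDim_stalk_eq_coheight] at h1
    have h2 : Order.coheight (f x) = 0 := by exact_mod_cast h1
    rw [Order.coheight_eq_zero] at h2
    exact hgen ((genericPoint_specializes (f x)).antisymm (Scheme.le_iff_specializes.1 (h2 (Scheme.le_iff_specializes.2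
      (genericPoint_specializes (f x)))))).eq.symm
  suffices hP : ∃ g, (maximalIdeal (Y.presheaf.stalk (f x))).map φ = Ideal.span {g} by
    obtain ⟨g, hg⟩ := hP
    exact ⟨g, fun h => hm0 (by rw [hg, h, Ideal.span_singleton_zero]), hg⟩
  have hxne : x ≠ genericPoint X := fun h => hgen (by rw [h, e])
  by_cases hex : ∃ ξ, ξ ⤳ x ∧ ξ ≠ x ∧ f ξ = f x
  · obtain ⟨ξ, hξx, hne, hfξ⟩ := hex
    have hξη : ξ ≠ genericPoint X := fun h => hgen (by rw [← hfξ, h, e])
    have hht : (CDiv6.primeOf hξx).asIdeal.height = 1 := by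
      rw [CDiv6.height_primeOf, coheight_eq_one_of_middle hdX hξη hξx hne]
    obtain ⟨π, hπ, hπe⟩ := DivX.exists_prime_span_of_height_one _ hht
    obtain ⟨s, t, hst⟩ := exists_pair_of_regular (Y.presheaf.stalk (f x)) ((SchTop.ringKrullDim_stalk_le _).trans hdY)
    have hle : (maximalIdeal (Y.presheaf.stalk (f x))).map φ ≤ Ideal.span {π} := by
      rw [← hπe]
      intro a ha
      have h1 : f ξ ⤳ f x := hξx.map f.continuous
      refine (Ideal.map_mono ?_).trans ((H23.StalkPrimes.map_le_iff f hξx h1).2 specializes_rfl) ha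
      intro c hc
      rw [CDiv6.mem_primeOf]
      intro hu
      refine (mem_maximalIdeal _).1 hc ?_
      have h2 : f x ⤳ f ξ := specializes_of_eq hfξ.symm
      have h3 := hu.map (Y.presheaf.stalkSpecializes h2).hom
      rwa [← ConcreteCategory.comp_apply, TopCat.Presheaf.stalkSpecializes_comp, TopCat.Presheaf.stalkSpecializes_refl] at h3
    refine isPrincipal_of_common_factor φ hinj hfrac hst hπ (Ideal.mem_span_singleton.1 (hle ?_))
      (Ideal.mem_span_singleton.1 (hle ?_))
    · exact Ideal.mem_map_of_mem φ (hst ▸ Ideal.subset_span (Set.mem_insert _ _))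
    · exact Ideal.mem_map_of_mem φ (hst ▸ Ideal.subset_span (Set.mem_insert_of_mem _ rfl))
  push Not at hex
  by_cases hd : ringKrullDim (X.presheaf.stalk x) ≤ 1
  · haveI : IsPrincipalIdealRing (X.presheaf.stalk x) := by
      rcases eq_or_ne (ringKrullDim (X.presheaf.stalk x)) 1 with h1 | h1
      · haveI := CDiv6.isDVR_of_dim_eq_one (X.presheaf.stalk x) h1
        infer_instance
      · rw [ringKrullDim_stalk_eq_coheight] at hd h1
        have h2 : Order.coheight x = 0 := by
          have hd' : Order.coheight x ≤ 1 := by exact_mod_cast hd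
          have h1' : Order.coheight x ≠ 1 := fun h => h1 (by rw [h]; rfl)
          exact Order.lt_one_iff.1 (lt_of_le_of_ne hd' h1')
        rw [Order.coheight_eq_zero] at h2
        exact absurd ((genericPoint_specializes x).antisymm (Scheme.le_iff_specializes.1 (h2 (Scheme.le_iff_specializes.2
          (genericPoint_specializes x))))).eq.symm hxne
    exact ⟨_, (Ideal.span_singleton_generator _).symm⟩
  exfalso
  have hxc : IsClosed ({x} : Set X) := isClosed_singleton_of_forall fun z hz => by_contra fun hzx => hd (by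
    rw [ringKrullDim_stalk_eq_coheight, coheight_eq_one_of_middle hdX hxne hz (Ne.symm hzx)]; rfl)
  haveI : AlgebraicGeometry.IsNoetherian X := { __ := ‹IsLocallyNoetherian X›, __ := ‹CompactSpace X› }
  have hF : IsClosed (f ⁻¹' {f x}) := hy.preimage f.continuous
  obtain ⟨C, hCf, hCc, hCi, hCU⟩ :=
    TopologicalSpace.NoetherianSpace.exists_finite_set_isClosed_irreducible (α := X) (s := f ⁻¹' {f x}) hF
  have hK : IsClosed (⋃₀ {T ∈ C | x ∉ T}) := by
    rw [Set.sUnion_eq_biUnion]
    exact (hCf.subset (Set.sep_subset _ _)).isClosed_biUnion fun T hT => hCc T hT.1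
  have hn : ∀ U : Y, IsIntegrallyClosed (Y.presheaf.stalk U) := fun q => by
    haveI := hregY q
    haveI := (RegUFD.ufd (Y.presheaf.stalk q)).1
    haveI := (RegUFD.ufd (Y.presheaf.stalk q)).2
    infer_instance
  have hcon := isPreconnected_fibre_of_isIso_app f (fun U hU => isIso_app_of_birational f hn e hbij U hU) (f x)
  have hcov : f ⁻¹' {f x} ⊆ {x} ∪ ⋃₀ {T ∈ C | x ∉ T} := fun z hz => by
    obtain ⟨T, hT, hzT⟩ := Set.mem_sUnion.1 (hCU.subset hz)
    by_cases hxT : x ∈ T
    · have hw := (hCi T hT).isGenericPoint_genericPoint_closure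
      rw [(hCc T hT).closure_eq] at hw
      have hwx : (hCi T hT).genericPoint = x := by_contra fun hne =>
        hex _ (hw.specializes hxT) hne (show (hCi T hT).genericPoint ∈ f ⁻¹' {f x} from hCU.ge ⟨T, hT, hw.mem⟩)
      exact Or.inl ((hw.specializes hzT).mem_closed hxc hwx)
    · exact Or.inr ⟨T, ⟨hT, hxT⟩, hzT⟩
  obtain ⟨x₁, x₂, hne, h1, h2⟩ := hbig
  obtain ⟨z, hzne, hzy⟩ : ∃ z, z ≠ x ∧ f z = f x := by
    by_cases h : x₁ = x
    · exact ⟨x₂, fun h' => hne (h.trans h'.symm), h2⟩
    · exact ⟨x₁, h, h1⟩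
  obtain ⟨w, -, hwx, T, ⟨-, hxT⟩, hwT⟩ := isPreconnected_closed_iff.1 hcon {x} _ hxc hK hcov ⟨x, rfl, rfl⟩
    ⟨z, hzy, (hcov hzy).resolve_left hzne⟩
  exact hxT (hwx ▸ hwT)

end Groth.Agent.ArSurfBase
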