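import Mathlib.RingTheory.Valuation.LocalSubring
import Mathlib.RingTheory.Polynomial.UniqueFactorization
import Mathlib.RingTheory.UniqueFactorizationDomain.GCDMonoid
import Mathlib.RingTheory.Adjoin.FG
import Mathlib.RingTheory.Polynomial.Basic

/-! # A birational local extension principalises the maximal ideal

If `A ⊆ B` are local domains with the same fraction field, `A` Noetherian with maximal ideal `(s, t)`,
`B` factorial and some prime element of `B` divides both `s` and `t`, then `(s, t) B` is principal: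
otherwise the exceptional valuation of `A` is centred at `B` and gives `s` value at least two. -/

set_option autoImplicit false
set_option linter.style.haveILetI false

universe u

open Polynomial IsLocalRing

namespace Groth.Agent.ArSurfBase

theorem exists_valuation_residue_transcendental {B K : Type*} [CommRing B] [IsDomain B] [IsLocalRing B]
    [UniqueFactorizationMonoid B] [Field K] (ι : B →+* K) (hι : Function.Injective ι) {σ θ : B}
    (hrel : IsRelPrime σ θ) (hσ : σ ∈ maximalIdeal B) (hθ : θ ∈ maximalIdeal B) (hσ0 : σ ≠ 0) :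
    ∃ W : ValuationSubring K, ∀ f : B[X],
      Polynomial.eval₂ ι (ι θ / ι σ) f ∈ W ∧
        (Polynomial.eval₂ ι (ι θ / ι σ) f ∈ W.nonunits ↔ ∀ i, f.coeff i ∈ maximalIdeal B) := by
  classical
  let P : Ideal B[X] := (maximalIdeal B).map C
  haveI : P.IsPrime := Ideal.isPrime_map_C_of_isPrime
  have hmem : ∀ f : B[X], f ∈ P ↔ ∀ i, f.coeff i ∈ maximalIdeal B := fun f => Ideal.mem_map_C_iff
  let ev : B[X] →+* K := Polynomial.eval₂RingHom ι (ι θ / ι σ)
  have hσι : ι σ ≠ 0 := (map_ne_zero_iff ι hι).2 hσ0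
  let l : B[X] := C σ * X - C θ
  have hl : Prime l := by
    refine Irreducible.prime ⟨fun hu => ?_, fun a b hab => ?_⟩
    · obtain ⟨r, -, hr⟩ := isUnit_iff.1 hu
      refine hσ0 ?_
      simpa [l, coeff_X, coeff_C] using (congrArg (fun q : B[X] => q.coeff 1) hr).symm
    have hdeg : a.natDegree + b.natDegree = 1 := by
      have ha0 : a ≠ 0 := fun h => by simp [h, l, sub_eq_zero] at hab; exact hσ0 (by simpa [coeff_X, coeff_C] using congrArg (fun q : B[X] => q.coeff 1) hab)
      have hb0 : b ≠ 0 := fun h => by simp [h, l, sub_eq_zero] at hab; exact hσ0 (by simpa [coeff_X, coeff_C] using congrArg (fun q : B[X] => q.coeff 1) hab)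
      rw [← natDegree_mul ha0 hb0, ← hab]
      show (C σ * X - C θ).natDegree = 1
      rw [natDegree_sub_C, natDegree_C_mul_X _ hσ0]
    have key : ∀ p q : B[X], p.natDegree = 0 → p * q = l → IsUnit p := by
      intro p q hp hpq
      obtain ⟨c, rfl⟩ := natDegree_eq_zero.1 hp
      refine isUnit_C.2 (hrel ⟨q.coeff 1, ?_⟩ ⟨-q.coeff 0, ?_⟩)
      · simpa [l, coeff_C, coeff_X] using (congrArg (fun r : B[X] => r.coeff 1) hpq).symm
      · have := (congrArg (fun r : B[X] => r.coeff 0) hpq).symm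
        simp [l, coeff_C, coeff_X] at this
        linear_combination -this
    rcases Nat.add_eq_one_iff.1 hdeg with ⟨ha, -⟩ | ⟨-, hb⟩
    · exact Or.inl (key a b ha hab.symm)
    · exact Or.inr (key b a hb (by rw [mul_comm]; exact hab.symm))
  have hlev : ev l = 0 := by
    simp [ev, l, mul_div_cancel₀ _ hσι]
  have hker : RingHom.ker ev ≤ P := by
    intro f hf
    haveI : (Ideal.span {l}).IsPrime := (Ideal.span_singleton_prime hl.ne_zero).2 hl
    -- clear denominators: `σ ^ n * f` is a multiple of `l` plus a constant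
    obtain ⟨c, hc⟩ : ∃ c : B, C σ ^ f.natDegree * f - C c ∈ Ideal.span {l} := by
      suffices ∀ n (g : B[X]), g.natDegree ≤ n → ∃ c : B, C σ ^ n * g - C c ∈ Ideal.span {l} from
        this _ f le_rfl
      intro n
      induction n with
      | zero =>
        intro g hg
        obtain ⟨c, rfl⟩ := natDegree_eq_zero.1 (Nat.le_zero.1 hg)
        exact ⟨c, by simp⟩
      | succ n ih =>
        intro g hg
        obtain ⟨c, hc⟩ := ih g.divX (by rw [natDegree_divX_eq_natDegree_tsub_one]; omega)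
        refine ⟨θ * c + σ ^ (n + 1) * g.coeff 0, ?_⟩
        have : C σ ^ (n + 1) * g - C (θ * c + σ ^ (n + 1) * g.coeff 0) =
            C σ * X * (C σ ^ n * g.divX - C c) + C c * l := by
          have hg' := divX_mul_X_add g
          simp only [l, C_mul, C_add, C_pow]
          linear_combination -(C σ ^ (n + 1)) * hg'
        rw [this]
        exact Ideal.add_mem _ (Ideal.mul_mem_left _ _ hc) (Ideal.mul_mem_left _ _ (Ideal.mem_span_singleton_self l))
    obtain ⟨q, hq⟩ := Ideal.mem_span_singleton'.1 hc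
    have h0 : c = 0 := hι (by
      have := congrArg ev hq
      rw [map_mul, hlev, mul_zero, map_sub, map_mul, (RingHom.mem_ker.1 hf), mul_zero, zero_sub,
        eq_comm, neg_eq_zero] at this
      simpa [ev] using this)
    have hin : f ∈ Ideal.span {l} := by
      rw [h0, map_zero, sub_zero] at hc
      refine ((‹(Ideal.span {l}).IsPrime›).mem_or_mem hc).resolve_left fun h => ?_
      have h1 : C σ ∈ Ideal.span {l} := Ideal.IsPrime.mem_of_pow_mem inferInstance _ h
      obtain ⟨r, hr⟩ := Ideal.mem_span_singleton'.1 h1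
      have := congrArg ev hr
      rw [map_mul, hlev, mul_zero] at this
      exact hσι (by simpa [ev] using this.symm)
    refine Ideal.span_le.2 (Set.singleton_subset_iff.2 ?_) hin
    exact P.sub_mem (P.mul_mem_right _ (Ideal.mem_map_of_mem C hσ)) (Ideal.mem_map_of_mem C hθ)
  let I : Ideal ev.range := P.map ev.rangeRestrict
  have hI : I.comap ev.rangeRestrict = P :=
    Ideal.comap_map_of_surjective _ ev.rangeRestrict_surjective P |>.trans
      (sup_eq_left.2 (fun f hf => hker (by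
        have : ev.rangeRestrict f = 0 := hf
        exact congrArg Subtype.val this)))
  haveI : I.IsPrime := Ideal.map_isPrime_of_surjective ev.rangeRestrict_surjective (fun f hf => hker (by
    exact congrArg Subtype.val (show ev.rangeRestrict f = 0 from hf)))
  obtain ⟨W, hW⟩ := (LocalSubring.ofPrime ev.range I).exists_le_valuationSubring
  have hle : ev.range ≤ W.toSubring := (LocalSubring.le_ofPrime ..).trans hW.1
  refine ⟨W, fun f => ⟨hle ⟨f, rfl⟩, ?_⟩⟩
  rw [← hmem, ← hI]
  letI := (LocalSubring.ofPrime ev.range I)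
  show ev f ∈ W.nonunits ↔ _
  haveI := hW.2
  rw [show ev f = ((Subring.inclusion hW.1) (algebraMap ev.range (LocalSubring.ofPrime ev.range I).toSubring
      (ev.rangeRestrict f)) : K) from rfl]
  refine W.coe_mem_nonunits_iff.trans ?_
  rw [mem_maximalIdeal, mem_nonunits_iff]
  refine (not_congr (isUnit_map_iff (Subring.inclusion hW.1) _)).trans ?_
  rw [Ideal.mem_comap]
  exact not_iff_comm.1 (IsLocalization.AtPrime.isUnit_to_map_iff (LocalSubring.ofPrime ev.range I).toSubring I _).symm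

/-- `(s, t) B` is principal. -/
theorem isPrincipal_of_common_factor {A B : Type u} [CommRing A] [IsDomain A] [IsNoetherianRing A] [IsLocalRing A]
    [CommRing B] [IsDomain B] [IsLocalRing B] [UniqueFactorizationMonoid B] (φ : A →+* B) [IsLocalHom φ]
    (hinj : Function.Injective φ) (hfrac : ∀ b : B, ∃ a c : A, c ≠ 0 ∧ b * φ c = φ a) {s t : A}
    (hm : maximalIdeal A = Ideal.span {s, t}) {π : B} (hπ : Prime π) (hπs : π ∣ φ s) (hπt : π ∣ φ t) :
    ∃ g, (maximalIdeal A).map φ = Ideal.span {g} := by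
  classical
  rw [hm, Ideal.map_span, Set.image_pair]
  by_cases hs0 : φ s = 0
  · exact ⟨φ t, by rw [hs0, Ideal.span_insert_zero]⟩
  letI : GCDMonoid B := UniqueFactorizationMonoid.toGCDMonoid B
  obtain ⟨σ, θ, hσ, hθ, hu⟩ := extract_gcd (φ s) (φ t)
  set g := GCDMonoid.gcd (φ s) (φ t) with hgdef
  refine ⟨g, ?_⟩
  have hg0 : g ≠ 0 := fun h => hs0 (by rw [hσ, h, zero_mul])
  have hσ0 : σ ≠ 0 := fun h => hs0 (by rw [hσ, h, mul_zero])
  refine le_antisymm (Ideal.span_le.2 ?_) ?_
  · rintro x (rfl | rfl)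
    · exact Ideal.mem_span_singleton.2 ⟨σ, hσ⟩
    · exact Ideal.mem_span_singleton.2 ⟨θ, hθ⟩
  rw [Ideal.span_singleton_le_iff_mem]
  by_cases hσu : IsUnit σ
  · obtain ⟨w, rfl⟩ := hσu
    have : g = φ s * ↑w⁻¹ := by rw [hσ, mul_assoc, Units.mul_inv, mul_one]
    rw [this]
    exact Ideal.mul_mem_right _ _ (Ideal.subset_span (Set.mem_insert _ _))
  by_cases hθu : IsUnit θ
  · obtain ⟨w, rfl⟩ := hθu
    have : g = φ t * ↑w⁻¹ := by rw [hθ, mul_assoc, Units.mul_inv, mul_one]
    rw [this]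
    exact Ideal.mul_mem_right _ _ (Ideal.subset_span (Set.mem_insert_of_mem _ rfl))
  exfalso
  have hrel : IsRelPrime σ θ := gcd_isUnit_iff_isRelPrime.1 hu
  let K := FractionRing B
  let ι : B →+* K := algebraMap B K
  have hι : Function.Injective ι := IsFractionRing.injective B K
  obtain ⟨W, hW⟩ := exists_valuation_residue_transcendental ι hι hrel
    ((mem_maximalIdeal _).2 hσu) ((mem_maximalIdeal _).2 hθu) hσ0
  set τ : K := ι θ / ι σ
  let α : A →+* K := ι.comp φ
  have hα : Function.Injective α := hι.comp hinj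
  let η : A[X] →+* K := Polynomial.eval₂RingHom α τ
  have hη : ∀ f : A[X], η f = Polynomial.eval₂ ι τ (f.map φ) := fun f => (Polynomial.eval₂_map φ ι τ).symm
  have hηW : ∀ f : A[X], η f ∈ W ∧ (η f ∈ W.nonunits ↔ ∀ i, f.coeff i ∈ maximalIdeal A) := fun f => by
    refine ⟨hη f ▸ (hW _).1, ?_⟩
    rw [hη, (hW _).2]
    refine forall_congr' fun i => ?_
    rw [coeff_map, mem_maximalIdeal, mem_maximalIdeal, mem_nonunits_iff, mem_nonunits_iff, isUnit_map_iff]
  have hgW : ∀ b : B, ι b ∈ W ∧ (ι b ∈ W.nonunits ↔ b ∈ maximalIdeal B) := fun b => by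
    have h1 := hW (C b)
    rw [eval₂_C] at h1
    refine ⟨h1.1, h1.2.trans ⟨fun h => by simpa using h 0, fun h i => ?_⟩⟩
    rw [coeff_C]
    split_ifs
    exacts [h, zero_mem _]
  let T : Subring K := η.range
  haveI : IsNoetherianRing T := isNoetherianRing_range η
  have hsT : α s ∈ T := ⟨C s, eval₂_C _ _⟩
  let sT : T := ⟨α s, hsT⟩
  have hαs : α s = ι g * ι σ := by rw [← map_mul, ← hσ]; rfl
  have hαt : α t = α s * τ := by
    rw [hαs, mul_assoc, mul_div_cancel₀ _ ((map_ne_zero_iff ι hι).2 hσ0), ← map_mul, ← hθ]; rfl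
  have hdvd : ∀ z : T, (z : K) ∈ W.nonunits → sT ∣ z := by
    rintro ⟨_, f, rfl⟩ hz
    have hf := (hηW f).2.1 hz
    have : ∀ i, ∃ a b : A, f.coeff i = a * s + b * t := fun i => by
      obtain ⟨a, b, h⟩ := Ideal.mem_span_pair.1 (hm ▸ hf i)
      exact ⟨a, b, h.symm⟩
    choose a b hab using this
    refine ⟨⟨η (∑ i ∈ f.support, C (a i) * X ^ i + ∑ i ∈ f.support, C (b i) * X ^ (i + 1)), _, rfl⟩, Subtype.ext ?_⟩
    show η f = α s * η _
    conv_lhs => rw [f.as_sum_support_C_mul_X_pow]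
    rw [map_add, map_sum, map_sum, map_sum, mul_add, Finset.mul_sum, Finset.mul_sum, ← Finset.sum_add_distrib]
    refine Finset.sum_congr rfl fun i _ => ?_
    simp only [η, coe_eval₂RingHom, eval₂_mul, eval₂_C, eval₂_X_pow, hab, map_add, map_mul, hαt]
    ring
  have hsnon : α s ∈ W.nonunits := hαs ▸ by
    rw [← map_mul, (hgW _).2]
    exact Ideal.mul_mem_left _ _ ((mem_maximalIdeal _).2 hσu)
  have hsT0 : sT ≠ 0 := fun h => hs0 (hι (by rw [map_zero]; exact congrArg Subtype.val h))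
  have hdec : ∀ z : T, z ≠ 0 → ∃ (n : ℕ) (w : T), (w : K) ∉ W.nonunits ∧ z = sT ^ n * w := fun z hz => by
    obtain ⟨n, w, hw, hzw⟩ := WfDvdMonoid.max_power_factor' hz (x := sT) fun hu => by
      obtain ⟨w', hw'⟩ := hu.exists_right_inv
      have h1 : α s * (w' : K) = 1 := congrArg Subtype.val hw'
      obtain ⟨f', hf'⟩ := w'.2
      exact ((W.mem_nonunits_iff_exists_mem_maximalIdeal).1 hsnon).2 (IsUnit.of_mul_eq_one ⟨(w' : K), hf' ▸ (hηW f').1⟩ (Subtype.ext h1))
    exact ⟨n, w, fun h => hw (hdvd w h), hzw⟩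
  -- every non-unit of `B` is a multiple of `s` in `W`
  have hkey : ∀ b : B, b ∈ maximalIdeal B → ∃ c ∈ W, ι b = α s * c := by
    intro b hb
    by_cases hb0 : b = 0
    · exact ⟨0, W.zero_mem, by rw [hb0, map_zero, mul_zero]⟩
    obtain ⟨a, c, hc, hbc⟩ := hfrac b
    have ha : a ≠ 0 := fun h => by
      rw [h, map_zero] at hbc
      exact mul_ne_zero hb0 ((map_ne_zero_iff φ hinj).2 hc) hbc
    obtain ⟨i, u, hu, hau⟩ := hdec ⟨α a, C a, eval₂_C _ _⟩ fun h => ha (hα (by rw [map_zero]; exact congrArg Subtype.val h))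
    obtain ⟨j, v, hv, hcv⟩ := hdec ⟨α c, C c, eval₂_C _ _⟩ fun h => hc (hα (by rw [map_zero]; exact congrArg Subtype.val h))
    replace hau : α a = α s ^ i * (u : K) := congrArg Subtype.val hau
    replace hcv : α c = α s ^ j * (v : K) := congrArg Subtype.val hcv
    have e1 : ι b * (α s ^ j * (v : K)) = α s ^ i * (u : K) := by
      rw [← hau, ← hcv]; exact (map_mul ι b (φ c)).symm.trans (congrArg ι hbc)
    obtain ⟨fu, hfu⟩ := u.2
    obtain ⟨fv, hfv⟩ := v.2
    have huW : (u : K) ∈ W := hfu ▸ (hηW fu).1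
    have hvW : (v : K) ∈ W := hfv ▸ (hηW fv).1
    have hv' : IsUnit (⟨(v : K), hvW⟩ : W) := by
      by_contra hh
      exact hv (W.coe_mem_nonunits_iff.2 hh)
    obtain ⟨v', hv'⟩ := hv'.exists_right_inv
    replace hv' : (v : K) * (v' : K) = 1 := congrArg Subtype.val hv'
    have hs' : α s ≠ 0 := fun h => hsT0 (Subtype.ext h)
    rcases Nat.lt_or_ge j i with hij | hij
    · obtain ⟨d, rfl⟩ := Nat.exists_eq_add_of_lt hij
      refine ⟨α s ^ d * (u : K) * (v' : K), W.mul_mem _ _ (W.mul_mem _ _ (pow_mem (hgW _).1 _) huW) v'.2, ?_⟩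
      refine mul_left_cancel₀ (pow_ne_zero j hs') ?_
      calc α s ^ j * ι b = ι b * (α s ^ j * (v : K)) * (v' : K) := by rw [mul_assoc _ _ (v' : K), mul_assoc _ (v : K), hv']; ring
        _ = _ := by rw [e1]; ring
    · exfalso
      obtain ⟨d, rfl⟩ := Nat.exists_eq_add_of_le hij
      have h2 : (u : K) = ι b * α s ^ d * v := mul_left_cancel₀ (pow_ne_zero i hs') (by rw [← e1]; ring)
      refine hu ?_
      have h3 : (⟨(u : K), huW⟩ : W) = ⟨ι b, (hgW b).1⟩ * (⟨α s ^ d * v, W.mul_mem _ _ (pow_mem (hgW _).1 _) hvW⟩ : W) :=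
        Subtype.ext (by show (u : K) = ι b * (α s ^ d * v); rw [h2]; ring)
      refine (ValuationSubring.coe_mem_nonunits_iff (a := (⟨(u : K), huW⟩ : W))).2 fun hu' => ?_
      rw [h3] at hu'
      exact (W.coe_mem_nonunits_iff.1 ((hgW b).2.2 hb) : ¬ IsUnit (⟨ι b, (hgW b).1⟩ : W)) (isUnit_of_mul_isUnit_left hu')
  obtain ⟨c₁, hc₁, e₁⟩ := hkey g ((mem_maximalIdeal _).2 fun hu' => hπ.not_unit
    (isUnit_of_dvd_unit (dvd_gcd hπs hπt) hu'))
  obtain ⟨c₂, hc₂, e₂⟩ := hkey σ ((mem_maximalIdeal _).2 hσu)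
  have hs' : α s ≠ 0 := fun h => hsT0 (Subtype.ext h)
  have h1 : α s * (c₁ * c₂) = 1 := mul_left_cancel₀ hs' (by
    calc α s * (α s * (c₁ * c₂)) = (α s * c₁) * (α s * c₂) := by ring
      _ = α s * 1 := by rw [← e₁, ← e₂, ← hαs, mul_one])
  exact ((W.mem_nonunits_iff_exists_mem_maximalIdeal).1 hsnon).2
    (IsUnit.of_mul_eq_one ⟨c₁ * c₂, W.mul_mem _ _ hc₁ hc₂⟩ (Subtype.ext h1))

end Groth.Agent.ArSurfBase
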