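import Groth.Agent.ArSurfBase.ModelsMeet
import Groth.Agent.ArSurfBase.Projective
import Groth.Agent.ArSurfBase.DedBirat
import Groth.Agent.ArSurfBase.Comp
import Groth.Agent.ShStabX.Ascent
import Groth.Agent.Growth22.GenBy
import Groth.Agent.AmpleVan.FinGen
import Groth.Agent.ResSurf.Normal
import Groth.Agent.S1297
import Groth.Agent.S3572
import Groth.Agent.DescLib.SubtrVal
import Groth.Agent.H23.TopDim
import Groth.Agent.AmpleX.Proj
import Groth.Agent.H23.RedSub

/-! # The contraction defined by a globally generated invertible module -/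

set_option autoImplicit false
set_option linter.style.haveILetI false
set_option linter.unusedSectionVars false
set_option backward.isDefEq.respectTransparency false
set_option backward.isDefEq.respectTransparency.types false

universe u

open CategoryTheory CategoryTheory.Limits AlgebraicGeometry TopologicalSpace IsLocalRing
open Groth.Agent.H23 Groth.Agent.H23.TrivBasic

namespace Groth.Agent.ArSurfBase.SemiAmple

theorem bijective_app_toNormalization {X S : Scheme.{u}} (f : X ⟶ S) [UniversallyClosed f] [QuasiCompact f]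
    [QuasiSeparated f] (U : f.normalization.Opens) : Function.Bijective (f.toNormalization.app U) := by
  haveI := FlatMisc.isIso_toNormalization_app f U
  exact ConcreteCategory.bijective_of_isIso _

/-- A scheme whose functions are those of a normal scheme over it is normal. -/
theorem isIntegrallyClosed_stalk_of_bijective_app {X Y : Scheme.{u}} [IsIntegral X] [IsIntegral Y]
    (hX : ∀ x : X, IsIntegrallyClosed (X.presheaf.stalk x)) (f : X ⟶ Y) [Surjective f]
    (hf : ∀ U, Function.Bijective (f.app U)) (y : Y) : IsIntegrallyClosed (Y.presheaf.stalk y) := by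
  have hXn : Pi1.IsNormalScheme X := fun x => ⟨inferInstance, hX x⟩
  obtain ⟨U, hy⟩ := exists_affine y
  obtain ⟨x, hx⟩ := f.surjective y
  let V := f ⁻¹ᵁ U.1
  haveI : Nonempty (V : Scheme.{u}) := ⟨⟨x, show f x ∈ U.1 from hx.symm ▸ hy⟩⟩
  haveI : IsIntegral (V : Scheme.{u}) := isIntegral_of_isOpenImmersion V.ι
  haveI := ResSurf.isIntegrallyClosed_top (X := (V : Scheme.{u})) (ResSurf.isNormalScheme_of_isOpenImmersion V.ι hXn)
  haveI : Nonempty (U.1 : Scheme.{u}) := ⟨⟨y, hy⟩⟩
  haveI : IsDomain Γ(Y, U.1) := IsIntegral.component_integral U.1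
  haveI : IsIntegrallyClosed Γ(Y, U.1) := IsIntegrallyClosed.of_equiv
    ((RingEquiv.ofBijective (f.app U.1).hom (hf U.1)).trans V.topIso.symm.commRingCatIsoToRingEquiv).symm
  letI := Y.presheaf.algebra_section_stalk (⟨y, hy⟩ : U.1)
  haveI := U.2.isLocalization_stalk (⟨y, hy⟩ : U.1)
  exact isIntegrallyClosed_of_isLocalization _ (U.2.primeIdealOf ⟨y, hy⟩).asIdeal.primeCompl
    (Ideal.primeCompl_le_nonZeroDivisors _)

/-- The standard affine pieces of projective space and their sections. -/
theorem exists_chart {A : Type u} [CommRing A] (k : ℕ) (q : CohB1.ProjSpace k A) :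
    ∃ t : Γ((Twist.twistProjSpace k A 1 : (CohB1.ProjSpace k A).Modules), ⊤),
      q ∈ locus t ∧ IsAffineOpen (locus t) := by
  let g : Fin (k + 1) → MvPolynomial (Fin (k + 1)) A := fun i => MvPolynomial.X i
  have hg : ∀ i, g i ∈ CohB1.polyGrading k A 1 := fun i => MvPolynomial.isHomogeneous_X A i
  have hcov : ⨆ i, Proj.basicOpen (CohB1.polyGrading k A) (g i) = ⊤ := by
    refine Proj.iSup_basicOpen_eq_top _ _ ((SegreX.irrelevant_le_span k A).trans ?_)
    refine Ideal.span_mono ?_
    rintro _ ⟨i, rfl⟩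
    exact ⟨i, rfl⟩
  obtain ⟨i, hi⟩ := Opens.mem_iSup.1 (hcov.ge (trivial : q ∈ (⊤ : (CohB1.ProjSpace k A).Opens)))
  have h := AmpleX.genLocus_sec (CohB1.polyGrading k A) g hg hcov (hg i)
  refine ⟨ProjUPX.sec (CohB1.polyGrading k A) (hg i), ?_, ?_⟩
  · show q ∈ CohB1.genLocus _ _
    erw [h]
    exact hi
  · show IsAffineOpen (CohB1.genLocus _ _)
    erw [h]
    exact Proj.isAffineOpen_basicOpen _ _ (hg i) one_pos

theorem isAmple_twist {A : Type u} [CommRing A] (k : ℕ) : CohB1.IsAmple (Twist.twistProjSpace k A 1) := by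
  classical
  let T : Finset (MvPolynomial (Fin (k + 1)) A) := Finset.univ.image MvPolynomial.X
  refine AmpleX.isAmple_twist_one _ T (fun g hg => ?_) ?_
  · obtain ⟨i, -, rfl⟩ := Finset.mem_image.1 hg
    exact ProjPt.X_mem i
  · refine Proj.iSup_basicOpen_eq_top _ _ ((SegreX.irrelevant_le_span k A).trans ?_)
    refine Ideal.span_mono ?_
    rintro _ ⟨i, rfl⟩
    exact ⟨⟨_, Finset.mem_image.2 ⟨i, Finset.mem_univ _, rfl⟩⟩, rfl⟩

/-- A morphism from a scheme without nonconstant functions along which `O(1)` is trivial is constant. -/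
theorem const_of_triv {A : Type u} [CommRing A] {k : ℕ} {C : Scheme.{u}} (hΓ : IsField Γ(C, ⊤))
    (g : C ⟶ CohB1.ProjSpace k A)
    (h : Triv ((Scheme.Modules.pullback g).obj (Twist.twistProjSpace k A 1))) (a b : C) : g a = g b := by
  obtain ⟨t, ht, htaff⟩ := exists_chart k (g a)
  have hM := (isAmple_twist (A := A) k).1
  set w := (show Γ((Scheme.Modules.pullback g).obj (Twist.twistProjSpace k A 1), ⊤) from InvX.pullElt g t) with hw
  have hloc : locus w = g ⁻¹ᵁ locus t := locus_pullElt hM g t
  have htop : g ⁻¹ᵁ locus t = ⊤ := by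
    obtain ⟨e, he⟩ := h.exists_frame
    obtain ⟨c, hc⟩ := he.exists_coord le_rfl w
    rw [AModX.res_self] at hc
    have h1 : locus w ⊓ ⊤ = C.basicOpen c := locus_eq_basicOpen he (by rw [AModX.res_self]; exact hc)
    rw [inf_top_eq, hloc] at h1
    have ha : a ∈ C.basicOpen c := h1.le ht
    obtain ⟨d, hd⟩ := hΓ.mul_inv_cancel (a := c) fun h0 => by
      rw [h0, Scheme.basicOpen_zero] at ha
      exact ha
    rw [h1, Scheme.basicOpen_of_isUnit _ (IsUnit.of_mul_eq_one d hd)]
  haveI : IsAffine (locus t : Scheme.{u}) := htaff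
  let g' : C ⟶ (locus t : Scheme.{u}) := IsOpenImmersion.lift (locus t).ι g (by
    rw [Scheme.Opens.range_ι]
    rintro _ ⟨c, rfl⟩
    exact htop.ge (trivial : c ∈ (⊤ : C.Opens)))
  have hg' : g' ≫ (locus t).ι = g := IsOpenImmersion.lift_fac _ _ _
  rw [← hg', Scheme.Hom.comp_apply, Scheme.Hom.comp_apply]
  congr 1
  apply (locus t : Scheme.{u}).isoSpec.hom.homeomorph.injective
  show (locus t : Scheme.{u}).toSpecΓ (g' a) = (locus t : Scheme.{u}).toSpecΓ (g' b)
  rw [← Scheme.Hom.comp_apply, ← Scheme.Hom.comp_apply, Scheme.toSpecΓ_naturality, Scheme.Hom.comp_apply,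
    Scheme.Hom.comp_apply]
  congr 1
  letI := hΓ.toField
  exact Subsingleton.elim (α := PrimeSpectrum Γ(C, ⊤)) _ _

/-- A point of a preconnected fibre without generisations or specialisations in it is the whole fibre. -/
theorem eq_of_isolated {T S : Type u} [TopologicalSpace T] [NoetherianSpace T] [QuasiSober T] [TopologicalSpace S]
    [T0Space S] {f : T → S} (hf : Continuous f) {x : T} (hc : _root_.IsPreconnected (f ⁻¹' {f x}))
    (hup : ∀ y ∈ f ⁻¹' {f x}, y ⤳ x → y = x) (hdown : ∀ y ∈ f ⁻¹' {f x}, x ⤳ y → y = x) :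
    ∀ y ∈ f ⁻¹' {f x}, y = x := by
  set F := f ⁻¹' {f x}
  have hx : x ∈ F := rfl
  haveI : NoetherianSpace F := inferInstance
  set x' : F := ⟨x, hx⟩
  have hcl : closure ({x'} : Set F) = {x'} := by
    refine Set.Subset.antisymm (fun y hy => ?_) subset_closure
    have h : x' ⤳ y := specializes_iff_mem_closure.2 hy
    exact Subtype.ext (hdown y.1 y.2 (h.map continuous_subtype_val))
  have hpre : PreconnectedSpace F := isPreconnected_iff_preconnectedSpace.1 hc
  have hxc : IsClosed ({x'} : Set F) := hcl ▸ isClosed_closure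
  have hxo : IsOpen ({x'} : Set F) := by
    have hfin := NoetherianSpace.finite_irreducibleComponents (α := F)
    have heq : ({x'} : Set F)ᶜ = ⋃ Z ∈ {Z ∈ irreducibleComponents F | x' ∉ Z}, Z := by
      ext y
      simp only [Set.mem_compl_iff, Set.mem_singleton_iff, Set.mem_iUnion, Set.mem_setOf_eq, exists_prop]
      refine ⟨fun hy => ⟨irreducibleComponent y, ⟨irreducibleComponent_mem_irreducibleComponents y, fun hxZ => ?_⟩,
        mem_irreducibleComponent⟩, fun ⟨Z, ⟨_, hxZ⟩, hyZ⟩ hy => hxZ (hy ▸ hyZ)⟩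
      have hZi := isIrreducible_irreducibleComponent (x := y)
      have hZc := isClosed_irreducibleComponent (x := y)
      set T' : Set T := closure (Subtype.val '' irreducibleComponent y)
      have hTi : IsIrreducible T' := (hZi.image _ continuous_subtype_val.continuousOn).closure
      obtain ⟨ξ, hξ⟩ := QuasiSober.sober hTi isClosed_closure
      have hsp : ∀ z ∈ irreducibleComponent y, ξ ⤳ z.1 := fun z hz =>
        hξ.specializes (subset_closure ⟨z, hz, rfl⟩)
      have hξF : ξ ∈ F := by
        have h1 : f ξ ⤳ f x := (hsp x' hxZ).map hf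
        have h2 : f ξ ∈ closure ({f x} : Set S) := by
          have h4 : f '' (Subtype.val '' irreducibleComponent y) ⊆ {f x} := by
            rintro _ ⟨_, ⟨z, -, rfl⟩, rfl⟩
            exact z.2
          exact closure_mono h4 (image_closure_subset_closure_image hf ⟨ξ, hξ.mem, rfl⟩)
        exact (h1.antisymm (specializes_iff_mem_closure.2 h2)).eq
      refine hy (Subtype.ext (hdown y.1 y.2 ?_))
      rw [← hup ξ hξF (hsp x' hxZ)]
      exact hsp y mem_irreducibleComponent
    have : IsClosed (({x'} : Set F)ᶜ) := by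
      rw [heq]
      exact (hfin.subset fun Z hZ => hZ.1).isClosed_biUnion fun Z hZ =>
        isClosed_of_mem_irreducibleComponents Z hZ.1
    simpa using this.isOpen_compl
  intro y hy
  have := (IsClopen.eq_univ ⟨hxc, hxo⟩ ⟨x', rfl⟩).ge (Set.mem_univ (⟨y, hy⟩ : F))
  exact congrArg Subtype.val this

end Groth.Agent.ArSurfBase.SemiAmple

namespace Groth.Agent.ArSurfBase.SemiAmple

/-- An affine morphism inducing bijections on functions is an isomorphism. -/
theorem isIso_of_affine_bijective_app {X Y : Scheme.{u}} (π : Y ⟶ X) [IsAffineHom π]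
    (h : ∀ U : X.Opens, Function.Bijective (π.app U)) : IsIso π := by
  refine (IsZariskiLocalAtTarget.iff_of_iSup_eq_top (P := MorphismProperty.isomorphisms Scheme) _
    (iSup_affineOpens_eq_top X)).mpr fun U => ?_
  have hV : IsAffineOpen (π ⁻¹ᵁ U.1) := U.2.preimage π
  haveI : IsIso (π.app U.1) := (ConcreteCategory.isIso_iff_bijective _).mpr (h U.1)
  let e := IsOpenImmersion.isoOfRangeEq (π ⁻¹ᵁ U.1).ι hV.fromSpec
    (by rw [Scheme.Opens.range_ι, hV.range_fromSpec])
  rw [← MorphismProperty.cancel_left_of_respectsIso (MorphismProperty.isomorphisms Scheme) e.inv,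
    ← MorphismProperty.cancel_right_of_respectsIso (MorphismProperty.isomorphisms Scheme) _ U.2.isoSpec.hom]
  convert! MorphismProperty.isomorphisms.infer_property (Spec.map (π.app U.1))
  rw [← cancel_mono U.2.fromSpec]
  simp only [Category.assoc, IsAffineOpen.isoSpec_hom_fromSpec, morphismRestrict_ι]
  rw [← Category.assoc, show e.inv ≫ (π ⁻¹ᵁ U.1).ι = hV.fromSpec from
    IsOpenImmersion.isoOfRangeEq_inv_fac _ _ _, Scheme.Hom.app_eq_appLE,
    IsAffineOpen.SpecMap_appLE_fromSpec π U.2 hV le_rfl]

/-- Points of a fibre of a finite morphism do not specialise to one another. -/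
theorem eq_of_specializes_finite {Y P : Scheme.{u}} (φ : Y ⟶ P) [LocallyOfFiniteType φ] [LocallyQuasiFinite φ] {a b : Y} (h : a ⤳ b)
    (he : φ a = φ b) : a = b := by
  have hd : _root_.IsDiscrete (φ ⁻¹' {φ b}) := (locallyQuasiFinite_iff_isDiscrete_preimage_singleton (f := φ)).1 ‹_› _
  haveI := hd.to_subtype
  have h' : (⟨a, he⟩ : ↥(φ ⁻¹' {φ b})) ⤳ ⟨b, rfl⟩ :=
    Topology.IsInducing.subtypeVal.specializes_iff.1 h
  exact congrArg Subtype.val h'.eq

variable {R : Type u} [CommRing R] [IsDomain R] [IsDiscreteValuationRing R]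
  {X : Over (Spec (CommRingCat.of R))}

theorem base_eq_closedPoint {x : X.left} (h : (X.hom.base x).asIdeal ≠ ⊥) :
    X.hom.base x = IsLocalRing.closedPoint R :=
  PrimeSpectrum.ext (IsLocalRing.eq_maximalIdeal ((X.hom.base x).isPrime.isMaximal h))

/-- The closure of a non-closed point of the closed fibre is a vertical prime divisor. -/
theorem exists_vertComp [IsIntegral X.left] [Flat X.hom] [IsProper X.hom] (hdim : topologicalKrullDim X.left = 2) {ξ z : X.left}
    (hξ : X.hom.base ξ = IsLocalRing.closedPoint R) (h : ξ ⤳ z) (hne : ξ ≠ z) :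
    ∃ E : ArSurf.VertComp R X, supp E = closure {ξ} := by
  obtain ⟨C, j, hj, hred, hrange⟩ := RedSub.exists_reduced_subscheme X.left
    (isClosed_closure (s := ({ξ} : Set X.left))).isLocallyClosed
  haveI : IsClosedImmersion j := .of_isPreimmersion j (by rw [hrange]; exact isClosed_closure)
  haveI : IrreducibleSpace C := by
    have hirr : IsIrreducible (Set.range j) := hrange ▸ isIrreducible_singleton.closure
    haveI := Subtype.irreducibleSpace hirr
    exact (j.isEmbedding.toHomeomorph).irreducibleSpace_iff.2 inferInstance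
  haveI : IsIntegral C := isIntegral_of_irreducibleSpace_of_isReduced C
  let res := Spec.map (CommRingCat.ofHom (IsLocalRing.residue R))
  haveI : IsClosedImmersion res := IsClosedImmersion.spec_of_surjective _ IsLocalRing.residue_surjective
  have hbase : ∀ c, (j ≫ X.hom) c = IsLocalRing.closedPoint R := fun c => by
    have hc : j c ∈ closure ({ξ} : Set X.left) := hrange.le ⟨c, rfl⟩
    have h2 : X.hom.base ξ ⤳ X.hom.base (j c) := (specializes_iff_mem_closure.2 hc).map X.hom.continuous
    rw [hξ] at h2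
    exact (specializes_closedPoint _).antisymm h2 |>.eq
  have hle : res.ker ≤ (j ≫ X.hom).ker := by
    refine (ArSurfBase.ker_eq_vanishingIdeal _).trans_le
      (le_trans (Scheme.IdealSheafData.vanishingIdeal_antimono ?_) (ArSurfBase.ker_eq_vanishingIdeal _).ge)
    rw [← SetLike.coe_subset_coe, Scheme.Hom.support_ker, Scheme.Hom.support_ker]
    refine closure_mono ?_
    rintro _ ⟨c, rfl⟩
    exact ⟨⟨⊥, Ideal.isPrime_bot⟩, (PrimeSpectrum.ext (Ideal.mk_ker (I := IsLocalRing.maximalIdeal R))).trans
      (hbase c).symm⟩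
  let g := IsClosedImmersion.lift res (j ≫ X.hom) hle
  have hg : g ≫ res = j ≫ X.hom := IsClosedImmersion.lift_fac _ _ _
  have hη : genericPoint X.left ∉ closure ({ξ} : Set X.left) := fun hm => by
    have h2 : ξ = genericPoint X.left :=
      ((specializes_iff_mem_closure.2 hm).antisymm (genericPoint_specializes ξ)).eq
    have h3 := ne_genericPoint X.hom (x := ξ) (by rw [hξ]; exact IsDiscreteValuationRing.not_a_field R)
    exact h3 h2.symm
  have hdimC : topologicalKrullDim C = 1 := by
    have e : topologicalKrullDim C = topologicalKrullDim ↥(Set.range j) :=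
      IsHomeomorph.topologicalKrullDim_eq _ j.isEmbedding.toHomeomorph.isHomeomorph
    have hlt : topologicalKrullDim C < 2 := by
      rw [e, ← hdim]
      refine H23.TopDim.dim_lt_of_ssubset (by rw [hdim]; decide)
        j.isClosedEmbedding.isClosed_range fun hu => hη ?_
      rw [← hrange, hu]
      exact Set.mem_univ _
    have hgt : ¬ topologicalKrullDim C ≤ 0 := fun h0 => by
      obtain ⟨a, ha⟩ := hrange.ge (subset_closure rfl : ξ ∈ closure ({ξ} : Set X.left))
      obtain ⟨b, hb⟩ := hrange.ge (specializes_iff_mem_closure.1 h)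
      have hab : a ⤳ b := j.isEmbedding.isInducing.specializes_iff.1 (by rw [ha, hb]; exact h)
      have hab' : a ≠ b := fun e' => hne (by rw [← ha, ← hb, e'])
      let s : LTSeries (IrreducibleCloseds C) := ⟨1, ![clo b, clo a], fun i => by
        fin_cases i
        exact clo_lt hab hab'⟩
      have h1 := Order.LTSeries.length_le_krullDim s
      exact absurd (h1.trans h0) (by norm_num [s])
    generalize topologicalKrullDim C = d at hlt hgt
    induction d using WithBot.recBotCoe with
    | bot => exact absurd bot_le hgt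
    | coe n =>
      have h1 : n < (2 : ℕ∞) := WithBot.coe_lt_coe.1 hlt
      have h2 : ¬ n ≤ 0 := fun h => hgt (by exact_mod_cast h)
      have : n = 1 := by
        induction n using ENat.recTopCoe with
        | top => simp at h1
        | coe m =>
          have : m < 2 := by exact_mod_cast h1
          have : ¬ m ≤ 0 := fun h => h2 (by exact_mod_cast h)
          exact_mod_cast (show m = 1 by omega)
      rw [this]; rfl
  exact ⟨⟨Over.mk g, j, inferInstance, ‹IsIntegral C›, hdimC, hg.symm⟩, hrange⟩

set_option maxHeartbeats 1600000 in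
/-- The morphism defined by a globally generated module contracts exactly the curves of degree zero. -/
theorem exists_contraction [IsIntegral X.left] [Flat X.hom]
    (hnor : ∀ x : X.left, IsIntegrallyClosed (X.left.presheaf.stalk x))
    (hdim : topologicalKrullDim X.left = 2) (hproj : Neron.IsProjectiveOver R X)
    {r : ℕ} (Γ : Fin r → ArSurf.VertComp R X)
    (L : X.left.Modules) (hL : PicF.IsInvertible L) (hgg : Curv2.IsGloballyGenerated L)
    (hdeg : 0 < ArSurf.curveDeg (FractionRing R) ((Neron.genericFibre R).obj X).left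
      ((Scheme.Modules.pullback (pullback.fst X.hom (Neron.genPt R))).obj L))
    (htriv : ∀ E : ArSurf.VertComp R X,
      Nonempty ((Scheme.Modules.pullback E.ι).obj L ≅ Coh.structureModule E.curve.left) ↔
        ∃ i, supp E = supp (Γ i)) :
    ∃ (Y : Over (Spec (CommRingCat.of R))) (f : X ⟶ Y),
      IsIntegral Y.left ∧ (∀ q : Y.left, IsIntegrallyClosed (Y.left.presheaf.stalk q)) ∧
      topologicalKrullDim Y.left = 2 ∧ Flat Y.hom ∧ Neron.IsProjectiveOver R Y ∧
      (∀ i, ∃ y : Y.left, Set.range (((Γ i).ι ≫ f.left).base : (Γ i).curve.left → Y.left) = {y}) ∧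
      f.left.base ⁻¹' (f.left.base '' ⋃ i, Set.range (Γ i).ι.base) = ⋃ i, Set.range (Γ i).ι.base ∧
      ∀ V : Y.left.Opens, (V : Set Y.left) ∩ f.left.base '' (⋃ i, Set.range (Γ i).ι.base) = ∅ →
        IsIso (f.left ∣_ V) := by
  haveI := isProper_of_isProjectiveOver hproj
  haveI : IsLocallyNoetherian X.left := LocallyOfFiniteType.isLocallyNoetherian X.hom
  haveI : CompactSpace X.left := QuasiCompact.compactSpace_of_compactSpace X.hom
  haveI : IsNoetherian X.left := {}
  have hRf := IsDiscreteValuationRing.not_isField R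
  obtain ⟨ι', s₀, hs₀⟩ := Growth22.exists_generatedBy_of_isGloballyGenerated hL hgg
  obtain ⟨k, js, hjs⟩ := AmpleVan.exists_fin_generatedBy (CurveDeg.isCoh_of_isInvertible hL) s₀ hs₀
  let s' : Fin (k + 1) → Γ(L, ⊤) := Fin.cons 0 (s₀ ∘ js)
  have hs' : ProjUP.GeneratedBy L s' := fun x => top_le_iff.1 ((hjs x).ge.trans (Submodule.span_mono (by
    rintro _ ⟨i, rfl⟩
    exact ⟨i.succ, by simp [s']⟩)))
  obtain ⟨rr, hrr, τ, -⟩ := S3572.result k X.hom L hL s' hs'
  let p := CohB1.ProjSpace.toSpec k R
  haveI hp : IsProper p := PnCoh.Chow.isProper_toSpec k R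
  haveI : IsLocallyNoetherian (CohB1.ProjSpace k R) := LocallyOfFiniteType.isLocallyNoetherian p
  haveI : IsProper rr := by
    haveI : IsProper (rr ≫ p) := hrr ▸ (inferInstance : IsProper X.hom)
    exact IsProper.of_comp rr p
  set ν := rr.toNormalization
  set φ := rr.fromNormalization
  have hνφ : ν ≫ φ = rr := rr.toNormalization_fromNormalization
  haveI : IsFinite φ := S1297.result rr
  haveI hνp : IsProper ν := by
    haveI : IsProper (ν ≫ φ) := by rw [hνφ]; infer_instance
    exact IsProper.of_comp ν φ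
  haveI : IsIntegral rr.normalization := inferInstance
  haveI : IsLocallyNoetherian rr.normalization := LocallyOfFiniteType.isLocallyNoetherian φ
  have hb := bijective_app_toNormalization rr
  haveI hνs : Surjective ν := ⟨H23.Rigid.surjective_of_bijective_app ν hb ν.isClosedMap⟩
  have hconn := fun y => isPreconnected_fibre_of_isIso_app ν
    (fun U _ => (ConcreteCategory.isIso_iff_bijective _).2 (hb U)) y
  have hbase : ∀ x, p (rr x) = X.hom.base x := fun x => by rw [← Scheme.Hom.comp_apply, hrr]
  have hrν : ∀ x, φ (ν x) = rr x := fun x => by rw [← Scheme.Hom.comp_apply, hνφ]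
  have hM := (isAmple_twist (A := R) k).1
  -- curves on which `L` is trivial are contracted
  have hconst : ∀ i, ∀ a ∈ supp (Γ i), ∀ b ∈ supp (Γ i), ν a = ν b := by
    intro i
    haveI := (Γ i).isIntegral
    haveI := (Γ i).isClosedImmersion
    haveI := isProper_curve (Γ i)
    have hΓ : IsField Γ((Γ i).curve.left, ⊤) := isField_of_universallyClosed _
      ((Γ i).curve.left ↘ Spec (CommRingCat.of (IsLocalRing.ResidueField R)))
    have ht : Triv ((Scheme.Modules.pullback ((Γ i).ι ≫ rr)).obj (Twist.twistProjSpace k R 1)) :=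
      (triv_comp_iff (Γ i).ι rr).1 (Triv.of_iso ((Scheme.Modules.pullback (Γ i).ι).mapIso τ.symm)
        ((htriv (Γ i)).2 ⟨i, rfl⟩))
    have key : ∀ a ∈ supp (Γ i), ν (Models.genPtOf R X (Γ i)) = ν a := fun a ha => by
      refine eq_of_specializes_finite φ (((isGenericPoint_genPtOf (Γ i)).specializes ha).map ν.continuous) ?_
      rw [hrν, hrν]
      obtain ⟨c, rfl⟩ := ha
      exact const_of_triv hΓ _ ht _ _
    exact fun a ha b hb' => (key a ha).symm.trans (key b hb')
  -- the generic fibre is not contracted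
  obtain ⟨w₀, hw₀, hw₀η⟩ : ∃ w, (X.hom.base w).asIdeal = ⊥ ∧ rr w ≠ rr (genericPoint X.left) := by
    by_contra hall
    push Not at hall
    set π := pullback.fst X.hom (Neron.genPt R)
    obtain ⟨V, hV, ε, hε⟩ := InvX.exists_frame hM (rr (genericPoint X.left))
    have hVtop : (π ≫ rr) ⁻¹ᵁ V = ⊤ := top_le_iff.1 fun c _ => by
      show rr (π c) ∈ V
      rw [hall _ ((range_genFst X).le ⟨c, rfl⟩)]
      exact hV
    have htr : Triv ((Scheme.Modules.pullback (π ≫ rr)).obj (Twist.twistProjSpace k R 1)) :=
      triv_of_frame ((InvX.isFrame_pullElt (π ≫ rr) hε).res hVtop.ge)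
    have htr' : Triv ((Scheme.Modules.pullback π).obj L) :=
      Triv.of_iso ((Scheme.Modules.pullback π).mapIso τ) ((triv_comp_iff π rr).2 htr)
    exact hdeg.ne' (curveDeg_eq_zero_of_iso htr'.some)
  -- contracted pairs lie on the given curves
  have hsame : ∀ ξ z : X.left, ξ ⤳ z → ξ ≠ z → ν ξ = ν z → ∃ i, ξ ∈ supp (Γ i) := by
    intro ξ z h hne hνe
    have hre : rr ξ = rr z := by rw [← hrν, ← hrν, hνe]
    have hgen : ∀ a b : X.left, a ⤳ b → a ≠ b → a ≠ genericPoint X.left → (X.hom.base b).asIdeal = ⊥ → False := by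
      intro a b hab hab' ha hb'
      obtain ⟨c, hbc, hc⟩ := SchTop.exists_isClosed_specializes b
      have hcb : b ≠ c := fun e => asIdeal_ne_bot_of_isClosed X.hom hRf hc (e ▸ hb')
      exact hab' (middle_eq_of_chain hdim.le (genericPoint_specializes a) ha.symm hab hbc hcb)
    by_cases hz0 : (X.hom.base z).asIdeal = ⊥
    · exfalso
      by_cases hξη : ξ = genericPoint X.left
      swap
      · exact hgen ξ z h hne hξη hz0
      subst hξη
      have h1 : rr (genericPoint X.left) ⤳ rr w₀ := (genericPoint_specializes w₀).map rr.continuous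
      have h2 : rr w₀ ∈ rr '' closure {z} :=
        h1.mem_closed (rr.isClosedMap _ isClosed_closure) ⟨z, subset_closure rfl, hre.symm⟩
      obtain ⟨w', hw', hw'r⟩ := h2
      have hw'0 : (X.hom.base w').asIdeal = ⊥ := by rw [← hbase, hw'r, hbase]; exact hw₀
      by_cases hzw : z = w'
      · exact hw₀η (by rw [← hw'r, ← hzw, ← hre])
      · exact hgen z w' (specializes_iff_mem_closure.2 hw') hzw (Ne.symm hne) hw'0
    have hξs : X.hom.base ξ = IsLocalRing.closedPoint R := by
      rw [← hbase, hre, hbase]; exact base_eq_closedPoint hz0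
    obtain ⟨E, hE⟩ := exists_vertComp hdim hξs h hne
    haveI := E.isIntegral
    haveI := E.isClosedImmersion
    have hξη : genericPoint X.left ≠ ξ :=
      ne_genericPoint X.hom (by rw [hξs]; exact IsDiscreteValuationRing.not_a_field R)
    have hzc := isClosed_singleton_of_chain hdim.le (genericPoint_specializes ξ) hξη h hne
    have hqc : IsClosed ({rr z} : Set (CohB1.ProjSpace k R)) := by
      have := rr.isClosedMap _ hzc
      rwa [Set.image_singleton] at this
    have hall : ∀ c, (E.ι ≫ rr) c = rr z := fun c => by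
      have hc : E.ι c ∈ closure ({ξ} : Set X.left) := hE.le ⟨c, rfl⟩
      have h1 : rr z ⤳ rr (E.ι c) := hre ▸ (specializes_iff_mem_closure.2 hc).map rr.continuous
      exact h1.mem_closed hqc rfl
    obtain ⟨V, hV, ε, hε⟩ := InvX.exists_frame hM (rr z)
    have hVtop : (E.ι ≫ rr) ⁻¹ᵁ V = ⊤ := top_le_iff.1 fun c _ => by
      show (E.ι ≫ rr) c ∈ V
      rw [hall c]; exact hV
    have htr : Triv ((Scheme.Modules.pullback (E.ι ≫ rr)).obj (Twist.twistProjSpace k R 1)) :=
      triv_of_frame ((InvX.isFrame_pullElt (E.ι ≫ rr) hε).res hVtop.ge)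
    obtain ⟨i, hi⟩ := (htriv E).1
      (Triv.of_iso ((Scheme.Modules.pullback E.ι).mapIso τ) ((triv_comp_iff E.ι rr).2 htr))
    exact ⟨i, hi ▸ hE.ge (subset_closure rfl)⟩
  set S := ⋃ i, supp (Γ i) with hS
  have hfix : ∀ x ∉ S, ∀ y, ν y = ν x → y = x := by
    intro x hx
    refine eq_of_isolated ν.continuous (hconn (ν x)) (fun y hy hyx => ?_) (fun y hy hxy => ?_)
    · by_contra hne
      obtain ⟨i, hi⟩ := hsame y x hyx hne hy
      exact hx (Set.mem_iUnion.2 ⟨i, hyx.mem_closed (isClosed_supp (Γ i)) hi⟩)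
    · by_contra hne
      obtain ⟨i, hi⟩ := hsame x y hxy (Ne.symm hne) (Eq.symm hy)
      exact hx (Set.mem_iUnion.2 ⟨i, hi⟩)
  let Y : Over (Spec (CommRingCat.of R)) := Over.mk (φ ≫ p)
  haveI : IsIntegral Y.left := inferInstanceAs (IsIntegral rr.normalization)
  let f : X ⟶ Y := Over.homMk ν (by rw [← hrr, ← hνφ]; exact (Category.assoc _ _ _).symm)
  haveI : IsProper Y.hom := inferInstanceAs (IsProper (φ ≫ p))
  refine ⟨Y, f, inferInstanceAs (IsIntegral rr.normalization),
    isIntegrallyClosed_stalk_of_bijective_app hnor ν hb, ?_, ?_, ?_, fun i => ?_, ?_, fun V hV => ?_⟩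
  · refine le_antisymm ((DimLift.le_of_specializing ν.base ν.surjective
      (IsClosedMap.specializingMap ν.isClosedMap)).trans hdim.le) ?_
    obtain ⟨c, hwc, hc⟩ := SchTop.exists_isClosed_specializes w₀
    have hne₁ : ν (genericPoint X.left) ≠ ν w₀ := fun e => hw₀η (by rw [← hrν, ← hrν, e])
    have hne₂ : ν w₀ ≠ ν c := fun e => asIdeal_ne_bot_of_isClosed X.hom hRf hc (by
      rw [← hbase, ← hrν, ← e, hrν, hbase]; exact hw₀)
    let t : LTSeries (IrreducibleCloseds rr.normalization) :=
      ⟨2, ![clo (ν c), clo (ν w₀), clo (ν (genericPoint X.left))], fun i => by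
        fin_cases i
        exacts [clo_lt (hwc.map ν.continuous) hne₂,
          clo_lt ((genericPoint_specializes w₀).map ν.continuous) hne₁]⟩
    exact Order.LTSeries.length_le_krullDim t
  · refine DescLib.flat_of_dominant_integral _ (PrimeSpectrum.ext ?_)
    have hgen : genericPoint rr.normalization = ν (genericPoint X.left) := by
      obtain ⟨a, ha⟩ := ν.surjective (genericPoint rr.normalization)
      exact (((genericPoint_specializes a).map ν.continuous).trans (specializes_of_eq ha)).antisymm
        (genericPoint_specializes _) |>.eq.symm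
    show (p (φ (genericPoint rr.normalization))).asIdeal = ⊥
    rw [hgen, hrν, hbase]
    exact asIdeal_eq_bot_genericPoint X.hom
  · haveI : CompactSpace rr.normalization := QuasiCompact.compactSpace_of_compactSpace Y.hom
    exact Projective.isProjectiveOver_of_isAmple Y (L := (Scheme.Modules.pullback φ).obj (Twist.twistProjSpace k R 1))
      (ShStabX.isAmple_pullback_affine φ (isAmple_twist k))
  · refine ⟨ν (Models.genPtOf R X (Γ i)), Set.Subset.antisymm ?_ (Set.singleton_subset_iff.2 ?_)⟩
    · rintro _ ⟨c, rfl⟩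
      exact hconst i _ ⟨c, rfl⟩ _ (genPtOf_mem (Γ i))
    · obtain ⟨c, hc⟩ := genPtOf_mem (Γ i)
      exact ⟨c, by rw [← hc]; rfl⟩
  · show ν ⁻¹' (ν '' S) = S
    refine Set.Subset.antisymm (fun x hx => ?_) (Set.subset_preimage_image _ _)
    by_contra hxS
    obtain ⟨z, hz, hzx⟩ := hx
    exact hxS (hfix x hxS z hzx ▸ hz)
  · show IsIso (ν ∣_ V)
    have hVS : ∀ x, ν x ∈ V → x ∉ S := fun x hx hxS =>
      Set.eq_empty_iff_forall_notMem.1 hV (ν x) ⟨hx, x, hxS, rfl⟩
    haveI : IsProper (ν ∣_ V) := MorphismProperty.of_isPullback (isPullback_morphismRestrict ν V).flip inferInstance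
    haveI : LocallyQuasiFinite (ν ∣_ V) := LocallyQuasiFinite.of_finite_preimage_singleton _ fun v =>
      Set.Subsingleton.finite fun a ha b hb' => Subtype.ext (hfix b.1 (hVS b.1 b.2) a.1 (by
        have ea := congrArg Subtype.val (show (ν ∣_ V) a = v from ha)
        have eb := congrArg Subtype.val (show (ν ∣_ V) b = v from hb')
        rw [morphismRestrict_base_coe] at ea eb
        exact ea.trans eb.symm))
    haveI : IsFinite (ν ∣_ V) := IsFinite.of_isProper_of_locallyQuasiFinite _
    refine isIso_of_affine_bijective_app _ fun U => ?_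
    rw [morphismRestrict_app]
    exact ((ConcreteCategory.bijective_of_isIso (X.left.presheaf.map (eqToHom _).op)).comp (hb (V.ι ''ᵁ U)))

end Groth.Agent.ArSurfBase.SemiAmple
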