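import Mathlib.RingTheory.DedekindDomain.AdicValuation
import Mathlib.Order.Filter.AtTopBot.Basic
import Mathlib.Algebra.Order.Archimedean.Basic

/-! # Weak approximation for finitely many discrete valuations of a field -/

set_option autoImplicit false
set_option linter.unusedSectionVars false

universe u

open WithZero Filter

namespace Groth.Agent.ArSurfBase.WeakApprox

variable {K : Type u} [Field K]

/-- Normalised discrete valuations of a field. -/
def DVal (K : Type u) [Field K] : Type u :=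
  {v : Valuation K (WithZero (Multiplicative ℤ)) // Function.Surjective v}

theorem val_ne_zero (P : DVal K) {x : K} (hx : x ≠ 0) : P.1 x ≠ 0 := by simpa using hx

theorem exists_val_eq_exp (P : DVal K) (n : ℤ) : ∃ t : K, t ≠ 0 ∧ P.1 t = exp n := by
  obtain ⟨t, ht⟩ := P.2 (exp n)
  exact ⟨t, fun h => by simp [h] at ht; exact exp_ne_zero ht.symm, ht⟩

theorem exists_unif (P : DVal K) : ∃ t : K, t ≠ 0 ∧ P.1 t = exp (-1) := exists_val_eq_exp P _

theorem place_eq_of_le {P Q : DVal K} (h : ∀ x : K, P.1 x ≤ 1 → Q.1 x ≤ 1) : P = Q := by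
  obtain ⟨t, ht0, ht⟩ := exists_unif P
  set c := log (Q.1 t)
  have key : ∀ x : K, x ≠ 0 → log (Q.1 x) = -log (P.1 x) * c := by
    intro x hx
    have hu0 : x / t ^ (-log (P.1 x)) ≠ 0 := div_ne_zero hx (zpow_ne_zero _ ht0)
    have hu : P.1 (x / t ^ (-log (P.1 x))) = 1 := by
      rw [map_div₀, map_zpow₀, ht, ← exp_zsmul, div_eq_one_iff_eq exp_ne_zero]
      conv_lhs => rw [← exp_log (val_ne_zero P hx)]
      simp
    have h1 := h _ hu.le
    have h2 := h _ (show P.1 (x / t ^ (-log (P.1 x)))⁻¹ ≤ 1 by rw [map_inv₀, hu, inv_one])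
    have h3 : Q.1 (x / t ^ (-log (P.1 x))) = 1 := by
      refine le_antisymm h1 ?_
      rwa [map_inv₀, inv_le_one₀ (zero_lt_iff.mpr (val_ne_zero Q hu0))] at h2
    have h4 := congrArg log h3
    rw [map_div₀, map_zpow₀, log_div (val_ne_zero Q hx) (zpow_ne_zero _ (val_ne_zero Q ht0)),
      log_zpow, log_one, smul_eq_mul, sub_eq_zero] at h4
    exact h4
  have hc : c = -1 := by
    have h0 : Q.1 t ≤ 1 := h t (by rw [ht, ← exp_zero, exp_le_exp]; norm_num)
    rw [← exp_log (val_ne_zero Q ht0), ← exp_zero, exp_le_exp] at h0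
    obtain ⟨s, hs0, hs⟩ := exists_unif Q
    have := key s hs0
    rw [hs, log_exp] at this
    have h1 : (-c) * (-log (P.1 s)) = 1 := by linarith
    have := Int.eq_one_of_mul_eq_one_right (show 0 ≤ -c by omega) h1
    omega
  refine Subtype.ext (Valuation.ext fun x => ?_)
  rcases eq_or_ne x 0 with rfl | hx
  · simp
  · rw [← exp_log (val_ne_zero P hx), ← exp_log (val_ne_zero Q hx), key x hx, hc]
    congr 1; ring

theorem eventually_lt_pow {a : WithZero (Multiplicative ℤ)} (ha : 1 < a)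
    (b : WithZero (Multiplicative ℤ)) : ∀ᶠ N : ℕ in atTop, b < a ^ N := by
  have ha0 : a ≠ 0 := (zero_lt_one.trans ha).ne'
  rw [← exp_log ha0, ← exp_zero, exp_lt_exp] at ha
  rcases eq_or_ne b 0 with rfl | hb
  · exact Eventually.of_forall fun N => zero_lt_iff.mpr (pow_ne_zero _ ha0)
  · refine eventually_atTop.mpr ⟨(log b + 1).toNat, fun N hN => ?_⟩
    rw [← exp_log hb, ← exp_log ha0, ← exp_nsmul, exp_lt_exp, nsmul_eq_mul]
    have : (log b + 1) ≤ N := by omega
    nlinarith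

theorem eventually_pow_le {a : WithZero (Multiplicative ℤ)} (ha : a < 1)
    {b : WithZero (Multiplicative ℤ)} (hb : b ≠ 0) : ∀ᶠ N : ℕ in atTop, a ^ N ≤ b := by
  rcases eq_or_ne a 0 with rfl | ha0
  · exact eventually_atTop.mpr ⟨1, fun N hN => by simp [zero_pow (by omega : N ≠ 0)]⟩
  · have : 1 < a⁻¹ := (one_lt_inv₀ (zero_lt_iff.mpr ha0)).mpr ha
    filter_upwards [eventually_lt_pow this b⁻¹] with N hN
    rw [inv_pow] at hN
    exact ((inv_lt_inv₀ (zero_lt_iff.mpr hb) (zero_lt_iff.mpr (pow_ne_zero _ ha0))).mp hN).le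

theorem exists_sep_two {P Q : DVal K} (h : Q ≠ P) : ∃ z : K, P.1 z < 1 ∧ 1 < Q.1 z := by
  obtain ⟨a, haP, haQ⟩ : ∃ a, P.1 a ≤ 1 ∧ 1 < Q.1 a := by
    by_contra! h'
    exact h (place_eq_of_le h').symm
  obtain ⟨b, hb0, hb⟩ := exists_unif P
  obtain ⟨N, hN⟩ := (eventually_lt_pow haQ (Q.1 b)⁻¹).exists
  refine ⟨a ^ N * b, ?_, ?_⟩
  · rw [map_mul, map_pow]
    refine (mul_le_mul_left (pow_le_one₀ zero_le haP) _).trans_lt ?_
    rw [one_mul, hb, ← exp_zero, exp_lt_exp]; omega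
  · rw [map_mul, map_pow]
    rwa [← inv_lt_iff_one_lt_mul₀ (zero_lt_iff.mpr (val_ne_zero Q hb0))]

theorem exists_sep (S : Finset (DVal K)) {P : DVal K} (hP : P ∉ S) :
    ∃ z : K, P.1 z < 1 ∧ ∀ Q ∈ S, 1 < Q.1 z := by
  classical
  induction S using Finset.induction_on with
  | empty => exact ⟨0, by simp, by simp⟩
  | insert R S hR ih =>
    simp only [Finset.mem_insert, not_or] at hP
    obtain ⟨z, hzP, hzS⟩ := ih hP.2
    obtain ⟨w, hwP, hwR⟩ := exists_sep_two (Ne.symm hP.1)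
    rcases lt_trichotomy 1 (R.1 z) with h | h | h
    · exact ⟨z, hzP, Finset.forall_mem_insert .. |>.mpr ⟨h, hzS⟩⟩
    · have hw0 : w ≠ 0 := by rintro rfl; simp at hwR
      have hev : ∀ᶠ N : ℕ in atTop, ∀ Q ∈ S, (Q.1 w)⁻¹ < Q.1 z ^ N :=
        (eventually_all_finset S).mpr fun Q hQ => eventually_lt_pow (hzS Q hQ) _
      obtain ⟨N, hN⟩ := hev.exists
      refine ⟨z ^ N * w, ?_, Finset.forall_mem_insert .. |>.mpr ⟨?_, fun Q hQ => ?_⟩⟩
      · rw [map_mul, map_pow]
        exact (mul_le_mul_left (pow_le_one₀ zero_le hzP.le) _).trans_lt (by rwa [one_mul])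
      · rw [map_mul, map_pow, ← h, one_pow, one_mul]; exact hwR
      · rw [map_mul, map_pow, ← inv_lt_iff_one_lt_mul₀ (zero_lt_iff.mpr (val_ne_zero Q hw0))]
        exact hN Q hQ
    · have hev : ∀ᶠ N : ℕ in atTop, ∀ Q ∈ S, max 1 (Q.1 w) < Q.1 z ^ N :=
        (eventually_all_finset S).mpr fun Q hQ => eventually_lt_pow (hzS Q hQ) _
      obtain ⟨N, hN, hN0⟩ := (hev.and (eventually_ge_atTop 1)).exists
      refine ⟨z ^ N + w, ?_, Finset.forall_mem_insert .. |>.mpr ⟨?_, fun Q hQ => ?_⟩⟩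
      · refine (P.1.map_add _ _).trans_lt (max_lt ?_ hwP)
        rw [map_pow]; exact pow_lt_one₀ zero_le hzP (by omega)
      · rw [Valuation.map_add_eq_of_lt_right]
        · exact hwR
        · rw [map_pow]; exact (pow_lt_one₀ zero_le h (by omega)).trans hwR
      · rw [Valuation.map_add_eq_of_lt_left]
        · rw [map_pow]; exact (le_max_left _ _).trans_lt (hN Q hQ)
        · rw [map_pow]; exact (le_max_right _ _).trans_lt (hN Q hQ)

theorem exists_one (S : Finset (DVal K)) {P : DVal K} (hP : P ∉ S) (m : ℤ) :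
    ∃ e : K, P.1 (e - 1) ≤ exp (-m) ∧ ∀ Q ∈ S, Q.1 e ≤ exp (-m) := by
  obtain ⟨z, hzP, hzS⟩ := exists_sep S hP
  have h1 : ∀ᶠ N : ℕ in atTop, P.1 z ^ N ≤ exp (-m) := eventually_pow_le hzP exp_ne_zero
  have h2 : ∀ᶠ N : ℕ in atTop, ∀ Q ∈ S, max 1 (exp m) < Q.1 z ^ N :=
    (eventually_all_finset S).mpr fun Q hQ => eventually_lt_pow (hzS Q hQ) _
  obtain ⟨N, ⟨hN1, hN2⟩, hN0⟩ := ((h1.and h2).and (eventually_ge_atTop 1)).exists
  have hP1 : P.1 (1 + z ^ N) = 1 :=
    P.1.map_one_add_of_lt (by rw [map_pow]; exact pow_lt_one₀ zero_le hzP (by omega))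
  have hne : 1 + z ^ N ≠ 0 := fun h => by simp [h] at hP1
  refine ⟨(1 + z ^ N)⁻¹, ?_, fun Q hQ => ?_⟩
  · have : (1 + z ^ N)⁻¹ - 1 = -(z ^ N) * (1 + z ^ N)⁻¹ := by field_simp; ring
    rw [this, map_mul, Valuation.map_neg, map_inv₀, hP1, map_pow, inv_one, mul_one]
    exact hN1
  · have h := hN2 Q hQ
    rw [max_lt_iff] at h
    have hQ1 : Q.1 (1 + z ^ N) = Q.1 z ^ N := by
      rw [Valuation.map_add_eq_of_lt_right Q.1 (by simpa using h.1), map_pow]
    rw [map_inv₀, hQ1, exp_neg]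
    exact inv_anti₀ (zero_lt_iff.mpr exp_ne_zero) h.2.le

/-- Weak approximation for finitely many places. -/
theorem exists_approx (S : Finset (DVal K)) (x : DVal K → K) (m : DVal K → ℤ) :
    ∃ y : K, ∀ P ∈ S, P.1 (y - x P) ≤ exp (-(m P)) := by
  classical
  let M : ℕ := (S ×ˢ S).sup fun p => (m p.2 + log (p.2.1 (x p.1))).toNat
  have hM : ∀ P ∈ S, ∀ Q ∈ S, ∀ a : K, Q.1 a ≤ exp (-(M : ℤ)) →
      Q.1 (x P * a) ≤ exp (-(m Q)) := by
    intro P hP Q hQ a ha
    rcases eq_or_ne (x P) 0 with h0 | h0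
    · simp [h0]
    · have : (m Q + log (Q.1 (x P))).toNat ≤ M :=
        Finset.le_sup (f := fun p : DVal K × DVal K => (m p.2 + log (p.2.1 (x p.1))).toNat)
          (Finset.mk_mem_product hP hQ)
      rw [map_mul]
      refine (mul_le_mul_right ha _).trans ?_
      rw [← exp_log (val_ne_zero Q h0), ← exp_add, exp_le_exp]; omega
  have := fun P : DVal K => exists_one (S.erase P) (Finset.notMem_erase P S) (M : ℤ)
  choose e he1 he2 using this
  refine ⟨∑ P ∈ S, x P * e P, fun Q hQ => ?_⟩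
  rw [← Finset.add_sum_erase S _ hQ, add_sub_right_comm, ← mul_sub_one]
  refine (Q.1.map_add _ _).trans (max_le (hM Q hQ Q hQ _ (he1 Q)) ?_)
  refine Valuation.map_sum_le _ fun P hP => ?_
  rw [Finset.mem_erase] at hP
  exact hM P hP.2 Q hQ _ (he2 P Q (Finset.mem_erase.mpr ⟨hP.1.symm, hQ⟩))

theorem exists_approx_eq (S : Finset (DVal K)) (x : DVal K → K) (m : DVal K → ℤ) :
    ∃ y : K, ∀ P ∈ S, P.1 (y - x P) = exp (-(m P)) := by
  have := fun P : DVal K => exists_val_eq_exp P (-(m P))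
  choose u hu0 hu using this
  obtain ⟨y, hy⟩ := exists_approx S (fun P => x P + u P) (fun P => m P + 1)
  refine ⟨y, fun P hP => ?_⟩
  have : y - x P = (y - (x P + u P)) + u P := by ring
  rw [this, Valuation.map_add_eq_of_lt_right]
  · exact hu P
  · refine (hy P hP).trans_lt ?_
    rw [hu P, exp_lt_exp]; omega


end Groth.Agent.ArSurfBase.WeakApprox
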